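import Cfsg.Agent.Chev.Semisimple.Affine
import Cfsg.Agent.Chev.All

/-! The fundamental alcove of `chevE7`. -/

set_option autoImplicit false
set_option maxRecDepth 100000

namespace Cfsg.Agent.Chev.SS

open Cfsg.Lie Cfsg.Agent.Chev

universe u

/-- The alcove data of `chevE7`. -/
def alcoveE7 : Alcove chevE7 :=
  ⟨2, [[4, 4, 6, 8, 6, 4, 2], [4, 7, 8, 12, 9, 6, 3], [6, 8, 12, 16, 12, 8, 4], [8, 12, 16, 24, 18, 12, 6], [6, 9, 12, 18, 15, 10, 5], [4, 6, 8, 12, 10, 8, 4], [2, 3, 4, 6, 5, 4, 3]], 18, [0, 2, 3, 1, 4, 3, 2, 0, 5, 4, 3, 1, 2, 3, 4, 5, 6], 6⟩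

theorem alcoveE7_u0 : ∀ i ∈ alcoveE7.u0, i < chevE7.rank := by decide +kernel

theorem alcoveE7_low : alcoveE7.low < half chevE7 := by decide +kernel

theorem alcoveE7_inv : ∀ a j : Fin chevE7.rank,
    ∑ i : Fin chevE7.rank, alcoveE7.mat a i * chevE7.cartan j (chevE7.simple i) =
      if a = j then alcoveE7.e else 0 := by decide +kernel

theorem alcoveE7_rho : ∀ s : Fin chevE7.nroots,
    0 < ip chevE7 alcoveE7.rho s + alcoveE7.e * alcoveE7.h * offs chevE7 s ∧
      ip chevE7 alcoveE7.rho s + alcoveE7.e * alcoveE7.h * (offs chevE7 s - 1) < 0 := by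
  decide +kernel

theorem alcoveE7_coord : ∀ (s : Fin chevE7.nroots) (j : Fin chevE7.rank),
    chevE7.cartan j s =
      ∑ i : Fin chevE7.rank, alcoveE7.coord s i * chevE7.cartan j (chevE7.simple i) := by
  decide +kernel

theorem alcoveE7_neg : ∀ (s : Fin chevE7.nroots) (i : Fin chevE7.rank),
    alcoveE7.coord (chevE7.neg s) i = -alcoveE7.coord s i := by
  decide +kernel

theorem alcoveE7_pos : ∀ s : Fin chevE7.nroots, half chevE7 ≤ (s : ℕ) →
    (∀ i : Fin chevE7.rank, 0 ≤ alcoveE7.coord s i ∧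
        alcoveE7.coord s i ≤ -alcoveE7.coord alcoveE7.low i) ∧
      ∃ i : Fin chevE7.rank, 0 < alcoveE7.coord s i := by
  decide +kernel

theorem alcoveE7_min : alcoveE7.minusculeB = true := by decide +kernel

theorem alcoveE7_valid : alcoveE7.Valid where
  e_pos := by decide
  u0_lt := alcoveE7_u0
  i0_lt := by decide
  low_neg := alcoveE7_low
  inv := alcoveE7_inv
  rho_spec := alcoveE7_rho
  coord_spec := alcoveE7_coord
  coord_neg := alcoveE7_neg
  coord_pos := alcoveE7_pos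
  minuscule := alcoveE7_min

end Cfsg.Agent.Chev.SS
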