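import Cfsg.Agent.Chev.EigenTorus
import Cfsg.Agent.Chev.Orbits

/-!
The stabiliser of a point modulo the coroot lattice is generated by reflections: a descent
argument in the affine Weyl group.
-/

set_option autoImplicit false

namespace Cfsg.Agent.Chev.SS

open Cfsg.Lie Cfsg.Agent.Chev

universe u

/-- The value of a root at an exponent vector. -/
def ip (D : ChevalleyDatum) (v : Fin D.rank → ℤ) (s : ℕ) : ℤ :=
  ∑ j : Fin D.rank, v j * D.cartan j s

/-- The negative roots need one more step. -/
def offs (D : ChevalleyDatum) (s : ℕ) : ℤ := if s < half D then 1 else 0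

/-- The form given by the roots. -/
def rform (D : ChevalleyDatum) (u v : Fin D.rank → ℤ) : ℤ :=
  ∑ s : Fin D.nroots, ip D u s * ip D v s

/-- The unit exponent vector. -/
def unitV (D : ChevalleyDatum) (i : Fin D.rank) : Fin D.rank → ℤ := fun a => if a = i then 1 else 0

/-- Data for the fundamental alcove. -/
structure Alcove (D : ChevalleyDatum) where
  e : ℤ
  B : List (List ℤ)
  h : ℤ
  u0 : List ℕ
  i0 : ℕ

variable {D : ChevalleyDatum}

namespace Alcove

variable (C : Alcove D)

/-- Entries of the scaled inverse Cartan matrix. -/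
def mat (a i : Fin D.rank) : ℤ := (C.B.getD a []).getD i 0

/-- An interior point. -/
def rho (a : Fin D.rank) : ℤ := ∑ i : Fin D.rank, C.mat a i

/-- The coordinates of a root in the fundamental ones. -/
def coord (s : ℕ) (i : Fin D.rank) : ℤ := (∑ a : Fin D.rank, D.cartan a s * C.mat a i) / C.e

/-- The lowest root. -/
def low : ℕ := C.u0.foldr (fun i v => D.reflectRoot i v) (D.simple C.i0)

/-- The candidates for a minuscule vector. -/
def minusculeB : Bool :=
  (List.sections (List.replicate D.rank [(-1 : ℤ), 0, 1])).all fun p =>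
    p.all (fun x => decide (x = 0)) ||
      ((List.finRange D.rank).any fun a => decide
        (¬ C.e ∣ ∑ i : Fin D.rank, C.mat a i * p.getD i 0)) ||
      (List.range D.nroots).any fun s => decide
        (2 ≤ (∑ i : Fin D.rank, C.coord s i * p.getD i 0).natAbs)

/-- The conditions on the data. -/
structure Valid : Prop where
  e_pos : 0 < C.e
  u0_lt : ∀ i ∈ C.u0, i < D.rank
  i0_lt : C.i0 < D.rank
  low_neg : C.low < half D
  inv : ∀ a j : Fin D.rank,
    ∑ i : Fin D.rank, C.mat a i * D.cartan j (D.simple i) = if a = j then C.e else 0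
  rho_spec : ∀ s : Fin D.nroots, 0 < ip D C.rho s + C.e * C.h * offs D s ∧
    ip D C.rho s + C.e * C.h * (offs D s - 1) < 0
  coord_spec : ∀ (s : Fin D.nroots) (j : Fin D.rank),
    D.cartan j s = ∑ i : Fin D.rank, C.coord s i * D.cartan j (D.simple i)
  coord_neg : ∀ (s : Fin D.nroots) (i : Fin D.rank),
    C.coord (D.neg s) i = -C.coord s i
  coord_pos : ∀ s : Fin D.nroots, half D ≤ (s : ℕ) →
    (∀ i : Fin D.rank, 0 ≤ C.coord s i ∧ C.coord s i ≤ -C.coord C.low i) ∧
      ∃ i : Fin D.rank, 0 < C.coord s i
  minuscule : C.minusculeB = true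

end Alcove

theorem ip_add (u v : Fin D.rank → ℤ) (s : ℕ) : ip D (u + v) s = ip D u s + ip D v s := by
  simp [ip, add_mul, Finset.sum_add_distrib]

theorem ip_sub (u v : Fin D.rank → ℤ) (s : ℕ) : ip D (u - v) s = ip D u s - ip D v s := by
  simp [ip, sub_mul, Finset.sum_sub_distrib]

theorem ip_smul (a : ℤ) (v : Fin D.rank → ℤ) (s : ℕ) : ip D (a • v) s = a * ip D v s := by
  simp [ip, Finset.mul_sum, mul_assoc]

theorem ip_unitV (i : Fin D.rank) (s : ℕ) : ip D (unitV D i) s = D.cartan i s := by
  simp [ip, unitV, ite_mul]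

theorem reflV_lin (i : Fin D.rank) (u v : Fin D.rank → ℤ) (a b : ℤ) :
    Eigen.reflV D i (a • u + b • v) = a • Eigen.reflV D i u + b • Eigen.reflV D i v := by
  funext x
  have h : ∑ l : Fin D.rank, (a * u l + b * v l) * D.cartan l (D.simple i) =
      a * (∑ l : Fin D.rank, u l * D.cartan l (D.simple i)) +
        b * ∑ l : Fin D.rank, v l * D.cartan l (D.simple i) := by
    simp only [Finset.mul_sum, ← Finset.sum_add_distrib]
    exact Finset.sum_congr rfl fun l _ => by ring
  simp only [Eigen.reflV, Pi.add_apply, Pi.smul_apply, smul_eq_mul, h]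
  split <;> ring

theorem wordV_lin (w : List (Fin D.rank)) (u v : Fin D.rank → ℤ) (a b : ℤ) :
    Eigen.wordV D w (a • u + b • v) = a • Eigen.wordV D w u + b • Eigen.wordV D w v := by
  induction w with
  | nil => rfl
  | cons i w ih =>
    show Eigen.reflV D i (Eigen.wordV D w _) = _
    rw [ih, reflV_lin]
    rfl

theorem wordV_add (w : List (Fin D.rank)) (u v : Fin D.rank → ℤ) :
    Eigen.wordV D w (u + v) = Eigen.wordV D w u + Eigen.wordV D w v := by
  simpa using wordV_lin w u v 1 1

theorem wordV_sub (w : List (Fin D.rank)) (u v : Fin D.rank → ℤ) :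
    Eigen.wordV D w (u - v) = Eigen.wordV D w u - Eigen.wordV D w v := by
  simpa [sub_eq_add_neg] using wordV_lin w u v 1 (-1)

theorem wordV_smul (w : List (Fin D.rank)) (a : ℤ) (v : Fin D.rank → ℤ) :
    Eigen.wordV D w (a • v) = a • Eigen.wordV D w v := by
  simpa using wordV_lin w v v a 0

theorem wordV_append (w w' : List (Fin D.rank)) (v : Fin D.rank → ℤ) :
    Eigen.wordV D (w ++ w') v = Eigen.wordV D w (Eigen.wordV D w' v) := by
  simp [Eigen.wordV, List.foldr_append]

variable (hF : Facts.{u} D)
include hF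

theorem reflV_reflV (i : Fin D.rank) (v : Fin D.rank → ℤ) :
    Eigen.reflV D i (Eigen.reflV D i v) = v := by
  funext a
  have h : ∑ l : Fin D.rank, Eigen.reflV D i v l * D.cartan l (D.simple i) =
      -∑ l : Fin D.rank, v l * D.cartan l (D.simple i) := by
    simp only [Eigen.reflV, sub_mul, Finset.sum_sub_distrib, ite_mul, zero_mul,
      Finset.sum_ite_eq', Finset.mem_univ, if_true, hF.cartan_self i i.2]
    ring
  unfold Eigen.reflV at h ⊢
  simp only [h]
  split <;> ring

theorem wordV_reverse (w : List (Fin D.rank)) (v : Fin D.rank → ℤ) :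
    Eigen.wordV D w.reverse (Eigen.wordV D w v) = v := by
  induction w with
  | nil => rfl
  | cons i w ih =>
    rw [List.reverse_cons, wordV_append]
    show Eigen.wordV D w.reverse (Eigen.reflV D i (Eigen.reflV D i (Eigen.wordV D w v))) = v
    rw [reflV_reflV hF, ih]

theorem wordV_reverse' (w : List (Fin D.rank)) (v : Fin D.rank → ℤ) :
    Eigen.wordV D w (Eigen.wordV D w.reverse v) = v := by
  simpa using wordV_reverse hF w.reverse v

theorem ip_wordV (w : List (Fin D.rank)) (v : Fin D.rank → ℤ) (s : Fin D.nroots) :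
    ip D (Eigen.wordV D w v) (pWord hF w s : ℕ) = ip D v (s : ℕ) := by
  induction w with
  | nil => rfl
  | cons i w ih =>
    rw [pWord_cons, Equiv.Perm.mul_apply, wPerm_val, ← ih]
    set r := pWord hF w s
    set u := Eigen.wordV D w v
    have e : ∀ l : Fin D.rank, Eigen.reflV D i u l * D.cartan l (D.reflectRoot i r) =
        u l * D.cartan l r - D.cartan i r * (u l * D.cartan l (D.simple i)) -
          if l = i then (∑ m : Fin D.rank, u m * D.cartan m (D.simple i)) *
            (D.cartan i r - D.cartan i r * D.cartan i (D.simple i)) else 0 := by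
      intro l
      rw [hF.cartan_refl i i.2 r r.2 l l.2, Eigen.reflV]
      by_cases h : l = i
      · subst h; rw [if_pos rfl, if_pos rfl]; ring
      · rw [if_neg h, if_neg h]; ring
    show ∑ l : Fin D.rank, Eigen.reflV D i u l * D.cartan l (D.reflectRoot i r) = _
    simp only [e, Finset.sum_sub_distrib, Finset.sum_ite_eq', Finset.mem_univ, if_true,
      ← Finset.mul_sum, hF.cartan_self i i.2]
    show _ = ip D u r
    rw [ip]
    ring

theorem ip_negF (v : Fin D.rank → ℤ) (s : Fin D.nroots) :
    ip D v (negF hF s : ℕ) = -ip D v (s : ℕ) := by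
  simp only [ip, ← Finset.sum_neg_distrib]
  exact Finset.sum_congr rfl fun j _ => by
    rw [show (negF hF s : ℕ) = D.neg s from rfl, hF.cartan_neg s s.2 j j.2, mul_neg]

theorem rform_wordV (w : List (Fin D.rank)) (u v : Fin D.rank → ℤ) :
    rform D (Eigen.wordV D w u) (Eigen.wordV D w v) = rform D u v := by
  rw [rform, ← Equiv.sum_comp (pWord hF w)]
  exact Finset.sum_congr rfl fun s _ => by rw [ip_wordV hF, ip_wordV hF]

/-- The word of the reflection in the root `pWord u (α_i)`. -/
def reflWord (u : List (Fin D.rank)) (i : Fin D.rank) : List (Fin D.rank) :=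
  u ++ i :: u.reverse

theorem wordV_reflWord (u : List (Fin D.rank)) (i : Fin D.rank) (v : Fin D.rank → ℤ) :
    Eigen.wordV D (reflWord u i) v =
      v - ip D v (pWord hF u (sRoot hF i) : ℕ) • Eigen.wordV D u (unitV D i) := by
  rw [reflWord, wordV_append]
  show Eigen.wordV D u (Eigen.reflV D i (Eigen.wordV D u.reverse v)) = _
  set z := Eigen.wordV D u.reverse v
  have hz : ip D v (pWord hF u (sRoot hF i) : ℕ) = ip D z (D.simple i) := by
    conv_lhs => rw [← wordV_reverse' hF u v]
    exact ip_wordV hF u z (sRoot hF i)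
  have hr : Eigen.reflV D i z = z - ip D z (D.simple i) • unitV D i := by
    funext a
    simp [Eigen.reflV, unitV, ip]
  rw [hr, wordV_sub, wordV_smul, hz, wordV_reverse' hF]

theorem ip_coroot (u : List (Fin D.rank)) (i : Fin D.rank) :
    ip D (Eigen.wordV D u (unitV D i)) (pWord hF u (sRoot hF i) : ℕ) = 2 := by
  rw [ip_wordV hF, ip_unitV]
  exact hF.cartan_self i i.2

theorem rform_coroot (u : List (Fin D.rank)) (i : Fin D.rank) (d : Fin D.rank → ℤ) :
    2 * rform D d (Eigen.wordV D u (unitV D i)) =
      ip D d (pWord hF u (sRoot hF i) : ℕ) *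
        rform D (Eigen.wordV D u (unitV D i)) (Eigen.wordV D u (unitV D i)) := by
  set c := Eigen.wordV D u (unitV D i) with hc
  have h := rform_wordV hF (reflWord u i) d c
  rw [wordV_reflWord hF, wordV_reflWord hF, ip_coroot hF, ← hc] at h
  have e : ∀ a : ℤ, rform D (d - a • c) (c - (2 : ℤ) • c) =
      a * rform D c c - rform D d c := by
    intro a
    simp only [rform, ip_sub, ip_smul, Finset.mul_sum, ← Finset.sum_sub_distrib]
    exact Finset.sum_congr rfl fun s _ => by ring
  rw [e] at h
  linarith

/-- Reflecting in a wall with the other side moves closer to the interior point. -/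
theorem rform_step_lt (u : List (Fin D.rank)) (i : Fin D.rank) (d : Fin D.rank → ℤ) {L P : ℤ}
    (hL : L < 0) (hP : 0 < P) (hd : ip D d (pWord hF u (sRoot hF i) : ℕ) = L - P) :
    rform D (d - L • Eigen.wordV D u (unitV D i)) (d - L • Eigen.wordV D u (unitV D i)) <
      rform D d d := by
  set c := Eigen.wordV D u (unitV D i) with hc
  have hcc : 0 < rform D c c := by
    refine lt_of_lt_of_le (show (0 : ℤ) < 2 * 2 by norm_num) ?_
    refine le_trans (le_of_eq ?_) (Finset.single_le_sum
      (f := fun s : Fin D.nroots => ip D c s * ip D c s) (fun s _ => mul_self_nonneg _)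
      (Finset.mem_univ (pWord hF u (sRoot hF i))))
    rw [hc, ip_coroot hF]
  have h1 := rform_coroot hF u i d
  rw [← hc, hd] at h1
  have e : rform D (d - L • c) (d - L • c) = rform D d d - L * (2 * rform D d c) +
      L * L * rform D c c := by
    simp only [rform, ip_sub, ip_smul, Finset.mul_sum, ← Finset.sum_sub_distrib,
      ← Finset.sum_add_distrib]
    exact Finset.sum_congr rfl fun s _ => by ring
  rw [e, h1]
  have := mul_neg_of_neg_of_pos hL (mul_pos hcc hP)
  nlinarith

/-- The reflection permutations of the roots at which the point is integral. -/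
def fixSub (N : ℤ) (v : Fin D.rank → ℤ) : Subgroup (Equiv.Perm (Fin D.nroots)) :=
  Subgroup.closure {π | ∃ (u : List (Fin D.rank)) (i : Fin D.rank),
    N ∣ ip D v (pWord hF u (sRoot hF i) : ℕ) ∧ π = pWord hF (reflWord u i)}

theorem offs_add_negF (s : Fin D.nroots) : offs D s + offs D (negF hF s : ℕ) = 1 := by
  have := pos_negF_iff hF s
  unfold offs
  split <;> split <;> omega

theorem offs_pWord (w : List (Fin D.rank))
    (h : ∀ s : Fin D.nroots, offs D (pWord hF w s : ℕ) = offs D s) : pWord hF w = 1 := by
  refine eq_one_of_pos hF (pWord_mem hF w) fun i => ?_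
  by_contra hn
  have := h (sRoot hF i)
  rw [offs, offs, if_pos (not_le.1 hn), if_neg (show ¬ (sRoot hF i : ℕ) < half D from not_lt.2 (hF.simple_pos i i.2))] at this
  exact one_ne_zero this

variable {C : Alcove D} (hC : C.Valid)
include hC

theorem ip_eq_coord (v : Fin D.rank → ℤ) (s : Fin D.nroots) :
    ip D v (s : ℕ) = ∑ i : Fin D.rank, C.coord s i * ip D v (D.simple i) := by
  simp only [ip, hC.coord_spec, Finset.mul_sum]
  rw [Finset.sum_comm]
  exact Finset.sum_congr rfl fun i _ => Finset.sum_congr rfl fun j _ => by ring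

theorem ip_simple_injective {v : Fin D.rank → ℤ}
    (h : ∀ i : Fin D.rank, ip D v (D.simple i) = 0) : v = 0 := by
  funext a
  have h1 : ∑ i : Fin D.rank, C.mat a i * ip D v (D.simple i) = C.e * v a := by
    simp only [ip, Finset.mul_sum]
    rw [Finset.sum_comm, Finset.sum_eq_single a (fun j _ hj => ?_)
      (fun h => absurd (Finset.mem_univ a) h)]
    · rw [← (hC.inv a a).trans (if_pos rfl), Finset.sum_mul]
      exact Finset.sum_congr rfl fun i _ => by ring
    · rw [← mul_zero (v j), ← (hC.inv a j).trans (if_neg (Ne.symm hj)), Finset.mul_sum]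
      exact Finset.sum_congr rfl fun i _ => by ring
  rw [Finset.sum_eq_zero (fun i _ => by rw [h i, mul_zero])] at h1
  exact (mul_eq_zero.1 h1.symm).resolve_left hC.e_pos.ne'

theorem eq_zero_of_small {μ : Fin D.rank → ℤ}
    (h : ∀ s : Fin D.nroots, (ip D μ s).natAbs ≤ 1) : μ = 0 := by
  refine ip_simple_injective hF hC fun i => ?_
  set p : List ℤ := List.ofFn fun i : Fin D.rank => ip D μ (D.simple i) with hp
  have hget : ∀ i : Fin D.rank, p.getD i 0 = ip D μ (D.simple i) := fun i => by
    rw [hp, List.getD_eq_getElem _ _ (by simp [i.2])]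
    simp
  have hmem : p ∈ List.sections (List.replicate D.rank [(-1 : ℤ), 0, 1]) := by
    rw [List.mem_sections, hp]
    refine List.forall₂_iff_get.2 ⟨by simp, fun n h1 h2 => ?_⟩
    simp only [List.get_eq_getElem, List.getElem_ofFn, List.getElem_replicate]
    have := h ⟨D.simple n, hF.simple_lt n (by simpa using h1)⟩
    simp only at this
    rw [List.mem_cons, List.mem_cons, List.mem_singleton]
    omega
  have hm := hC.minuscule
  rw [Alcove.minusculeB, List.all_eq_true] at hm
  have := hm p hmem
  simp only [Bool.or_eq_true, List.any_eq_true, List.all_eq_true, decide_eq_true_eq] at this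
  rcases this with (h0 | ⟨a, -, ha⟩) | ⟨s, hs, h2⟩
  · rw [← hget]
    exact h0 _ (by rw [hget, hp, List.mem_ofFn]; exact ⟨i, rfl⟩)
  · refine absurd ⟨μ a, ?_⟩ ha
    rw [← Finset.sum_congr rfl fun i _ => congrArg (C.mat a i * ·) (hget i).symm]
    simp only [ip, Finset.mul_sum]
    rw [Finset.sum_comm, Finset.sum_eq_single a (fun j _ hj => ?_)
      (fun h => absurd (Finset.mem_univ a) h)]
    · rw [← (hC.inv a a).trans (if_pos rfl), Finset.sum_mul]
      exact Finset.sum_congr rfl fun i _ => by ring
    · rw [← mul_zero (μ j), ← (hC.inv a j).trans (if_neg (Ne.symm hj)), Finset.mul_sum]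
      exact Finset.sum_congr rfl fun i _ => by ring
  · rw [List.mem_range] at hs
    have e := ip_eq_coord hF hC μ ⟨s, hs⟩
    simp only [hget] at h2
    rw [← e] at h2
    have := h ⟨s, hs⟩
    omega

omit hF hC in
/-- The walls of the alcove. -/
def wallU (C : Alcove D) (o : Option (Fin D.rank)) : List (Fin D.rank) :=
  match o with
  | some _ => []
  | none => Eigen.toWord D.rank C.u0

omit hF hC in
/-- The node of a wall. -/
def wallI (hC : C.Valid) (o : Option (Fin D.rank)) : Fin D.rank :=
  match o with
  | some i => i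
  | none => ⟨C.i0, hC.i0_lt⟩

omit hF hC in
/-- The root of a wall. -/
def wallR (hF : Facts.{u} D) (hC : C.Valid) (o : Option (Fin D.rank)) : Fin D.nroots :=
  pWord hF (wallU C o) (sRoot hF (wallI hC o))

theorem wallR_none : (wallR hF hC none : ℕ) = C.low := by
  have key : ∀ (w : List ℕ), (∀ i ∈ w, i < D.rank) →
      ∀ r : Fin D.nroots, (pWord hF (Eigen.toWord D.rank w) r : ℕ) =
        w.foldr (fun i v => D.reflectRoot i v) r := by
    intro w
    induction w with
    | nil => intro _ r; rfl
    | cons a w ih =>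
      intro hw r
      have ha : a < D.rank := hw a (by simp)
      have e : Eigen.toWord D.rank (a :: w) = ⟨a, ha⟩ :: Eigen.toWord D.rank w := by
        simp [Eigen.toWord, List.filterMap_cons, ha]
      rw [e, pWord_cons, Equiv.Perm.mul_apply, wPerm_val, ih fun i hi => hw i (by simp [hi])]
      rfl
  exact key C.u0 hC.u0_lt (sRoot hF ⟨C.i0, hC.i0_lt⟩)

/-- A point on the positive side of every wall is in the alcove. -/
theorem all_of_walls {z : Fin D.rank → ℤ} {S : ℤ}
    (h : ∀ o, 0 ≤ ip D z (wallR hF hC o : ℕ) + S * offs D (wallR hF hC o : ℕ))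
    (s : Fin D.nroots) : 0 ≤ ip D z (s : ℕ) + S * offs D s ∧
      ((∀ o, 0 < ip D z (wallR hF hC o : ℕ) + S * offs D (wallR hF hC o : ℕ)) →
        0 < ip D z (s : ℕ) + S * offs D s) := by
  have hsimple : ∀ i : Fin D.rank, 0 ≤ ip D z (D.simple i) := fun i => by
    have := h (some i)
    rwa [show (wallR hF hC (some i) : ℕ) = D.simple i from rfl, offs,
      if_neg (not_lt.2 (hF.simple_pos i i.2)), mul_zero, add_zero] at this
  have hlow : (ip D z C.low + S = ip D z (wallR hF hC none : ℕ) +
      S * offs D (wallR hF hC none : ℕ)) := by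
    rw [wallR_none hF hC, offs, if_pos hC.low_neg, mul_one]
  have hlow2 : ip D z C.low = ∑ i : Fin D.rank, C.coord C.low i * ip D z (D.simple i) :=
    ip_eq_coord hF hC z ⟨C.low, lt_of_lt_of_le hC.low_neg (by rw [hF.nroots_even]; omega)⟩
  by_cases hs : half D ≤ (s : ℕ)
  · obtain ⟨hco, i₀, hi₀⟩ := hC.coord_pos s hs
    rw [offs, if_neg (not_lt.2 hs), mul_zero, add_zero, ip_eq_coord hF hC z s]
    refine ⟨Finset.sum_nonneg fun i _ => mul_nonneg (hco i).1 (hsimple i), fun hstrict => ?_⟩
    refine Finset.sum_pos' (fun i _ => mul_nonneg (hco i).1 (hsimple i))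
      ⟨i₀, Finset.mem_univ _, mul_pos hi₀ ?_⟩
    have := hstrict (some i₀)
    rwa [show (wallR hF hC (some i₀) : ℕ) = D.simple i₀ from rfl, offs,
      if_neg (not_lt.2 (hF.simple_pos i₀ i₀.2)), mul_zero, add_zero] at this
  · obtain ⟨hco, -⟩ := hC.coord_pos (negF hF s) ((pos_negF_iff hF s).2 (not_le.1 hs))
    have e : ip D z (s : ℕ) = -∑ i : Fin D.rank, C.coord (negF hF s) i * ip D z (D.simple i) := by
      rw [← ip_eq_coord hF hC z (negF hF s), ip_negF hF, neg_neg]
    have hle : ∑ i : Fin D.rank, C.coord (negF hF s) i * ip D z (D.simple i) ≤ -ip D z C.low := by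
      rw [hlow2, ← Finset.sum_neg_distrib]
      exact Finset.sum_le_sum fun i _ => by
        rw [← neg_mul]; exact mul_le_mul_of_nonneg_right (hco i).2 (hsimple i)
    rw [offs, if_pos (not_le.1 hs), mul_one, e]
    have h0 := h none
    refine ⟨by omega, fun hstrict => ?_⟩
    have := hstrict none
    omega

/-- Every point has a representative in the closed alcove. -/
theorem exists_alcove {N : ℤ} (hN : 0 < N) (H : ℤ) (hH : H = C.e * C.h) (hHpos : 0 < H) :
    ∀ (n : ℕ) (v : Fin D.rank → ℤ),
      (rform D (H • v - N • C.rho) (H • v - N • C.rho)).toNat = n →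
        ∃ (u : List (Fin D.rank)) (μ : Fin D.rank → ℤ), ∀ s : Fin D.nroots,
          0 ≤ ip D (Eigen.wordV D u v + N • μ) s + N * offs D s := by
  intro n
  induction n using Nat.strong_induction_on with
  | _ n ih =>
    intro v hn
    by_cases hall : ∀ o, 0 ≤ ip D v (wallR hF hC o : ℕ) + N * offs D (wallR hF hC o : ℕ)
    · refine ⟨[], 0, fun s => ?_⟩
      rw [smul_zero, add_zero]
      exact (all_of_walls hF hC hall s).1
    push Not at hall
    obtain ⟨o, ho⟩ := hall
    set r := wallR hF hC o with hr
    set Lv := ip D v (r : ℕ) + N * offs D r with hLv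
    set c := Eigen.wordV D (wallU C o) (unitV D (wallI hC o)) with hc
    set v' := v - Lv • c with hv'
    have hstep : H • v' - N • C.rho = (H • v - N • C.rho) - (H * Lv) • c := by
      rw [hv', smul_sub, smul_smul]; abel
    have hlt : rform D (H • v' - N • C.rho) (H • v' - N • C.rho) <
        rform D (H • v - N • C.rho) (H • v - N • C.rho) := by
      rw [hstep]
      refine rform_step_lt hF _ _ _ (P := N * (ip D C.rho (r : ℕ) + H * offs D r))
        (mul_neg_of_pos_of_neg hHpos ho) (mul_pos hN (by rw [hH]; exact (hC.rho_spec r).1)) ?_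
      show ip D _ (r : ℕ) = _
      rw [ip_sub, ip_smul, ip_smul, hLv]
      ring
    obtain ⟨u, μ, hu⟩ := ih _ (by
      rw [← hn]
      have h0 : 0 ≤ rform D (H • v' - N • C.rho) (H • v' - N • C.rho) :=
        Finset.sum_nonneg fun s _ => mul_self_nonneg _
      omega) v' rfl
    refine ⟨u ++ reflWord (wallU C o) (wallI hC o),
      μ + (-offs D r) • Eigen.wordV D u c, fun s => ?_⟩
    have e : Eigen.wordV D (u ++ reflWord (wallU C o) (wallI hC o)) v +
        N • (μ + (-offs D r) • Eigen.wordV D u c) = Eigen.wordV D u v' + N • μ := by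
      rw [wordV_append, wordV_reflWord hF,
        show ip D v (pWord hF (wallU C o) (sRoot hF (wallI hC o)) : ℕ) = ip D v (r : ℕ)
          from rfl, ← hc, hv', wordV_sub, wordV_sub, wordV_smul, wordV_smul, hLv, smul_add,
        smul_smul, add_smul, mul_neg, neg_smul]
      abel
    rw [e]
    exact hu s

/-- The stabiliser of a point of the closed alcove. -/
theorem mem_fixSub_of_alcove {N : ℤ} (hN : 0 < N) (H : ℤ) (hH : H = C.e * C.h) (hHpos : 0 < H)
    {v : Fin D.rank → ℤ} (hv : ∀ s : Fin D.nroots, 0 ≤ ip D v s + N * offs D s) :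
    ∀ (n : ℕ) (w : List (Fin D.rank)) (μ : Fin D.rank → ℤ),
      (rform D (Eigen.wordV D w.reverse (C.rho - H • μ) - C.rho)
        (Eigen.wordV D w.reverse (C.rho - H • μ) - C.rho)).toNat = n →
      Eigen.wordV D w v + N • μ = v → pWord hF w ∈ fixSub hF N v := by
  intro n
  induction n using Nat.strong_induction_on with
  | _ n ih =>
    intro w μ hn hfix
    set z := Eigen.wordV D w.reverse (C.rho - H • μ) with hz
    have hzs : ∀ s : Fin D.nroots, ip D z (s : ℕ) =
        ip D C.rho (pWord hF w s : ℕ) - H * ip D μ (pWord hF w s : ℕ) := by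
      intro s
      rw [← ip_smul, ← ip_sub, ← ip_wordV hF w z s, hz, wordV_reverse' hF]
    have hne : ∀ (s : Fin D.nroots) (j : ℤ), ip D z (s : ℕ) + H * j ≠ 0 := by
      intro s j h0
      rw [hzs] at h0
      obtain ⟨h1, h2⟩ := hC.rho_spec (pWord hF w s)
      rw [← hH] at h1 h2
      set t := j - ip D μ (pWord hF w s : ℕ) - offs D (pWord hF w s : ℕ)
      have e : ip D C.rho (pWord hF w s : ℕ) + H * offs D (pWord hF w s : ℕ) = -(H * t) := by
        rw [show H * t = H * j - H * ip D μ (pWord hF w s : ℕ) -
          H * offs D (pWord hF w s : ℕ) by ring]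
        linarith
      have e2 : ip D C.rho (pWord hF w s : ℕ) + H * (offs D (pWord hF w s : ℕ) - 1) =
          -(H * (t + 1)) := by
        rw [mul_add, mul_one, neg_add, ← e]; ring
      rw [e] at h1
      rw [e2] at h2
      rcases le_or_gt t (-1) with ht | ht
      · exact absurd h2 (not_lt.2 (neg_nonneg.2 (mul_nonpos_of_nonneg_of_nonpos hHpos.le
          (by omega))))
      · exact absurd h1 (not_lt.2 (neg_nonpos.2 (mul_nonneg hHpos.le (by omega))))
    by_cases hall : ∀ o, 0 < ip D z (wallR hF hC o : ℕ) + H * offs D (wallR hF hC o : ℕ)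
    · have hpos : ∀ s : Fin D.nroots, 0 < ip D z (s : ℕ) + H * offs D s := fun s =>
        (all_of_walls hF hC (fun o => (hall o).le) s).2 hall
      have hrel : ∀ s : Fin D.nroots,
          offs D s - ip D μ (pWord hF w s : ℕ) = offs D (pWord hF w s : ℕ) := by
        intro s
        obtain ⟨h1, h2⟩ := hC.rho_spec (pWord hF w s)
        rw [← hH] at h1 h2
        have a1 := hpos s
        have a2 := hpos (negF hF s)
        rw [ip_negF hF, eq_sub_of_add_eq' (offs_add_negF hF s)] at a2
        rw [hzs] at a1 a2
        set a := offs D s - ip D μ (pWord hF w s : ℕ) - offs D (pWord hF w s : ℕ)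
        have b1 : 0 < (ip D C.rho (pWord hF w s : ℕ) + H * offs D (pWord hF w s : ℕ)) + H * a := by
          linear_combination a1
        have b2 : (ip D C.rho (pWord hF w s : ℕ) + H * (offs D (pWord hF w s : ℕ) - 1)) + H * a
            < 0 := by
          linear_combination a2
        have ha : a = 0 := by
          rcases lt_trichotomy a 0 with h | h | h
          · have : H * a ≤ H * (-1) := mul_le_mul_of_nonneg_left (by omega) hHpos.le
            linarith
          · exact h
          · have : H * 1 ≤ H * a := mul_le_mul_of_nonneg_left (by omega) hHpos.le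
            linarith
        omega
      have hμ : μ = 0 := eq_zero_of_small hF hC fun s => by
        obtain ⟨s', rfl⟩ := (pWord hF w).surjective s
        have := hrel s'
        unfold offs at this
        split at this <;> split at this <;> omega
      rw [offs_pWord hF w fun s => by rw [← hrel s, hμ]; simp [ip]]
      exact Subgroup.one_mem _
    push Not at hall
    obtain ⟨o, ho⟩ := hall
    set r := wallR hF hC o with hr
    set L := ip D z (r : ℕ) + H * offs D r with hL
    have hLneg : L < 0 := lt_of_le_of_ne ho (hne r _)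
    set c := Eigen.wordV D (wallU C o) (unitV D (wallI hC o)) with hc
    -- the fixed point lies on the wall
    have hval : ip D v (pWord hF w r : ℕ) = ip D v (r : ℕ) + N * ip D μ (pWord hF w r : ℕ) := by
      conv_lhs => rw [← hfix]
      rw [ip_add, ip_smul, ip_wordV hF]
    have hle : ip D v (r : ℕ) + N * offs D r = 0 := by
      refine le_antisymm ?_ (hv r)
      have h1 := (hC.rho_spec (pWord hF w r)).1
      rw [← hH] at h1
      rw [hL, hzs] at hLneg
      set a := offs D r - ip D μ (pWord hF w r : ℕ) - offs D (pWord hF w r : ℕ)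
      have hb : (ip D C.rho (pWord hF w r : ℕ) + H * offs D (pWord hF w r : ℕ)) + H * a < 0 := by
        linear_combination hLneg
      have ha : a ≤ -1 := by
        by_contra hc'
        have : 0 ≤ H * a := mul_nonneg hHpos.le (by omega)
        linarith
      have h2 := hv (negF hF (pWord hF w r))
      rw [ip_negF hF, eq_sub_of_add_eq' (offs_add_negF hF _), hval] at h2
      have h3 : N * a ≤ N * (-1) := mul_le_mul_of_nonneg_left ha hN.le
      linear_combination h2 + h3
    have hdvd : N ∣ ip D v (r : ℕ) := ⟨-offs D r, by linarith⟩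
    -- the reflected element
    set s := reflWord (wallU C o) (wallI hC o) with hs
    set μ' := μ - offs D r • Eigen.wordV D w c with hμ'
    have hsv : ∀ x, Eigen.wordV D s x = x - ip D x (r : ℕ) • c := fun x => wordV_reflWord hF _ _ x
    have hfix' : Eigen.wordV D (w ++ s) v + N • μ' = v := by
      rw [wordV_append, hsv, hμ', wordV_sub, wordV_smul,
        show ip D v (r : ℕ) = -(N * offs D r) by linarith, neg_smul, smul_sub, smul_smul]
      conv_rhs => rw [← hfix]
      abel
    have hrev : ∀ x, Eigen.wordV D s.reverse x = Eigen.wordV D s x := by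
      intro x
      have : s.reverse = s := by simp [hs, reflWord]
      rw [this]
    set z' := Eigen.wordV D (w ++ s).reverse (C.rho - H • μ') with hz'
    have hz2 : z' - C.rho = (z - C.rho) - L • c := by
      have e1 : C.rho - H • μ' = (C.rho - H • μ) + (H * offs D r) • Eigen.wordV D w c := by
        rw [hμ', smul_sub, smul_smul]; abel
      rw [hz', List.reverse_append, wordV_append, hrev, e1, wordV_add, wordV_smul,
        wordV_reverse hF, ← hz, hsv, ip_add, ip_smul,
        show ip D c (r : ℕ) = 2 from ip_coroot hF _ _, hL]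
      funext a
      simp only [Pi.sub_apply, Pi.add_apply, Pi.smul_apply, smul_eq_mul]
      ring
    have hlt : rform D (z' - C.rho) (z' - C.rho) < rform D (z - C.rho) (z - C.rho) := by
      rw [hz2]
      refine rform_step_lt hF _ _ _ (P := ip D C.rho (r : ℕ) + H * offs D r) hLneg
        (by rw [hH]; exact (hC.rho_spec r).1) ?_
      show ip D _ (r : ℕ) = _
      rw [ip_sub, hL]
      ring
    have hrec := ih _ (by
      rw [← hn, ← hz']
      have h0 : 0 ≤ rform D (z' - C.rho) (z' - C.rho) :=
        Finset.sum_nonneg fun s _ => mul_self_nonneg _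
      omega) (w ++ s) μ' rfl hfix'
    have hgen : pWord hF s ∈ fixSub hF N v :=
      Subgroup.subset_closure ⟨wallU C o, wallI hC o, hdvd, rfl⟩
    rw [pWord_append] at hrec
    have := Subgroup.mul_mem _ hrec (Subgroup.inv_mem _ hgen)
    rwa [mul_inv_cancel_right] at this

/-- The stabiliser of a point modulo the lattice is generated by reflections. -/
theorem mem_fixSub {N : ℤ} (hN : 0 < N) {v : Fin D.rank → ℤ} {w : List (Fin D.rank)}
    (h : ∀ a, N ∣ Eigen.wordV D w v a - v a) : pWord hF w ∈ fixSub hF N v := by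
  set H := C.e * C.h with hH
  have hHpos : 0 < H := by
    obtain ⟨h1, h2⟩ := hC.rho_spec (sRoot hF ⟨0, hF.rank_pos⟩)
    simp only [offs, ← hH] at h1 h2
    split at h1 <;> simp_all <;> omega
  choose q hq using h
  have hw : Eigen.wordV D w v + N • (fun a => -q a) = v := by
    funext a
    simp only [Pi.add_apply, Pi.smul_apply, smul_eq_mul]
    linear_combination hq a
  obtain ⟨u, μ, hu⟩ := exists_alcove hF hC hN H hH hHpos _ v rfl
  set v' := Eigen.wordV D u v + N • μ with hv'
  have hv'' : v = Eigen.wordV D u.reverse (v' - N • μ) := by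
    rw [hv', add_sub_cancel_right, wordV_reverse hF]
  set w' := u ++ w ++ u.reverse with hw'
  have hfix : Eigen.wordV D w' v' +
      N • (μ - Eigen.wordV D w' μ + Eigen.wordV D u (fun a => -q a)) = v' := by
    rw [hw', wordV_append, wordV_append, hv', wordV_add (u.reverse), wordV_smul,
      wordV_reverse hF, wordV_add, wordV_smul, wordV_add u, wordV_smul, smul_add, smul_sub]
    have e := congrArg (Eigen.wordV D u) hw
    rw [wordV_add, wordV_smul] at e
    rw [wordV_append, wordV_append]
    conv_rhs => rw [← e]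
    abel
  have hrec := mem_fixSub_of_alcove hF hC hN H hH hHpos hu _ w' _ rfl hfix
  have hw'' : pWord hF w = (pWord hF u)⁻¹ * pWord hF w' * pWord hF u := by
    rw [hw', pWord_append, pWord_append, pWord_reverse]
    group
  rw [hw'']
  have hle : (fixSub hF N v').map (MulAut.conj (pWord hF u)⁻¹).toMonoidHom ≤ fixSub hF N v := by
    rw [fixSub, MonoidHom.map_closure, Subgroup.closure_le]
    rintro _ ⟨π, ⟨u', i, hd, rfl⟩, rfl⟩
    refine Subgroup.subset_closure ⟨u.reverse ++ u', i, ?_, ?_⟩
    · rw [hv'', pWord_append, Equiv.Perm.mul_apply, ip_wordV hF, ip_sub, ip_smul]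
      exact dvd_sub hd (dvd_mul_right _ _)
    · simp only [MulEquiv.coe_toMonoidHom, MulAut.conj_apply, reflWord, List.reverse_append,
        List.reverse_reverse, pWord_append, pWord_cons, pWord_reverse, inv_inv]
      group
  have := hle (Subgroup.mem_map_of_mem _ hrec)
  simpa using this

end Cfsg.Agent.Chev.SS
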