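import Cfsg.Agent.Chev.RegularTorus
import Cfsg.Agent.Chev.SubCover

/-!
Elements conjugating one torus element into another.
-/

set_option autoImplicit false

namespace Cfsg.Agent.Chev.SS

open Cfsg.Lie Cfsg.Agent.Chev
open scoped MatrixGroups

universe u

variable {D : ChevalleyDatum} {F : Type u} [Field F]

theorem chiU_eq_of_torusHom_eq {c d : Fin D.rank → Fˣ}
    (h : (torusHom c : GL D.Idx F) = torusHom d) (s : Fin D.nroots) :
    chiU c (s : ℕ) = chiU d (s : ℕ) := by
  have h1 : torusHom (c * d⁻¹) = (1 : GL D.Idx F) := by rw [map_mul, map_inv, h, mul_inv_cancel]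
  have h2 := (torusHom_eq_one_iff _).1 h1 s
  have h3 : chiU (c * d⁻¹ * d) (s : ℕ) = chiU d (s : ℕ) := by rw [chiU_mul', h2, one_mul]
  rwa [inv_mul_cancel_right] at h3

theorem torusHom_eq_of_chiU_eq {c d : Fin D.rank → Fˣ}
    (h : ∀ s : Fin D.nroots, chiU c (s : ℕ) = chiU d (s : ℕ)) :
    (torusHom c : GL D.Idx F) = torusHom d := by
  have h1 : torusHom (c * d⁻¹) = (1 : GL D.Idx F) := by
    rw [torusHom_eq_one_iff]
    intro s
    rw [chiU_mul', h s, ← chiU_mul', mul_inv_cancel]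
    simp [chiU]
  rwa [map_mul, map_inv, mul_inv_eq_one] at h1

variable (hF : Facts.{u} D)
include hF

/-- The subgroup generated by the root subgroups of the roots trivial at `c`. -/
def centRoots (c : Fin D.rank → Fˣ) : Subgroup (GL D.Idx F) :=
  Subgroup.closure {g | ∃ (r : Fin D.nroots) (t : F), chiU c (r : ℕ) = 1 ∧ g = xG hF (r : ℕ) t}

theorem centRoots_le_group (c : Fin D.rank → Fˣ) : centRoots hF c ≤ D.group F := by
  refine (Subgroup.closure_le _).2 ?_
  rintro g ⟨r, t, -, rfl⟩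
  exact xG_mem_group hF _ _

theorem xG_mem_centRoots {c : Fin D.rank → Fˣ} {r : Fin D.nroots} (h : chiU c (r : ℕ) = 1)
    (t : F) : xG hF (r : ℕ) t ∈ centRoots hF c :=
  Subgroup.subset_closure ⟨r, t, h, rfl⟩

theorem centRoots_eq_bot {c : Fin D.rank → Fˣ} (h : ∀ r : Fin D.nroots, chiU c (r : ℕ) ≠ 1) :
    centRoots hF c = ⊥ := by
  rw [centRoots, Subgroup.closure_eq_bot_iff]
  rintro g ⟨r, t, hr, -⟩
  exact absurd hr (h r)

theorem centRoots_commute {c : Fin D.rank → Fˣ} {l : GL D.Idx F} (hl : l ∈ centRoots hF c) :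
    torusHom c * l = l * torusHom c := by
  refine Subgroup.mem_centralizer_singleton_iff.1
    ((((Subgroup.closure_le _).2 ?_) : centRoots hF c ≤
      Subgroup.centralizer {(torusHom c : GL D.Idx F)}) hl) |>.symm
  rintro g ⟨r, t, hr, rfl⟩
  rw [SetLike.mem_coe, Subgroup.mem_centralizer_singleton_iff, torusHom_conj hF c r.2, hr,
    Units.val_one, one_mul]

theorem mem_centRoots_of_comm {c : Fin D.rank → Fˣ} {v : GL D.Idx F}
    (hv : v ∈ D.posUnipotent F) (h : torusHom c * v = v * torusHom c) : v ∈ centRoots hF c := by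
  obtain ⟨t, rfl⟩ := (mem_posUnipotent_iff hF).1 hv
  rw [torusHom_prodFrom hF c t _ _ rfl, mul_left_inj] at h
  refine wordG_mem hF fun p hp => ?_
  obtain ⟨r, hr, rfl⟩ := List.mem_map.1 hp
  rw [List.mem_range'_1] at hr
  have hrn : r < D.nroots := by omega
  show xG hF r (t r) ∈ centRoots hF c
  by_cases hc : chiU c r = 1
  · exact xG_mem_centRoots hF (r := ⟨r, hrn⟩) hc _
  · have e : (chiU c r : F) * t r = t r := prodFrom_inj hF _ _ rfl le_rfl h r hr.1 hrn
    have hne : (chiU c r : F) - 1 ≠ 0 := sub_ne_zero.2 fun e' => hc (Units.ext e')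
    have e2 : ((chiU c r : F) - 1) * t r = 0 := by rw [sub_mul, e, one_mul, sub_self]
    rw [(mul_eq_zero.1 e2).resolve_left hne, xG_zero]
    exact Subgroup.one_mem _

/-- An element conjugating one torus element into another is a product of root elements of the
roots trivial at them and of a monomial element. -/
theorem exists_decomp {c₁ c₂ : Fin D.rank → Fˣ} {g : GL D.Idx F} (hg : g ∈ D.group F)
    (h : torusHom c₁ * g = g * torusHom c₂) :
    ∃ l₁ ∈ centRoots hF c₁, ∃ l₂ ∈ centRoots hF c₂, ∃ (d : Fin D.rank → Fˣ)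
      (w : List (Fin D.rank)),
      g = l₁ * torusHom d * nWord hF w * l₂ ∧
        ∀ r : Fin D.nroots, chiU c₁ (pWord hF w r : ℕ) = chiU c₂ (r : ℕ) := by
  obtain ⟨b, hb, w, x, hx, rfl⟩ := exists_normalForm hF hg
  obtain ⟨v, hv, e, rfl⟩ := (mem_borel_iff hF).1 hb
  set t₁ : GL D.Idx F := torusHom c₁ with ht₁
  set t₂ : GL D.Idx F := torusHom c₂ with ht₂
  set n : GL D.Idx F := nWord hF w with hn
  set c' := wordC D w c₂ with hc'
  have hnt : n * t₂ = torusHom c' * n := (torusHom_wordC hF w c₂).symm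
  have hcell : (t₁ * v * t₁⁻¹ * torusHom (c₁ * e)) * n * x =
      (v * torusHom (e * c')) * n * (t₂⁻¹ * x * t₂) := by
    calc (t₁ * v * t₁⁻¹ * torusHom (c₁ * e)) * n * x
        = t₁ * (v * torusHom e * n * x) := by rw [map_mul, ← ht₁]; group
      _ = v * torusHom e * (n * t₂) * (t₂⁻¹ * x * t₂) := by rw [h]; group
      _ = _ := by rw [hnt, map_mul]; group
  have hm : monPerm hF (n : GL D.Idx F) = pWord hF w := monPerm_eq hF (isMon_nWord hF w)
  have hvU : t₁ * v * t₁⁻¹ ∈ D.posUnipotent F :=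
    (Subgroup.mem_normalizer_iff.1 (torusHom_mem_normalizer hF c₁) v).1 hv
  have hxM : t₂⁻¹ * x * t₂ ∈ uMinus hF (pWord hF w) (F := F) := by
    have hle : uMinus hF (pWord hF w) (F := F) ≤ (uMinus hF (pWord hF w)).comap
        (MulAut.conj t₂⁻¹).toMonoidHom := by
      refine (Subgroup.closure_le _).2 ?_
      rintro y ⟨r, t, h1, h2, rfl⟩
      show t₂⁻¹ * xG hF r t * t₂⁻¹⁻¹ ∈ uMinus hF (pWord hF w)
      rw [ht₂, ← map_inv, torusHom_conj hF _ r.2, mul_inv_cancel_right]
      exact Subgroup.subset_closure ⟨r, _, h1, h2, rfl⟩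
    simpa using hle hx
  obtain ⟨hbb, hxx⟩ := (normalForm_unique hF
    (Subgroup.mul_mem _ (Subgroup.mem_sup_left hvU) (Subgroup.mem_sup_right (torusHom_mem hF _)))
    (Subgroup.mul_mem _ (Subgroup.mem_sup_left hv) (Subgroup.mem_sup_right (torusHom_mem hF _)))
    (nWord_mem hF w) (nWord_mem hF w) (by rw [hm]; exact hx) (by rw [hm]; exact hxM) hcell).2 rfl
  obtain ⟨hvv, hcc⟩ := posUnipotent_torus_unique hF hvU hv hbb
  have hvc : v ∈ centRoots hF c₁ := mem_centRoots_of_comm hF hv (mul_inv_eq_iff_eq_mul.1 hvv)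
  have hxc : x ∈ centRoots hF c₂ :=
    mem_centRoots_of_comm hF (uMinus_le_posUnipotent hF _ hx) (by
      rw [← ht₂]; nth_rw 1 [hxx]; group)
  have hc1 : (torusHom c₁ : GL D.Idx F) = torusHom c' := by
    rw [map_mul, map_mul, ← map_mul, mul_comm c₁, map_mul] at hcc
    exact mul_left_cancel hcc
  refine ⟨v, hvc, x, hxc, e, w, rfl, fun r => ?_⟩
  rw [chiU_eq_of_torusHom_eq hc1, hc', chiU_wordC hF]

end Cfsg.Agent.Chev.SS
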