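import Cfsg.Agent.Chev.Semisimple.Affine
import Cfsg.Agent.Chev.TorusCard
import Mathlib.Analysis.Polynomial.Order
import Mathlib.LinearAlgebra.Matrix.Charpoly.Coeff
import Mathlib.LinearAlgebra.FreeModule.Finite.CardQuotient
import Mathlib.RingTheory.RootsOfUnity.PrimitiveRoots
import Mathlib.RingTheory.Polynomial.Cyclotomic.Roots

/-!
The sum of `det (q - w)` over the Weyl group is `|W| q ^ rank`; these determinants count torus
points, and stable orbits are counted by pairs.
-/

set_option autoImplicit false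

namespace Cfsg.Agent.Chev.SS

open Cfsg.Lie Cfsg.Agent.Chev

universe u v

section Orbits

variable {W : Type*} [Group W] {α : Type u} (ρ : W →* Equiv.Perm α) (σ : α → α)

/-- The orbit relation of an action given by permutations. -/
def orbSetoid : Setoid α where
  r x y := ∃ g, ρ g x = y
  iseqv :=
    { refl := fun x => ⟨1, by rw [map_one, Equiv.Perm.one_apply]⟩
      symm := fun ⟨g, hg⟩ => ⟨g⁻¹, by rw [← hg, ← Equiv.Perm.mul_apply, ← map_mul, inv_mul_cancel,
        map_one, Equiv.Perm.one_apply]⟩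
      trans := fun ⟨g, hg⟩ ⟨h, hh⟩ => ⟨h * g, by rw [map_mul, Equiv.Perm.mul_apply, hg, hh]⟩ }

/-- An orbit is stable when it contains the image of each of its points. -/
def IsStable (O : Quotient (orbSetoid ρ)) : Prop :=
  ∀ x : α, Quotient.mk (orbSetoid ρ) x = O → Quotient.mk (orbSetoid ρ) (σ x) = O

/-- Counting the pairs of an element and a point it moves as the map does. -/
theorem card_pairs (hσ : ∀ g x, σ (ρ g x) = ρ g (σ x)) :
    Nat.card {p : W × α // ρ p.1 p.2 = σ p.2} =
      Nat.card {O : Quotient (orbSetoid ρ) // IsStable ρ σ O} * Nat.card W := by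
  classical
  have hh : ∀ x : α, ∃ g, ρ g (Quotient.mk (orbSetoid ρ) x).out = x := fun x =>
    Quotient.mk_out (s := orbSetoid ρ) x
  choose h hhx using hh
  have hinv : ∀ x : α, ρ (h x)⁻¹ x = (Quotient.mk (orbSetoid ρ) x).out := fun x => by
    calc ρ (h x)⁻¹ x = ρ (h x)⁻¹ (ρ (h x) (Quotient.mk (orbSetoid ρ) x).out) :=
          congrArg _ (hhx x).symm
      _ = _ := by
          rw [← Equiv.Perm.mul_apply, ← map_mul, inv_mul_cancel, map_one, Equiv.Perm.one_apply]
  have hmk : ∀ (g : W) (x : α), Quotient.mk (orbSetoid ρ) (ρ g x) = Quotient.mk _ x :=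
    fun g x => (Quotient.sound (s := orbSetoid ρ) ⟨g, rfl⟩).symm
  have hst : ∀ p : {p : W × α // ρ p.1 p.2 = σ p.2},
      IsStable ρ σ (Quotient.mk _ p.1.2) := by
    rintro ⟨⟨g, x⟩, hp⟩ y hy
    obtain ⟨k, hk⟩ := Quotient.exact hy.symm
    rw [← hk, hσ, hmk]
    show Quotient.mk _ (σ x) = Quotient.mk _ x
    rw [← hp, hmk]
  let e : {p : W × α // ρ p.1 p.2 = σ p.2} ≃
      {O : Quotient (orbSetoid ρ) // IsStable ρ σ O} × W :=
    { toFun := fun p => (⟨Quotient.mk _ p.1.2, hst p⟩,
        h p.1.2 * ((h (σ p.1.2))⁻¹ * p.1.1 * h p.1.2))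
      invFun := fun q => ⟨(h (σ (ρ q.2 q.1.1.out)) *
          ((h (ρ q.2 q.1.1.out))⁻¹ * q.2) * (h (ρ q.2 q.1.1.out))⁻¹, ρ q.2 q.1.1.out), by
        obtain ⟨⟨O, hO⟩, g⟩ := q
        show ρ _ (ρ g O.out) = σ (ρ g O.out)
        have hx : Quotient.mk (orbSetoid ρ) (ρ g O.out) = O := by rw [hmk, Quotient.out_eq]
        generalize hxe : ρ g O.out = x at hx ⊢
        rw [map_mul, map_mul, map_mul, Equiv.Perm.mul_apply, Equiv.Perm.mul_apply,
          Equiv.Perm.mul_apply, hinv x, hx, hxe, hinv x, hx]
        conv_rhs => rw [← hhx (σ x), hO x hx]⟩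
      left_inv := by
        rintro ⟨⟨g, x⟩, hp⟩
        have hx : ρ (h x * ((h (σ x))⁻¹ * g * h x)) (Quotient.mk (orbSetoid ρ) x).out = x := by
          rw [map_mul, map_mul, map_mul, Equiv.Perm.mul_apply, Equiv.Perm.mul_apply,
            Equiv.Perm.mul_apply, hhx, show ρ g x = σ x from hp, hinv,
            show Quotient.mk (orbSetoid ρ) (σ x) = Quotient.mk _ x by
              rw [← show ρ g x = σ x from hp, hmk], hhx]
        refine Subtype.ext (Prod.ext ?_ hx)
        dsimp only
        rw [hx]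
        group
      right_inv := by
        rintro ⟨⟨O, hO⟩, g⟩
        have hx : Quotient.mk (orbSetoid ρ) (ρ g O.out) = O := by rw [hmk, Quotient.out_eq]
        refine Prod.ext (Subtype.ext hx) ?_
        dsimp only
        group }
  rw [Nat.card_congr e, Nat.card_prod]

end Orbits

section Kernel

variable {k : Type u} [Field k] [IsAlgClosed k]

/-- The kernel of a nonsingular integer matrix on a torus has as many points as its
determinant, when that is prime to the characteristic. -/
theorem card_zAct_ker {n : ℕ} (M : Matrix (Fin n) (Fin n) ℤ) (hM : (M.det : k) ≠ 0) :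
    Nat.card {c : Fin n → kˣ // zAct M c = 1} = M.det.natAbs := by
  classical
  have hdet : M.det ≠ 0 := fun h => hM (by rw [h, Int.cast_zero])
  set d := M.det.natAbs with hd
  haveI : NeZero (d : k) := ⟨fun h => hM (by
    rcases Int.natAbs_eq M.det with e | e <;> rw [e, ← hd] <;> simp [h])⟩
  haveI : NeZero d := NeZero.of_neZero_natCast k
  obtain ⟨z, hz⟩ := IsAlgClosed.exists_root (Polynomial.cyclotomic d k) (by
    rw [Polynomial.degree_cyclotomic]
    exact_mod_cast (Nat.totient_pos.2 (NeZero.pos d)).ne')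
  rw [Polynomial.isRoot_cyclotomic_iff] at hz
  set ζ : kˣ := (hz.isUnit (NeZero.ne d)).unit with hζdef
  have hζ : IsPrimitiveRoot ζ d := IsPrimitiveRoot.coe_units_iff.1 hz
  have hzp : ∀ m : ℤ, ζ ^ m = 1 ↔ M.det ∣ m := fun m => by
    rw [hζ.zpow_eq_one_iff_dvd, Int.natAbs_dvd]
  let Φ : (Fin n → ℤ) → Fin n → kˣ := fun Y a => ζ ^ (M.adjugate.mulVec Y) a
  have hact : ∀ x : Fin n → ℤ, zAct M (fun a => ζ ^ x a) = fun a => ζ ^ (M.mulVec x) a := by
    intro x
    funext a
    simp only [zAct, Matrix.mulVec, dotProduct, zpow_finset_sum]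
    exact Finset.prod_congr rfl fun j _ => by rw [← zpow_mul, mul_comm]
  have hMadj : ∀ Y : Fin n → ℤ, M.mulVec (M.adjugate.mulVec Y) = M.det • Y := fun Y => by
    rw [Matrix.mulVec_mulVec, Matrix.mul_adjugate, Matrix.smul_mulVec, Matrix.one_mulVec]
  have hadjM : ∀ Y : Fin n → ℤ, M.adjugate.mulVec (M.mulVec Y) = M.det • Y := fun Y => by
    rw [Matrix.mulVec_mulVec, Matrix.adjugate_mul, Matrix.smul_mulVec, Matrix.one_mulVec]
  have hΦker : ∀ Y, zAct M (Φ Y) = 1 := fun Y => by
    rw [hact, hMadj]
    funext a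
    exact (hzp _).2 ⟨Y a, rfl⟩
  have hinj : Function.Injective M.mulVecLin := by
    intro x y hxy
    have := congrArg M.adjugate.mulVec (show M.mulVec x = M.mulVec y from hxy)
    rw [hadjM, hadjM] at this
    exact smul_right_injective _ hdet this
  set N : Submodule ℤ (Fin n → ℤ) := LinearMap.range M.mulVecLin with hN
  have hΦeq : ∀ Y Y', Φ Y = Φ Y' ↔ Y - Y' ∈ N := by
    intro Y Y'
    constructor
    · intro h
      have h1 : ∀ a, M.det ∣ (M.adjugate.mulVec (Y - Y')) a := fun a => by
        rw [Matrix.mulVec_sub, Pi.sub_apply, ← hzp, zpow_sub, mul_inv_eq_one]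
        exact congrFun h a
      choose Z hZ using h1
      refine ⟨Z, smul_right_injective _ hdet ?_⟩
      show M.det • M.mulVec Z = M.det • (Y - Y')
      rw [← hMadj (Y - Y'), ← Matrix.mulVec_smul]
      exact congrArg M.mulVec (funext fun a => (hZ a).symm)
    · rintro ⟨Z, hZ⟩
      funext a
      show ζ ^ _ = ζ ^ _
      rw [← mul_inv_eq_one, ← zpow_sub, ← Pi.sub_apply, ← Matrix.mulVec_sub, ← hZ,
        Matrix.mulVecLin_apply, hadjM, hzp]
      exact ⟨Z a, rfl⟩
  let g : ((Fin n → ℤ) ⧸ N) → {c : Fin n → kˣ // zAct M c = 1} := fun x =>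
    ⟨Φ (Quotient.out x), hΦker _⟩
  have hg : Function.Bijective g := by
    constructor
    · intro x y h
      have := (hΦeq _ _).1 (congrArg Subtype.val h)
      rw [← Submodule.Quotient.eq] at this
      rwa [show Submodule.Quotient.mk (Quotient.out x) = x from Quotient.out_eq x,
        show Submodule.Quotient.mk (Quotient.out y) = y from Quotient.out_eq y] at this
    · rintro ⟨c, hc⟩
      have h1 : zAct (M.adjugate * M) c = 1 := by rw [zAct_mul, hc, zAct_apply_one]
      rw [Matrix.adjugate_mul, Matrix.smul_one_eq_diagonal, zAct_diagonal] at h1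
      have h2 : ∀ a, ∃ x : ℤ, c a = ζ ^ x := by
        intro a
        have h3 : (c a : k) ^ d = 1 := by
          have h4 : c a ^ M.det = 1 := congrFun h1 a
          have h5 : c a ^ (d : ℤ) = 1 := by
            rcases Int.natAbs_eq M.det with e | e <;> rw [← hd] at e <;> rw [e] at h4
            · exact h4
            · rwa [zpow_neg, inv_eq_one] at h4
          rw [zpow_natCast] at h5
          rw [← Units.val_pow_eq_pow_val, h5, Units.val_one]
        obtain ⟨i, -, hi⟩ := hz.eq_pow_of_pow_eq_one h3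
        exact ⟨i, Units.ext (by rw [zpow_natCast, Units.val_pow_eq_pow_val]; exact hi.symm)⟩
      choose x hx using h2
      obtain rfl : c = fun a => ζ ^ x a := funext hx
      rw [hact] at hc
      have h6 : ∀ a, M.det ∣ (M.mulVec x) a := fun a => (hzp _).1 (congrFun hc a)
      choose Y hY using h6
      have hadjY : M.adjugate.mulVec Y = x := by
        refine smul_right_injective _ hdet ?_
        show M.det • M.adjugate.mulVec Y = M.det • x
        rw [← hadjM x, ← Matrix.mulVec_smul]
        exact congrArg M.adjugate.mulVec (funext fun a => (hY a).symm)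
      refine ⟨Submodule.Quotient.mk Y, Subtype.ext ?_⟩
      show Φ _ = _
      rw [(hΦeq _ Y).2 ((Submodule.Quotient.eq N).1 (Quotient.out_eq _))]
      show (fun a => ζ ^ (M.adjugate.mulVec Y) a) = _
      rw [hadjY]
  rw [← Nat.card_eq_of_bijective g hg, ← Submodule.natAbs_det_equiv N
    (LinearEquiv.ofInjective M.mulVecLin hinj)]
  congr 1
  show LinearMap.det M.mulVecLin = _
  rw [← Matrix.toLin'_apply', LinearMap.det_toLin']

/-- A nonsingular integer matrix is surjective on a torus. -/
theorem zAct_surjective {n : ℕ} (M : Matrix (Fin n) (Fin n) ℤ) (hM : M.det ≠ 0)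
    (d : Fin n → kˣ) : ∃ c, zAct M c = d := by
  have hroot : ∀ x : kˣ, ∃ y : kˣ, y ^ M.det = x := by
    intro x
    obtain ⟨y, hy⟩ := IsAlgClosed.exists_pow_nat_eq (x : k)
      (Int.natAbs_pos.2 hM)
    have hy0 : y ≠ 0 := fun h => by
      rw [h, zero_pow (Int.natAbs_ne_zero.2 hM)] at hy
      exact x.ne_zero hy.symm
    rcases Int.natAbs_eq M.det with e | e
    · exact ⟨Units.mk0 y hy0, Units.ext (by
        rw [e, zpow_natCast, Units.val_pow_eq_pow_val]; exact hy)⟩
    · exact ⟨(Units.mk0 y hy0)⁻¹, Units.ext (by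
        rw [e, zpow_neg, inv_zpow, inv_inv, zpow_natCast, Units.val_pow_eq_pow_val]; exact hy)⟩
  choose y hy using fun a => hroot (d a)
  refine ⟨zAct M.adjugate y, ?_⟩
  rw [← zAct_mul, Matrix.mul_adjugate, Matrix.smul_one_eq_diagonal, zAct_diagonal]
  exact funext hy

end Kernel

variable {D : ChevalleyDatum}

/-- The matrix of a word on exponent vectors. -/
def wMat (D : ChevalleyDatum) (w : List (Fin D.rank)) : Matrix (Fin D.rank) (Fin D.rank) ℤ :=
  Matrix.of fun a b => Eigen.wordV D w (unitV D b) a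

theorem wMat_mulVec (w : List (Fin D.rank)) (v : Fin D.rank → ℤ) :
    (wMat D w).mulVec v = Eigen.wordV D w v := by
  have h := Eigen.wordV_sum w v (unitV D)
  rw [show (fun a => ∑ j, v j * unitV D j a) = v from funext fun a => by simp [unitV]] at h
  rw [h]
  funext a
  simp [Matrix.mulVec, dotProduct, wMat, mul_comm]

theorem wMat_append (w w' : List (Fin D.rank)) : wMat D (w ++ w') = wMat D w * wMat D w' := by
  ext a b
  rw [wMat, Matrix.of_apply, wordV_append, ← wMat_mulVec]
  rfl

theorem wMat_nil : wMat D [] = 1 := by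
  ext a b
  simp [wMat, Eigen.wordV, unitV, Matrix.one_apply]

theorem wMat_singleton (i : Fin D.rank) (a b : Fin D.rank) :
    wMat D [i] a b = (if a = b then 1 else 0) - if a = i then D.cartan b (D.simple i) else 0 := by
  show Eigen.reflV D i (unitV D b) a = _
  simp [Eigen.reflV, unitV]

theorem wordC_eq_zAct {F : Type u} [Field F] (w : List (Fin D.rank)) (c : Fin D.rank → Fˣ) :
    wordC D w c = zAct (wMat D w) c := by
  induction w with
  | nil => rw [wMat_nil, zAct_one]; rfl
  | cons i w ih =>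
    rw [show i :: w = [i] ++ w from rfl, wMat_append, zAct_mul, ← ih]
    show reflC D i (wordC D w c) = _
    funext a
    simp only [reflC, Pi.mul_apply, zAct, wMat_singleton, zpow_sub, Finset.prod_mul_distrib,
      Finset.prod_inv_distrib]
    congr 1
    · rw [Finset.prod_eq_single a (fun j _ hj => by rw [if_neg (Ne.symm hj), zpow_zero])
        (fun h => absurd (Finset.mem_univ a) h), if_pos rfl, zpow_one]
    · by_cases h : a = i
      · subst h
        simp [chiU]
      · simp [Pi.mulSingle_eq_of_ne h, h]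

/-- Replacing the rows outside a set by unit rows. -/
def mixM {n : ℕ} (K : Finset (Fin n)) (M : Matrix (Fin n) (Fin n) ℤ) :
    Matrix (Fin n) (Fin n) ℤ :=
  Matrix.of fun b a => if b ∈ K then M a b else (1 : Matrix (Fin n) (Fin n) ℤ) b a

theorem det_sub_eq_sum {n : ℕ} (q : ℤ) (M : Matrix (Fin n) (Fin n) ℤ) :
    ((q • (1 : Matrix (Fin n) (Fin n) ℤ)) - M).det =
      ∑ K : Finset (Fin n), (∏ b, if b ∈ K then -1 else q) * (mixM K M).det := by
  rw [← Matrix.det_transpose]
  show (Matrix.detRowAlternating (R := ℤ) (n := Fin n)).toMultilinearMap _ = _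
  have h : (((q • (1 : Matrix (Fin n) (Fin n) ℤ)) - M).transpose : Fin n → Fin n → ℤ) =
      (fun b a => -M a b) + fun b a => q * (1 : Matrix (Fin n) (Fin n) ℤ) b a := by
    funext b a
    simp only [Matrix.transpose_apply, Matrix.sub_apply, Matrix.smul_apply, Matrix.one_apply,
      Pi.add_apply, smul_eq_mul, eq_comm (a := b) (b := a)]
    ring
  rw [h, MultilinearMap.map_add_univ]
  refine Finset.sum_congr rfl fun K _ => ?_
  rw [← Matrix.det_diagonal, ← Matrix.det_mul]
  show Matrix.det _ = _
  congr 1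
  ext b a
  rw [Matrix.diagonal_mul]
  by_cases hb : b ∈ K <;> simp [mixM, hb]

theorem det_mixM_singleton (hF : Facts.{u} D) {K : Finset (Fin D.rank)} {i : Fin D.rank}
    (hi : i ∈ K) (M : Matrix (Fin D.rank) (Fin D.rank) ℤ) :
    (mixM K (M * wMat D [i])).det = -(mixM K M).det := by
  classical
  set S : Matrix (Fin D.rank) (Fin D.rank) ℤ :=
    Matrix.of fun b c => if b ∈ K then wMat D [i] c b else (1 : Matrix _ _ ℤ) b c with hS
  have h1 : mixM K (M * wMat D [i]) = S * mixM K M := by
    ext b a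
    rw [Matrix.mul_apply]
    by_cases hb : b ∈ K
    · simp only [mixM, hS, Matrix.of_apply, if_pos hb, Matrix.mul_apply]
      refine Finset.sum_congr rfl fun c _ => ?_
      rw [wMat_singleton]
      by_cases hc : c ∈ K
      · rw [if_pos hc]; ring
      · rw [if_neg (fun e : c = b => hc (e.symm ▸ hb : c ∈ K)),
          if_neg (fun e : c = i => hc (e.symm ▸ hi : c ∈ K))]
        ring
    · simp only [mixM, hS, Matrix.of_apply, if_neg hb]
      rw [Finset.sum_eq_single b (fun j _ hj => by rw [Matrix.one_apply_ne (Ne.symm hj), zero_mul])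
        (fun h => absurd (Finset.mem_univ b) h), Matrix.one_apply_eq, one_mul, if_neg hb]
  have h2 : S.det = -1 := by
    set v : Fin D.rank → ℤ := fun b => if b ∈ K then wMat D [i] i b else (1 : Matrix _ _ ℤ) i b
    have e : S.transpose = (1 : Matrix (Fin D.rank) (Fin D.rank) ℤ).updateRow i
        (∑ b, v b • (1 : Matrix (Fin D.rank) (Fin D.rank) ℤ) b) := by
      ext c b
      rw [Matrix.updateRow_apply]
      by_cases hc : c = i
      · subst hc
        simp only [Matrix.transpose_apply, hS, Matrix.of_apply, if_true, Finset.sum_apply,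
          Pi.smul_apply, smul_eq_mul, Matrix.one_apply, mul_ite, mul_one, mul_zero,
          Finset.sum_ite_eq', Finset.mem_univ, v]
        by_cases hb : b ∈ K <;> simp [hb, eq_comm]
      · simp only [Matrix.transpose_apply, hS, Matrix.of_apply, if_neg hc, wMat_singleton,
          Matrix.one_apply]
        by_cases hb : b ∈ K <;> simp [hb, eq_comm]
    rw [← Matrix.det_transpose, e, Matrix.det_updateRow_sum, Matrix.det_one, smul_eq_mul, mul_one]
    simp [v, hi, wMat_singleton, hF.cartan_self i i.2]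
  rw [h1, Matrix.det_mul, h2, neg_one_mul]

variable (hF : Facts.{u} D) {C : Alcove D} (hC : C.Valid)
include hF hC

theorem wordV_congr {w w' : List (Fin D.rank)} (h : pWord hF w = pWord hF w')
    (v : Fin D.rank → ℤ) : Eigen.wordV D w v = Eigen.wordV D w' v := by
  rw [← sub_eq_zero]
  refine ip_simple_injective hF hC fun i => ?_
  obtain ⟨s, hs⟩ := (pWord hF w).surjective (sRoot hF i)
  rw [ip_sub, show (D.simple i : ℕ) = (sRoot hF i : ℕ) from rfl]
  conv_lhs => rw [← hs]
  conv_lhs => arg 2; rw [h]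
  rw [ip_wordV hF, ip_wordV hF, sub_self]

omit hC in
/-- A word for an element of the Weyl group. -/
noncomputable def wordOf (π : ↥(weyl hF)) : List (Fin D.rank) :=
  Classical.choose (exists_pWord hF π.2)

omit hC in
theorem pWord_wordOf (π : ↥(weyl hF)) : pWord hF (wordOf hF π) = π :=
  by
  rw [wordOf]
  exact Classical.choose_spec (exists_pWord hF π.2)

omit hC in
/-- The matrix of an element of the Weyl group. -/
noncomputable def weylMat (π : ↥(weyl hF)) : Matrix (Fin D.rank) (Fin D.rank) ℤ :=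
  wMat D (wordOf hF π)

theorem weylMat_eq (π : ↥(weyl hF)) {w : List (Fin D.rank)} (h : pWord hF w = π) :
    weylMat hF π = wMat D w := by
  ext a b
  exact congrFun (wordV_congr hF hC ((pWord_wordOf hF π).trans h.symm) _) a

theorem weylMat_mul (π π' : ↥(weyl hF)) :
    weylMat hF (π * π') = weylMat hF π * weylMat hF π' := by
  rw [weylMat_eq hF hC (π * π') (w := wordOf hF π ++ wordOf hF π') (by
    rw [pWord_append, pWord_wordOf, pWord_wordOf]; rfl), wMat_append]
  rfl

theorem weylMat_one : weylMat hF (1 : ↥(weyl hF)) = 1 := by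
  rw [weylMat_eq hF hC 1 (w := []) rfl, wMat_nil]

omit hC in
/-- A simple reflection in the Weyl group. -/
def simpleW (i : Fin D.rank) : ↥(weyl hF) :=
  ⟨pWord hF [i], pWord_mem hF [i]⟩

theorem weylMat_simpleW (i : Fin D.rank) : weylMat hF (simpleW hF i) = wMat D [i] :=
  weylMat_eq hF hC _ rfl

theorem sum_det_eq [Fintype ↥(weyl hF)] (q : ℤ) :
    ∑ π : ↥(weyl hF), ((q • (1 : Matrix (Fin D.rank) (Fin D.rank) ℤ)) - weylMat hF π).det =
      Fintype.card ↥(weyl hF) * q ^ D.rank := by
  classical
  simp only [det_sub_eq_sum]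
  rw [Finset.sum_comm, Finset.sum_eq_single (∅ : Finset (Fin D.rank)) (fun K _ hK => ?_)
    (fun h => absurd (Finset.mem_univ _) h)]
  · simp only [Finset.notMem_empty, if_false, Finset.prod_const, Finset.card_univ,
      Fintype.card_fin, show ∀ M : Matrix (Fin D.rank) (Fin D.rank) ℤ,
        (mixM ∅ M).det = 1 from fun M => by
        rw [show mixM ∅ M = 1 from Matrix.ext fun b a => by simp [mixM], Matrix.det_one],
      mul_one, Finset.sum_const, nsmul_eq_mul]
  · obtain ⟨i, hi⟩ := Finset.nonempty_of_ne_empty hK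
    rw [← Finset.mul_sum]
    have h : ∑ π : ↥(weyl hF), (mixM K (weylMat hF π)).det =
        -∑ π : ↥(weyl hF), (mixM K (weylMat hF π)).det := by
      conv_lhs => rw [← Equiv.sum_comp (Equiv.mulRight (simpleW hF i))]
      rw [← Finset.sum_neg_distrib]
      refine Finset.sum_congr rfl fun π _ => ?_
      rw [Equiv.coe_mulRight, weylMat_mul hF hC, weylMat_simpleW hF hC, det_mixM_singleton hF hi]
    rw [show ∑ π : ↥(weyl hF), (mixM K (weylMat hF π)).det = 0 by linarith, mul_zero]

theorem weylMat_pow_card (π : ↥(weyl hF)) :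
    ∀ n : ℕ, weylMat hF (π ^ n) = weylMat hF π ^ n
  | 0 => by rw [pow_zero, pow_zero, weylMat_one hF hC]
  | n + 1 => by rw [pow_succ, pow_succ, weylMat_mul hF hC, weylMat_pow_card π n]

theorem det_sub_pos (π : ↥(weyl hF)) {q : ℕ} (hq : 2 ≤ q) :
    0 < (((q : ℤ) • (1 : Matrix (Fin D.rank) (Fin D.rank) ℤ)) - weylMat hF π).det := by
  classical
  set m := orderOf π with hm
  have hm0 : 0 < m := orderOf_pos π
  set A : Matrix (Fin D.rank) (Fin D.rank) ℝ := (weylMat hF π).map (Int.castRingHom ℝ) with hA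
  have hAm : A ^ m = 1 := by
    have h := congrArg (Int.castRingHom ℝ).mapMatrix
      ((weylMat_pow_card hF hC π m).symm.trans (by rw [hm, pow_orderOf_eq_one, weylMat_one hF hC]))
    rw [map_pow, map_one] at h
    exact h
  have hroots : ∀ y : ℝ, A.charpoly.IsRoot y → y < q := by
    intro y hy
    by_contra hlt
    have hy2 : 2 ≤ y := le_trans (by exact_mod_cast hq) (not_lt.1 hlt)
    rw [Polynomial.IsRoot, Matrix.eval_charpoly] at hy
    obtain ⟨v, hv0, hv⟩ := Matrix.exists_mulVec_eq_zero_iff.2 hy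
    rw [Matrix.sub_mulVec, sub_eq_zero] at hv
    have hAv : A.mulVec v = y • v := by
      rw [← hv]
      funext a
      simp [Matrix.mulVec_diagonal]
    have hpow : ∀ j : ℕ, (A ^ j).mulVec v = y ^ j • v := by
      intro j
      induction j with
      | zero => simp
      | succ j ih =>
        rw [pow_succ, ← Matrix.mulVec_mulVec, hAv, Matrix.mulVec_smul, ih, smul_smul, ← pow_succ']
    have h := hpow m
    rw [hAm, Matrix.one_mulVec] at h
    obtain ⟨a, ha⟩ := Function.ne_iff.1 hv0
    have h2 : y ^ m = 1 := by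
      have := congrFun h a
      rw [Pi.smul_apply, smul_eq_mul] at this
      exact mul_right_cancel₀ ha (by rw [one_mul]; exact this.symm)
    exact absurd h2 (one_lt_pow₀ (by linarith) hm0.ne').ne'
  have h := Polynomial.zero_lt_eval_of_roots_lt_of_leadingCoeff_nonneg hroots
    (by rw [A.charpoly_monic.leadingCoeff]; exact zero_le_one)
  rw [Matrix.eval_charpoly] at h
  have e : Matrix.scalar (Fin D.rank) (q : ℝ) - A =
      (Int.castRingHom ℝ).mapMatrix (((q : ℤ) • 1) - weylMat hF π) := by
    ext a b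
    rw [RingHom.mapMatrix_apply, Matrix.map_apply, Matrix.sub_apply, Matrix.sub_apply,
      Matrix.smul_apply, hA, Matrix.map_apply, Matrix.scalar_apply, map_sub, smul_eq_mul]
    by_cases hab : a = b
    · subst hab; simp
    · simp [hab]
  rw [e, ← RingHom.map_det] at h
  exact Int.cast_pos.1 h

theorem det_sub_cast_ne_zero {k : Type v} [Field k] (π : ↥(weyl hF)) {q : ℕ}
    (hq : (q : k) = 0) :
    (((((q : ℤ) • (1 : Matrix (Fin D.rank) (Fin D.rank) ℤ)) - weylMat hF π).det : ℤ) : k) ≠ 0 := by
  have h1 : ((((q : ℤ) • (1 : Matrix (Fin D.rank) (Fin D.rank) ℤ)) - weylMat hF π).map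
      (Int.castRingHom k)) = -(weylMat hF π).map (Int.castRingHom k) := by
    ext a b
    rw [Matrix.map_apply, Matrix.neg_apply, Matrix.map_apply, Matrix.sub_apply, Matrix.smul_apply,
      map_sub, smul_eq_mul, map_mul, map_natCast, hq, zero_mul, zero_sub]
  show Int.castRingHom k _ ≠ 0
  rw [RingHom.map_det, RingHom.mapMatrix_apply, h1, Matrix.det_neg]
  refine mul_ne_zero (pow_ne_zero _ (neg_ne_zero.2 one_ne_zero)) ?_
  refine left_ne_zero_of_mul_eq_one (b := ((weylMat hF π⁻¹).map (Int.castRingHom k)).det) ?_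
  rw [← Matrix.det_mul, ← RingHom.mapMatrix_apply, ← RingHom.mapMatrix_apply, ← map_mul,
    ← weylMat_mul hF hC, mul_inv_cancel, weylMat_one hF hC, map_one, Matrix.det_one]

end Cfsg.Agent.Chev.SS
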