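import Cfsg.Agent.Chev.Semisimple.Cover
import Cfsg.Agent.Chev.Semisimple.WeylSum
import Cfsg.Agent.Chev.SubfieldNormalizer
import Mathlib.FieldTheory.Finite.Basic

/-!
Semisimple classes of a Chevalley group over a finite field correspond to the stable orbits of
the Weyl group on a torus, when the centre of the simply connected group has no fixed points.
-/

set_option autoImplicit false

namespace Cfsg.Agent.Chev.SS

open Cfsg.Lie Cfsg.Agent.Chev
open scoped MatrixGroups

universe u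

variable {D : ChevalleyDatum}

section Actions

variable {K : Type u} [Field K]

theorem zAct_mul' {n : ℕ} {A : Type u} [CommGroup A] (M : Matrix (Fin n) (Fin n) ℤ)
    (c d : Fin n → A) : zAct M (c * d) = zAct M c * zAct M d := by
  funext i
  simp [zAct, mul_zpow, Finset.prod_mul_distrib]

/-- The action of a matrix as a homomorphism. -/
def zHom {n : ℕ} (A : Type u) [CommGroup A] (M : Matrix (Fin n) (Fin n) ℤ) :
    (Fin n → A) →* (Fin n → A) where
  toFun := zAct M
  map_one' := zAct_apply_one M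
  map_mul' := zAct_mul' M

theorem wordC_mul (w : List (Fin D.rank)) (c d : Fin D.rank → Kˣ) :
    wordC D w (c * d) = wordC D w c * wordC D w d := by
  simp only [wordC_eq_zAct, zAct_mul']

theorem wordC_pow (w : List (Fin D.rank)) (c : Fin D.rank → Kˣ) (n : ℕ) :
    wordC D w (c ^ n) = wordC D w c ^ n := by
  rw [wordC_eq_zAct, wordC_eq_zAct]
  exact map_pow (zHom Kˣ (wMat D w)) c n

theorem wordC_append (w w' : List (Fin D.rank)) (c : Fin D.rank → Kˣ) :
    wordC D (w ++ w') c = wordC D w (wordC D w' c) := by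
  simp [wordC, List.foldr_append]

theorem chiU_pow (c : Fin D.rank → Kˣ) (n : ℕ) (s : ℕ) : chiU (c ^ n) s = chiU c s ^ n := by
  induction n with
  | zero => simp [chiU]
  | succ n ih => rw [pow_succ, pow_succ, chiU_mul', ih]

variable (hF : Facts.{u} D)
include hF

theorem wordC_of_ker {z : Fin D.rank → Kˣ} (hz : (torusHom z : GL D.Idx K) = 1)
    (w : List (Fin D.rank)) : wordC D w z = z := by
  induction w with
  | nil => rfl
  | cons i w ih =>
    show reflC D i (wordC D w z) = z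
    rw [ih, reflC, show chiU z (D.simple i) = 1 from (torusHom_eq_one_iff z).1 hz (sRoot hF i),
      inv_one, Pi.mulSingle_one, mul_one]

theorem isMon_symm {g : GL D.Idx K} {π : Equiv.Perm (Fin D.nroots)} (h : IsMon hF g π) :
    IsMon hF g⁻¹ π⁻¹ := by
  intro r
  obtain ⟨b, hb, h⟩ := h (π⁻¹ r)
  refine ⟨b⁻¹, inv_ne_zero hb, fun t => ?_⟩
  have h' := h (b⁻¹ * t)
  rw [Equiv.Perm.coe_inv, Equiv.apply_symm_apply, ← mul_assoc b, mul_inv_cancel₀ hb, one_mul] at h'
  rw [Equiv.Perm.coe_inv, inv_mul_eq_iff_eq_mul, ← mul_assoc, h', mul_inv_cancel_right]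

theorem centRoots_conj {c : Fin D.rank → Kˣ} {g : GL D.Idx K} {π : Equiv.Perm (Fin D.nroots)}
    (h : IsMon hF g π) (hπ : ∀ r : Fin D.nroots, chiU c (r : ℕ) = 1 → chiU c (π r : ℕ) = 1)
    {l : GL D.Idx K} (hl : l ∈ centRoots hF c) : g * l * g⁻¹ ∈ centRoots hF c := by
  refine ((Subgroup.closure_le _).2 ?_ : centRoots hF c ≤
    (centRoots hF c).comap (MulAut.conj g).toMonoidHom) hl
  rintro x ⟨r, t, hr, rfl⟩
  obtain ⟨v, hv⟩ := isMon_conj_mem hF h r t
  show g * xG hF r t * g⁻¹ ∈ centRoots hF c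
  rw [hv]
  exact xG_mem_centRoots hF (hπ r hr) v

variable {C : Alcove D} (hC : C.Valid)
include hC

theorem wordC_congr {w w' : List (Fin D.rank)} (h : pWord hF w = pWord hF w')
    (c : Fin D.rank → Kˣ) : wordC D w c = wordC D w' c := by
  rw [wordC_eq_zAct, wordC_eq_zAct,
    show wMat D w = wMat D w' from Matrix.ext fun a b => congrFun (wordV_congr hF hC h _) a]

theorem wordC_reverse (w : List (Fin D.rank)) (c : Fin D.rank → Kˣ) :
    wordC D w.reverse (wordC D w c) = c := by
  rw [← wordC_append, wordC_congr hF hC (w' := []) (by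
    rw [pWord_append, pWord_reverse, inv_mul_cancel]; rfl)]
  rfl

theorem wordC_reverse' (w : List (Fin D.rank)) (c : Fin D.rank → Kˣ) :
    wordC D w (wordC D w.reverse c) = c := by
  simpa using wordC_reverse hF hC w.reverse c

theorem wordC_wordOf_mul (π π' : ↥(weyl hF)) (c : Fin D.rank → Kˣ) :
    wordC D (wordOf hF (π * π')) c = wordC D (wordOf hF π) (wordC D (wordOf hF π') c) := by
  rw [← wordC_append]
  exact wordC_congr hF hC (by rw [pWord_append, pWord_wordOf, pWord_wordOf, pWord_wordOf]; rfl) c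

/-- The Weyl group acting on torus parameters. -/
noncomputable def weylPerm : ↥(weyl hF) →* Equiv.Perm (Fin D.rank → Kˣ) where
  toFun π :=
    { toFun := wordC D (wordOf hF π)
      invFun := wordC D (wordOf hF π).reverse
      left_inv := wordC_reverse hF hC _
      right_inv := wordC_reverse' hF hC _ }
  map_one' := Equiv.ext fun c => wordC_congr hF hC (w' := []) (pWord_wordOf hF 1) c
  map_mul' π π' := Equiv.ext fun c => wordC_wordOf_mul hF hC π π' c

theorem weylPerm_apply (π : ↥(weyl hF)) (c : Fin D.rank → Kˣ) :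
    weylPerm hF hC π c = wordC D (wordOf hF π) c := rfl

theorem weylPerm_word (w : List (Fin D.rank)) (c : Fin D.rank → Kˣ) :
    weylPerm hF hC ⟨pWord hF w, pWord_mem hF w⟩ c = wordC D w c :=
  wordC_congr hF hC (pWord_wordOf hF _) c

theorem weylPerm_eq_zAct (π : ↥(weyl hF)) (c : Fin D.rank → Kˣ) :
    weylPerm hF hC π c = zAct (weylMat hF π) c :=
  wordC_eq_zAct _ c

/-- A fixed torus element gives a permutation of the roots generated by reflections fixing it. -/
theorem exists_mon_centRoots {c : Fin D.rank → Kˣ} [IsAlgClosed K]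
    (htor : ∀ u : Kˣ, ∃ n : ℕ, (n : K) ≠ 0 ∧ u ^ n = 1) {V : List (Fin D.rank)}
    (hV : wordC D V c = c) :
    ∃ a ∈ centRoots hF c, a ∈ D.monomialSubgroup K ∧ IsMon hF a (pWord hF V) := by
  classical
  set N := ∏ i, orderOf (c i) with hN
  have hNk : (N : K) ≠ 0 := by
    rw [hN, Nat.cast_prod, Finset.prod_ne_zero_iff]
    intro i _
    obtain ⟨n, hn, hu⟩ := htor (c i)
    obtain ⟨m, hm⟩ := orderOf_dvd_of_pow_eq_one hu
    intro h
    exact hn (by rw [hm, Nat.cast_mul, h, zero_mul])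
  have hN0 : 0 < N := Nat.pos_of_ne_zero fun h => hNk (by rw [h, Nat.cast_zero])
  haveI : NeZero (N : K) := ⟨hNk⟩
  haveI : NeZero N := ⟨hN0.ne'⟩
  obtain ⟨z, hz⟩ := HasEnoughRootsOfUnity.exists_primitiveRoot K N
  set ζ : Kˣ := (hz.isUnit hN0.ne').unit with hζdef
  have hζ : IsPrimitiveRoot ζ N := IsPrimitiveRoot.coe_units_iff.1 hz
  have hexp : ∀ i, ∃ x : ℤ, c i = ζ ^ x := by
    intro i
    have h3 : (c i : K) ^ N = 1 := by
      rw [← Units.val_pow_eq_pow_val, orderOf_dvd_iff_pow_eq_one.1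
        (Finset.dvd_prod_of_mem (fun j => orderOf (c j)) (Finset.mem_univ i)), Units.val_one]
    obtain ⟨j, -, hj⟩ := hz.eq_pow_of_pow_eq_one h3
    exact ⟨j, Units.ext (by rw [zpow_natCast, Units.val_pow_eq_pow_val]; exact hj.symm)⟩
  choose v hv using hexp
  have hcv : c = fun i => ζ ^ v i := funext hv
  rw [hcv, Eigen.wordC_zpow] at hV
  have hdvd : ∀ a, (N : ℤ) ∣ Eigen.wordV D V v a - v a := fun a => by
    rw [← hζ.zpow_eq_one_iff_dvd, zpow_sub, mul_inv_eq_one]
    exact congrFun hV a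
  have hmem := mem_fixSub hF hC (Int.natCast_pos.2 hN0) hdvd
  have hchi : ∀ r : Fin D.nroots, (N : ℤ) ∣ ip D v (r : ℕ) → chiU c (r : ℕ) = 1 := by
    intro r hr
    rw [hcv, ← (hζ.zpow_eq_one_iff_dvd _).2 hr, ip, zpow_finset_sum]
    exact Finset.prod_congr rfl fun j _ => (zpow_mul ζ _ _).symm
  have hgen : ∀ π ∈ {π | ∃ (u : List (Fin D.rank)) (i : Fin D.rank),
      (N : ℤ) ∣ ip D v (pWord hF u (sRoot hF i) : ℕ) ∧ π = pWord hF (reflWord u i)},
      ∃ a ∈ centRoots hF c, a ∈ D.monomialSubgroup K ∧ IsMon hF a π := by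
    rintro π ⟨u, i, hd, rfl⟩
    refine ⟨nWord hF u * nS hF (i : ℕ) * (nWord hF u)⁻¹, ?_,
      Subgroup.mul_mem _ (Subgroup.mul_mem _ (nWord_mem hF u) (nS_mem hF i))
        (Subgroup.inv_mem _ (nWord_mem hF u)), ?_⟩
    · have hconj : ∀ (r : Fin D.nroots) (t : K), chiU c (pWord hF u r : ℕ) = 1 →
          nWord hF u * xG hF r t * (nWord hF u)⁻¹ ∈ centRoots hF c := by
        intro r t hr
        obtain ⟨b, hb⟩ := isMon_conj_mem hF (isMon_nWord hF u) r t
        rw [hb]
        exact xG_mem_centRoots hF hr b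
      have hneg : chiU c (pWord hF u (negF hF (sRoot hF i)) : ℕ) = 1 := by
        refine hchi _ ?_
        rw [pWord_negF, ip_negF hF]
        exact dvd_neg.2 hd
      have e : nWord hF u * nS hF (i : ℕ) * (nWord hF u)⁻¹ =
          (nWord hF u * xG hF (sRoot hF i : ℕ) (1 : K) * (nWord hF u)⁻¹) *
            (nWord hF u * xG hF (negF hF (sRoot hF i) : ℕ) (-(1 : K)⁻¹) * (nWord hF u)⁻¹) *
            (nWord hF u * xG hF (sRoot hF i : ℕ) (1 : K) * (nWord hF u)⁻¹) := by
        show nWord hF u * nG hF (D.simple i) 1 * (nWord hF u)⁻¹ = _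
        rw [nG]
        show _ = (nWord hF u * xG hF (D.simple i) (1 : K) * (nWord hF u)⁻¹) *
            (nWord hF u * xG hF (D.neg (D.simple i)) (-(1 : K)⁻¹) * (nWord hF u)⁻¹) *
            (nWord hF u * xG hF (D.simple i) (1 : K) * (nWord hF u)⁻¹)
        group
      rw [e]
      exact Subgroup.mul_mem _ (Subgroup.mul_mem _ (hconj _ _ (hchi _ hd)) (hconj _ _ hneg))
        (hconj _ _ (hchi _ hd))
    · rw [show pWord hF (reflWord u i) = pWord hF u * wPerm hF i * (pWord hF u)⁻¹ by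
        rw [reflWord, pWord_append, pWord_cons, pWord_reverse, mul_assoc]]
      exact isMon_mul hF (isMon_mul hF (isMon_nWord hF u) (isMon_nS hF i))
        (isMon_symm hF (isMon_nWord hF u))
  refine Subgroup.closure_induction'' (s := {π | ∃ (u : List (Fin D.rank)) (i : Fin D.rank),
      (N : ℤ) ∣ ip D v (pWord hF u (sRoot hF i) : ℕ) ∧ π = pWord hF (reflWord u i)})
    (p := fun π _ => ∃ a ∈ centRoots hF c, a ∈ D.monomialSubgroup K ∧ IsMon hF a π)
    hgen (fun π hπ => ?_) ⟨1, Subgroup.one_mem _, Subgroup.one_mem _, isMon_one hF⟩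
    (fun π π' _ _ ⟨a, ha, hm, hi⟩ ⟨b, hb, hm', hi'⟩ => ⟨a * b, Subgroup.mul_mem _ ha hb,
      Subgroup.mul_mem _ hm hm', isMon_mul hF hi hi'⟩) hmem
  obtain ⟨a, ha, hm, hi⟩ := hgen π hπ
  exact ⟨a⁻¹, Subgroup.inv_mem _ ha, Subgroup.inv_mem _ hm, isMon_symm hF hi⟩

end Actions

section Finite

variable {F k : Type u} [Field F] [Field k] [IsAlgClosed k]

/-- The data of the situation: a Frobenius map of an algebraically closed field, all whose roots
of unity have order prime to the characteristic, and its fixed field. -/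
structure Setup (D : ChevalleyDatum) (C : Alcove D) (e q : ℕ) (σ : k →+* k) (ι : F →+* k) :
    Prop where
  facts : Facts.{u} D
  valid : C.Valid
  e_pos : 0 < e
  inv : CartanInv D e
  two_le : 2 ≤ q
  cop : Nat.Coprime e (q - 1)
  frob : ∀ t, σ t = t ^ q
  q_zero : (q : k) = 0
  fix : ∀ a, σ (ι a) = ι a
  range : ∀ t, σ t = t → ∃ a, ι a = t
  tor : ∀ u : kˣ, ∃ n : ℕ, (n : k) ≠ 0 ∧ u ^ n = 1

/-- A torus element whose orbit is stable. -/
def StableT (D : ChevalleyDatum) (q : ℕ) (c : Fin D.rank → kˣ) : Prop :=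
  ∃ u : List (Fin D.rank), wordC D u (c ^ q) = c

/-- The elements of the finite group conjugate to a torus element. -/
def InClass (ι : F →+* k) (c : Fin D.rank → kˣ) (h : ↥(D.group F)) : Prop :=
  ∃ g ∈ D.group k, gmap D ι (h : GL D.Idx F) = g * torusHom c * g⁻¹

variable {C : Alcove D} {e q : ℕ} {σ : k →+* k} {ι : F →+* k} (S : Setup D C e q σ ι)
include S

theorem Setup.gmap_torus (c : Fin D.rank → kˣ) :
    gmap D σ (torusHom c) = torusHom (c ^ q) := by
  rw [gmap_torusHom]
  exact congrArg _ (funext fun j => Units.ext (by simp [S.frob]))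

theorem Setup.gmap_fix (g : GL D.Idx F) : gmap D σ (gmap D ι g) = gmap D ι g :=
  Units.ext (Matrix.ext fun a b => S.fix _)

theorem Setup.ker_pow {z : Fin D.rank → kˣ} (hz : (torusHom z : GL D.Idx k) = 1) : z ^ e = 1 :=
  funext fun a => pow_eq_one_of_torusHom_eq_one S.facts S.inv hz a

theorem Setup.exists_root_exp :
    ∃ b : ℕ, ∀ z : Fin D.rank → kˣ, z ^ e = 1 → (z ^ (q - 1)) ^ b = z := by
  set b := ((Nat.gcdB e (q - 1)) % (e : ℤ)).toNat with hb
  refine ⟨b, fun z hz => ?_⟩
  have hze : z ^ (e : ℤ) = 1 := by rw [zpow_natCast, hz]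
  have hb' : (b : ℤ) = Nat.gcdB e (q - 1) - e * (Nat.gcdB e (q - 1) / e) := by
    rw [hb, Int.toNat_of_nonneg (Int.emod_nonneg _ (by have := S.e_pos; omega)), Int.emod_def]
  have hbez := Nat.gcd_eq_gcd_ab e (q - 1)
  rw [S.cop.gcd_eq_one, Nat.cast_one] at hbez
  rw [← pow_mul, ← zpow_natCast, Nat.cast_mul, hb', mul_sub,
    show ((q - 1 : ℕ) : ℤ) * Nat.gcdB e (q - 1) = 1 - e * Nat.gcdA e (q - 1) by linarith,
    mul_left_comm, zpow_sub, zpow_sub, zpow_one, zpow_mul, hze, one_zpow, zpow_mul, hze,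
    one_zpow, inv_one, mul_one, mul_one]

theorem Setup.ker_zero {z : Fin D.rank → kˣ} (hz : (torusHom z : GL D.Idx k) = 1)
    (h : z ^ (q - 1) = 1) : z = 1 := by
  obtain ⟨b, hb⟩ := S.exists_root_exp
  rw [← hb z (S.ker_pow hz), h, one_pow]

theorem Setup.exists_mem_of_fixed {g : GL D.Idx k} (hg : g ∈ D.group k)
    (hfix : gmap D σ g = g) : ∃ h : ↥(D.group F), gmap D ι (h : GL D.Idx F) = g := by
  have hF := S.facts
  obtain ⟨l, hl, c, -, rfl⟩ := exists_mul_torus hF σ hg hfix
  have hlimg : fixedRoots hF σ ≤ (D.group F).map (gmap D ι) := by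
    refine (Subgroup.closure_le _).2 ?_
    rintro x ⟨s, t, ht, rfl⟩
    obtain ⟨a, rfl⟩ := S.range t ht
    exact ⟨xG hF s a, xG_mem_group hF s a, gmap_xG hF hF ι s a⟩
  have hlfix : gmap D σ l = l := by
    refine ((Subgroup.closure_le _).2 ?_ : fixedRoots hF σ ≤
      MonoidHom.eqLocus (gmap D σ) (MonoidHom.id _)) hl
    rintro x ⟨s, t, ht, rfl⟩
    show gmap D σ (xG hF s t) = xG hF s t
    rw [gmap_xG hF hF, ht]
  rw [map_mul, hlfix, mul_right_inj, S.gmap_torus] at hfix
  -- correct the parameters by an element of the kernel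
  set z : Fin D.rank → kˣ := c ^ q * c⁻¹ with hzdef
  have hz : (torusHom z : GL D.Idx k) = 1 := by
    rw [hzdef, map_mul, map_inv, hfix, mul_inv_cancel]
  obtain ⟨b, hb⟩ := S.exists_root_exp
  set a : Fin D.rank → kˣ := (z ^ b)⁻¹ with ha
  have haker : (torusHom a : GL D.Idx k) = 1 := by rw [ha, map_inv, map_pow, hz, one_pow, inv_one]
  have haq : a ^ q = a * z⁻¹ := by
    rw [show q = (q - 1) + 1 by have := S.two_le; omega, pow_succ, mul_comm]
    congr 1
    rw [ha, inv_pow, ← pow_mul, mul_comm, pow_mul, hb z (S.ker_pow hz)]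
  have hca : (c * a) ^ q = c * a := by
    rw [mul_pow, haq, hzdef]
    funext i
    simp only [Pi.mul_apply, Pi.pow_apply, Pi.inv_apply]
    rw [mul_inv_rev, inv_inv, mul_comm (a i), mul_assoc, ← mul_assoc _ ((c i ^ q)⁻¹),
      mul_comm (c i) ((c i ^ q)⁻¹)]
    group
  have hpre : ∀ i, ∃ x : Fˣ, Units.map ι.toMonoidHom x = (c * a) i := by
    intro i
    obtain ⟨x, hx⟩ := S.range ((c * a) i : k) (by
      rw [S.frob, ← Units.val_pow_eq_pow_val, ← Pi.pow_apply, hca])
    have hx0 : x ≠ 0 := fun h => ((c * a) i).ne_zero (by rw [← hx, h, map_zero])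
    exact ⟨Units.mk0 x hx0, Units.ext hx⟩
  choose d hd using hpre
  obtain ⟨l₀, hl₀, rfl⟩ := hlimg hl
  refine ⟨⟨l₀ * torusHom d, Subgroup.mul_mem _ hl₀ (borel_le_group hF
    (Subgroup.mem_sup_right (torusHom_mem hF d)))⟩, ?_⟩
  rw [map_mul, gmap_torusHom, funext hd, map_mul, haker, mul_one]

theorem Setup.stableT_wordC {c : Fin D.rank → kˣ} (hc : StableT D q c)
    (w : List (Fin D.rank)) : StableT D q (wordC D w c) := by
  obtain ⟨u, hu⟩ := hc
  refine ⟨w ++ u ++ w.reverse, ?_⟩
  rw [← wordC_pow, wordC_append, wordC_append, wordC_reverse S.facts S.valid, hu]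

theorem Setup.torus_mem_group (c : Fin D.rank → kˣ) : (torusHom c : GL D.Idx k) ∈ D.group k :=
  borel_le_group S.facts (Subgroup.mem_sup_right (torusHom_mem S.facts c))

theorem Setup.nWord_mem_group (w : List (Fin D.rank)) :
    (nWord S.facts w : GL D.Idx k) ∈ D.group k :=
  monomial_le_group S.facts (nWord_mem S.facts w)

/-- The twisted Frobenius map moves the centraliser of a stable torus element onto itself, and
every element of the centraliser is of the form `m Φ(m)⁻¹`. -/
theorem Setup.twisted {c : Fin D.rank → kˣ} {u : List (Fin D.rank)}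
    (hu : wordC D u (c ^ q) = c) {g₀ : GL D.Idx k} (hg₀ : g₀ ∈ D.group k)
    (hg₀σ : gmap D σ g₀ = g₀ * nWord S.facts u) {y : GL D.Idx k} (hy : y ∈ D.group k)
    (hyc : torusHom c * y = y * torusHom c) :
    ∃ m ∈ D.group k, torusHom c * m = m * torusHom c ∧
      y * (nWord S.facts u * gmap D σ m * (nWord S.facts u)⁻¹) = m := by
  classical
  have hF := S.facts
  have hC := S.valid
  set ν : GL D.Idx k := nWord hF u with hν
  let Φ : GL D.Idx k →* GL D.Idx k := (MulAut.conj ν).toMonoidHom.comp (gmap D σ)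
  have hΦ : ∀ x, Φ x = ν * gmap D σ x * ν⁻¹ := fun x => rfl
  set L := centRoots hF c with hL
  set t : GL D.Idx k := torusHom c with ht
  -- the twisted map on roots
  have hchiu : ∀ r : Fin D.nroots, chiU c (pWord hF u r : ℕ) = chiU c (r : ℕ) ^ q := by
    intro r
    rw [← chiU_pow, ← chiU_wordC hF u (c ^ q) r, hu]
  have hΦL : ∀ l ∈ L, Φ l ∈ L := by
    intro l hl
    refine ((Subgroup.closure_le _).2 ?_ : L ≤ L.comap Φ) hl
    rintro x ⟨r, s, hr, rfl⟩
    show ν * gmap D σ (xG hF r s) * ν⁻¹ ∈ L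
    rw [gmap_xG hF hF]
    obtain ⟨b, hb⟩ := isMon_conj_mem hF (isMon_nWord hF u (F := k)) r (σ s)
    rw [hν, hb]
    exact xG_mem_centRoots hF (by rw [hchiu, hr, one_pow]) b
  have hΦt : ∀ d : Fin D.rank → kˣ, Φ (torusHom d) = torusHom (wordC D u (d ^ q)) := by
    intro d
    rw [hΦ, S.gmap_torus, hν, ← torusHom_wordC hF u (d ^ q), mul_inv_cancel_right]
  have hLcomm : ∀ l ∈ L, t * l = l * t := fun l hl => centRoots_commute hF hl
  -- the Weyl element of `y`
  obtain ⟨l₁, hl₁, l₂, hl₂, d, v, rfl, hv⟩ := exists_decomp hF hy hyc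
  set z : Fin D.rank → kˣ := wordC D v c * c⁻¹ with hzdef
  have htv : (torusHom (wordC D v c) : GL D.Idx k) = t := by
    refine torusHom_eq_of_chiU_eq fun s => ?_
    obtain ⟨r, rfl⟩ := (pWord hF v).surjective s
    rw [chiU_wordC hF, hv]
  have hz : (torusHom z : GL D.Idx k) = 1 := by
    rw [hzdef, map_mul, map_inv, htv, mul_inv_cancel]
  have hvc : wordC D v c = c * z := by rw [hzdef, mul_comm (wordC D v c), mul_inv_cancel_left]
  obtain ⟨b, hb⟩ := S.exists_root_exp
  set j := b * (e - 1) with hj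
  set vj := (List.replicate j v).flatten with hvj
  have hjc : ∀ i : ℕ, wordC D (List.replicate i v).flatten c = c * z ^ i := by
    intro i
    induction i with
    | zero => simp [wordC]
    | succ i ih =>
      rw [List.replicate_succ, List.flatten_cons, wordC_append, ih, wordC_mul, hvc,
        wordC_pow, wordC_of_ker hF hz, pow_succ']
      exact mul_assoc _ _ _
  have hjπ : ∀ (i : ℕ) (r : Fin D.nroots),
      chiU c (pWord hF (List.replicate i v).flatten r : ℕ) = chiU c (r : ℕ) := by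
    intro i
    induction i with
    | zero => intro r; rfl
    | succ i ih =>
      intro r
      rw [List.replicate_succ, List.flatten_cons, pWord_append, Equiv.Perm.mul_apply, hv, ih]
  set m : GL D.Idx k := nWord hF vj with hm
  have hmG : m ∈ D.group k := S.nWord_mem_group vj
  have hmt : t * m = m * t := by
    have h1 := torusHom_wordC hF vj c (F := k)
    rw [hvj, hjc, map_mul, map_pow, hz, one_pow, mul_one] at h1
    exact h1
  -- the element of the Weyl group after the correction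
  set V := vj.reverse ++ v ++ u ++ vj ++ u.reverse with hV
  have hVc : wordC D V c = c := by
    have h1 : wordC D u.reverse c = c ^ q := by
      conv_lhs => rw [← hu]
      rw [wordC_reverse hF hC]
    have h2 : wordC D vj.reverse c = c * (z ^ j)⁻¹ := by
      rw [eq_mul_inv_iff_mul_eq]
      calc wordC D vj.reverse c * z ^ j = wordC D vj.reverse (c * z ^ j) := by
            rw [wordC_mul, wordC_pow, wordC_of_ker hF hz]
        _ = c := by rw [← hjc, ← hvj, wordC_reverse hF hC]
    rw [hV, wordC_append, h1, wordC_append, wordC_pow, hvj, hjc, ← hvj, mul_pow, wordC_append,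
      wordC_mul, hu, wordC_pow, wordC_pow, wordC_of_ker hF hz, wordC_append, wordC_mul, hvc,
      wordC_pow, wordC_pow, wordC_of_ker hF hz, wordC_mul, wordC_mul, h2, wordC_pow, wordC_pow,
      wordC_of_ker hF hz]
    have hkey : z * (z ^ j) ^ q = z ^ j := by
      have h3 : z * (z ^ (q - 1)) ^ j = 1 := by
        rw [hj, pow_mul, hb z (S.ker_pow hz), ← pow_succ',
          Nat.sub_add_cancel S.e_pos, S.ker_pow hz]
      rw [show q = (q - 1) + 1 by have := S.two_le; omega, pow_succ, ← pow_mul, mul_comm j,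
        pow_mul, ← mul_assoc, h3, one_mul]
    rw [mul_assoc (c * (z ^ j)⁻¹), hkey, inv_mul_cancel_right]
  have hvchi : ∀ r : Fin D.nroots, chiU c (r : ℕ) = 1 → chiU c (pWord hF v r : ℕ) = 1 :=
    fun r h => (hv r).trans h
  obtain ⟨a, haL, hamon, haπ⟩ := exists_mon_centRoots hF hC S.tor hVc
  set M₀ : GL D.Idx k := m⁻¹ * torusHom d * nWord hF v * Φ m with hM₀
  have hΦm : Φ m = ν * m * ν⁻¹ := by rw [hΦ, hm, gmap_nWord hF hF]
  have hM₀mon : M₀ ∈ D.monomialSubgroup k := by
    rw [hM₀, hΦm]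
    exact Subgroup.mul_mem _ (Subgroup.mul_mem _ (Subgroup.mul_mem _
      (Subgroup.inv_mem _ (nWord_mem hF vj)) (Subgroup.mem_sup_left (torusHom_mem hF d)))
      (nWord_mem hF v)) (Subgroup.mul_mem _ (Subgroup.mul_mem _ (nWord_mem hF u) (nWord_mem hF vj))
        (Subgroup.inv_mem _ (nWord_mem hF u)))
  have hM₀π : IsMon hF M₀ (pWord hF V) := by
    have h := isMon_mul hF (isMon_mul hF (isMon_mul hF (isMon_symm hF (isMon_nWord hF vj (F := k)))
      (isMon_torus hF d)) (isMon_nWord hF v)) (isMon_mul hF (isMon_mul hF (isMon_nWord hF u)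
        (isMon_nWord hF vj)) (isMon_symm hF (isMon_nWord hF u)))
    rw [hM₀, hΦm, hm, hν]
    convert h using 1
    simp only [hV, pWord_append, pWord_reverse, mul_one, mul_assoc]
  obtain ⟨d₁, hd₁⟩ : ∃ d₁, (torusHom d₁ : GL D.Idx k) = M₀ * a⁻¹ :=
    (mem_diagonal_iff hF).1 (mem_diagonal_of_isMon_one hF
      (Subgroup.mul_mem _ hM₀mon (Subgroup.inv_mem _ hamon)) (by
        simpa using isMon_mul hF hM₀π (isMon_symm hF haπ)))
  -- the left and right parts
  have hTL : ∀ (d : Fin D.rank → kˣ), ∀ l ∈ L, torusHom d * l * (torusHom d)⁻¹ ∈ L :=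
    fun d l hl => centRoots_conj hF (isMon_torus hF d) (fun r h => h) hl
  have hmL : ∀ l ∈ L, m⁻¹ * l * m ∈ L := by
    intro l hl
    have h := centRoots_conj hF (isMon_symm hF (isMon_nWord hF vj (F := k))) (fun r hr => by
      obtain ⟨s, rfl⟩ := (pWord hF vj).surjective r
      rw [Equiv.Perm.coe_inv, Equiv.symm_apply_apply, ← hjπ j s]
      exact hr) hl
    rwa [inv_inv] at h
  have hΦmL : ∀ l ∈ L, (Φ m)⁻¹ * l * Φ m ∈ L := by
    intro l hl
    have h := centRoots_conj hF (isMon_symm hF (isMon_mul hF (isMon_mul hF (isMon_nWord hF u (F := k))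
      (isMon_nWord hF vj)) (isMon_symm hF (isMon_nWord hF u)))) (fun r hr => by
      obtain ⟨s, rfl⟩ := (pWord hF u * pWord hF vj * (pWord hF u)⁻¹).surjective r
      rw [Equiv.Perm.coe_inv, Equiv.symm_apply_apply]
      obtain ⟨s', rfl⟩ := (pWord hF u).surjective s
      rw [Equiv.Perm.mul_apply, Equiv.Perm.mul_apply, Equiv.Perm.coe_inv,
        Equiv.symm_apply_apply, hchiu, hjπ] at hr
      rw [hchiu]
      exact hr) hl
    rw [inv_inv, ← hν, ← hm, ← hΦm] at h
    exact h
  -- the torus part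
  obtain ⟨π, hπdef⟩ : ∃ π : ↥(weyl hF), π = ⟨pWord hF u.reverse, pWord_mem hF _⟩ := ⟨_, rfl⟩
  obtain ⟨x, hx⟩ := zAct_surjective (k := k)
    (((q : ℤ) • (1 : Matrix (Fin D.rank) (Fin D.rank) ℤ)) - wMat D u.reverse)
    (by
      rw [← weylMat_eq hF hC π (by rw [hπdef])]
      exact (det_sub_pos hF hC π S.two_le).ne') d₁⁻¹
  set d' := wordC D u.reverse x with hd'
  have hd'eq : d' * (wordC D u (d' ^ q))⁻¹ = d₁ := by
    have h1 : zAct (((q : ℤ) • (1 : Matrix (Fin D.rank) (Fin D.rank) ℤ)) - wMat D u.reverse) x =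
        x ^ q * (d')⁻¹ := by
      funext i
      rw [hd', wordC_eq_zAct, Pi.mul_apply, Pi.inv_apply, zAct, zAct]
      simp only [Matrix.sub_apply, zpow_sub, Finset.prod_mul_distrib, Finset.prod_inv_distrib]
      congr 1
      rw [Finset.prod_eq_single i (fun l _ hl => by
        rw [Matrix.smul_apply, Matrix.one_apply_ne (Ne.symm hl), smul_zero, zpow_zero])
        (fun h => absurd (Finset.mem_univ i) h), Matrix.smul_apply, Matrix.one_apply_eq,
        smul_eq_mul, mul_one, zpow_natCast, Pi.pow_apply]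
    rw [h1] at hx
    rw [hd', ← wordC_pow u.reverse, wordC_reverse' hF hC, ← hd', ← inv_inv d₁, ← hx, mul_inv_rev,
      inv_inv]
  set T₂ : GL D.Idx k := torusHom d' with hT₂
  have htor : T₂⁻¹ * torusHom d₁ * Φ T₂ = 1 := by
    rw [hT₂, hΦt, ← map_inv, ← map_mul, ← map_mul, ← hd'eq]
    simp [mul_assoc]
  have hΦT₂L : ∀ l ∈ L, (Φ T₂)⁻¹ * l * Φ T₂ ∈ L := by
    intro l hl
    rw [hT₂, hΦt, ← map_inv]
    have := hTL (wordC D u (d' ^ q))⁻¹ l hl
    rwa [map_inv, inv_inv, ← map_inv] at this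
  -- collect
  set y := l₁ * torusHom d * nWord hF v * l₂ with hydef
  set l₃ := (Φ T₂)⁻¹ * (a * ((Φ m)⁻¹ * l₂ * Φ m)) * Φ T₂ with hl₃
  have hl₃L : l₃ ∈ L := hΦT₂L _ (Subgroup.mul_mem _ haL (hΦmL _ hl₂))
  set l₀ := T₂⁻¹ * (m⁻¹ * l₁ * m) * T₂ with hl₀
  have hl₀L : l₀ ∈ L := by
    have := hTL d'⁻¹ _ (hmL _ hl₁)
    rw [map_inv, inv_inv] at this
    exact this
  have hfinal : (m * T₂)⁻¹ * y * Φ (m * T₂) = l₀ * l₃ := by
    have e1 : (m * T₂)⁻¹ * y * Φ (m * T₂) =
        l₀ * (T₂⁻¹ * (M₀ * a⁻¹) * Φ T₂) * l₃ := by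
      rw [hl₀, hl₃, hM₀, hydef, map_mul]
      group
    rw [e1, ← hd₁, htor, mul_one]
  -- the connected part
  set l' := l₀ * l₃
  have hl' : l' ∈ L := Subgroup.mul_mem _ hl₀L hl₃L
  let J := {r : Fin D.nroots // chiU c (r : ℕ) = 1}
  let Fm : AlgGroup.Fam k D.Idx J :=
    { X := fun r s => g₀ * xG hF (r.1 : ℕ) s * g₀⁻¹
      P := fun r => (g₀ : Matrix D.Idx D.Idx k).map Polynomial.C * xPoly D k r.1 *
        ((g₀⁻¹ : GL D.Idx k) : Matrix D.Idx D.Idx k).map Polynomial.C
      val := fun r s => by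
        have hC' : ∀ A : Matrix D.Idx D.Idx k,
            (A.map Polynomial.C).map (Polynomial.evalRingHom s) = A := fun A => by
          ext a b; simp
        show _ = (_ : Matrix D.Idx D.Idx (Polynomial k)).map (Polynomial.evalRingHom s)
        rw [Matrix.map_mul, Matrix.map_mul, hC', hC', Units.val_mul, Units.val_mul, xG_val,
          x_eq_map_xPoly]
        rfl
      zero := fun r => by rw [(xG_eq_one_iff hF r.1.2).2 rfl, mul_one, mul_inv_cancel]
      inv := fun r s => by rw [mul_inv_rev, mul_inv_rev, inv_inv, xG_inv hF, mul_assoc] }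
  have hgrp : Fm.group = L.map (MulAut.conj g₀).toMonoidHom := by
    rw [hL, centRoots, MonoidHom.map_closure, AlgGroup.Fam.group]
    congr 1
    ext x
    constructor
    · rintro ⟨r, s, rfl⟩
      exact ⟨xG hF (r.1 : ℕ) s, ⟨r.1, s, r.2, rfl⟩, rfl⟩
    · rintro ⟨_, ⟨r, s, hr, rfl⟩, rfl⟩
      exact ⟨⟨r, hr⟩, s, rfl⟩
  have hσconj : ∀ x, gmap D σ (g₀ * x * g₀⁻¹) = g₀ * Φ x * g₀⁻¹ := by
    intro x
    rw [map_mul, map_mul, map_inv, hg₀σ, hΦ, hν]
    group
  obtain ⟨B, hB, hBσ⟩ := Fm.lang' S.two_le σ S.frob (fun r s => by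
      rw [hgrp]
      exact ⟨Φ (xG hF (r.1 : ℕ) s), hΦL _ (xG_mem_centRoots hF r.2 s), (hσconj _).symm⟩)
    (x := g₀ * l' * g₀⁻¹) (by rw [hgrp]; exact ⟨l', hl', rfl⟩)
  rw [hgrp] at hB
  obtain ⟨a', ha', rfl⟩ := Subgroup.mem_map.1 hB
  have ha'' : Φ a' = a' * l' := by
    have h := (hσconj a').symm.trans hBσ
    rw [MulEquiv.coe_toMonoidHom, MulAut.conj_apply,
      show g₀ * a' * g₀⁻¹ * (g₀ * l' * g₀⁻¹) = g₀ * (a' * l') * g₀⁻¹ by group] at h
    exact mul_left_cancel (mul_right_cancel h)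
  refine ⟨m * T₂ * a'⁻¹, Subgroup.mul_mem _ (Subgroup.mul_mem _ hmG (S.torus_mem_group d'))
    (Subgroup.inv_mem _ (centRoots_le_group hF c ha')), ?_, ?_⟩
  · have hT : Commute t T₂ := by rw [ht, hT₂]; exact (Commute.all c d').map torusHom
    exact ((Commute.mul_right hmt hT).mul_right (Commute.inv_right (hLcomm _ ha')))
  · show y * Φ (m * T₂ * a'⁻¹) = _
    rw [map_mul Φ (m * T₂), map_inv, ha'']
    calc y * (Φ (m * T₂) * (a' * l')⁻¹)
        = (m * T₂) * ((m * T₂)⁻¹ * y * Φ (m * T₂)) * (a' * l')⁻¹ := by group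
      _ = _ := by rw [hfinal]; group

theorem Setup.exists_inClass {c : Fin D.rank → kˣ} (hc : StableT D q c) :
    ∃ h, InClass ι c h := by
  obtain ⟨u, hu⟩ := hc
  obtain ⟨g, hg, hgσ⟩ := exists_lang S.facts S.two_le σ S.frob (S.nWord_mem_group u)
  have hmem : g * torusHom c * g⁻¹ ∈ D.group k :=
    Subgroup.mul_mem _ (Subgroup.mul_mem _ hg (S.torus_mem_group c)) (Subgroup.inv_mem _ hg)
  obtain ⟨h, hh⟩ := S.exists_mem_of_fixed hmem (by
    rw [map_mul, map_mul, map_inv, hgσ, S.gmap_torus, mul_assoc g, ← torusHom_wordC, hu]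
    group)
  exact ⟨h, g, hg, hh⟩

theorem Setup.isConj_of_inClass {c : Fin D.rank → kˣ} (hc : StableT D q c)
    {h h' : ↥(D.group F)} (hh : InClass ι c h) (hh' : InClass ι c h') : IsConj h h' := by
  obtain ⟨u, hu⟩ := hc
  obtain ⟨g₀, hg₀, hg₀σ⟩ := exists_lang S.facts S.two_le σ S.frob (S.nWord_mem_group u)
  set ν : GL D.Idx k := nWord S.facts u with hν
  set t : GL D.Idx k := torusHom c with ht
  have hνt : t * ν = ν * gmap D σ t := by
    rw [ht, S.gmap_torus, hν, ← torusHom_wordC, hu]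
  -- every element of the class is conjugate to the one of `g₀` by a fixed element
  have key : ∀ x : ↥(D.group F), InClass ι c x → ∃ a : ↥(D.group F),
      gmap D ι (a : GL D.Idx F) * (g₀ * t * g₀⁻¹) * (gmap D ι (a : GL D.Idx F))⁻¹ =
        gmap D ι (x : GL D.Idx F) := by
    rintro x ⟨g, hg, hx⟩
    have hfix : gmap D σ (g * t * g⁻¹) = g * t * g⁻¹ := by rw [← hx, S.gmap_fix]
    set ν' := g⁻¹ * gmap D σ g with hν'
    have hν't : ν' * gmap D σ t = t * ν' := by
      rw [map_mul, map_mul, map_inv] at hfix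
      calc ν' * gmap D σ t = g⁻¹ * (gmap D σ g * gmap D σ t * (gmap D σ g)⁻¹) * gmap D σ g := by
            rw [hν']; group
        _ = _ := by rw [hfix, hν']; group
    obtain ⟨m, hm, hmt, hym⟩ := S.twisted hu hg₀ hg₀σ (y := ν' * ν⁻¹)
      (Subgroup.mul_mem _ (Subgroup.mul_mem _ (Subgroup.inv_mem _ hg)
        (gmap_mem_group S.facts S.facts σ hg)) (Subgroup.inv_mem _ (S.nWord_mem_group u))) (by
      calc t * (ν' * ν⁻¹) = (t * ν') * ν⁻¹ := by group
        _ = ν' * (gmap D σ t * ν⁻¹) := by rw [← hν't]; group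
        _ = ν' * (ν⁻¹ * (ν * gmap D σ t) * ν⁻¹) := by group
        _ = _ := by rw [← hνt, ht]; group)
    have hgm : gmap D σ (g * m) = g * m * ν := by
      rw [← hν] at hym
      calc gmap D σ (g * m) = g * (ν' * ν⁻¹ * (ν * gmap D σ m * ν⁻¹)) * ν := by
            rw [map_mul, hν']; group
        _ = _ := by rw [hym]
    obtain ⟨a, ha⟩ := S.exists_mem_of_fixed
      (Subgroup.mul_mem _ (Subgroup.mul_mem _ hg hm) (Subgroup.inv_mem _ hg₀) :
        g * m * g₀⁻¹ ∈ D.group k) (by rw [map_mul, map_inv, hgm, hg₀σ]; group)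
    refine ⟨a, ?_⟩
    rw [ha, hx]
    calc g * m * g₀⁻¹ * (g₀ * t * g₀⁻¹) * (g * m * g₀⁻¹)⁻¹
        = g * (m * t) * m⁻¹ * g⁻¹ := by group
      _ = _ := by rw [← hmt]; group
  obtain ⟨a, ha⟩ := key h hh
  obtain ⟨a', ha'⟩ := key h' hh'
  refine isConj_iff.2 ⟨a' * a⁻¹, Subtype.ext (gmap_injective ι ?_)⟩
  simp only [Subgroup.coe_mul, Subgroup.coe_inv, map_mul, map_inv, ← ha, ← ha']
  group

theorem Setup.inClass_of_isConj {c : Fin D.rank → kˣ} {h h' : ↥(D.group F)}
    (hh : InClass ι c h) (hc : IsConj h h') : InClass ι c h' := by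
  obtain ⟨a, rfl⟩ := isConj_iff.1 hc
  obtain ⟨g, hg, hx⟩ := hh
  refine ⟨gmap D ι (a : GL D.Idx F) * g,
    Subgroup.mul_mem _ (gmap_mem_group S.facts S.facts ι a.2) hg, ?_⟩
  simp only [Subgroup.coe_mul, Subgroup.coe_inv, map_mul, map_inv, hx]
  group

theorem Setup.inClass_wordC {c : Fin D.rank → kˣ} {h : ↥(D.group F)}
    (hh : InClass ι c h) (w : List (Fin D.rank)) : InClass ι (wordC D w c) h := by
  obtain ⟨g, hg, hx⟩ := hh
  refine ⟨g * (nWord S.facts w)⁻¹,
    Subgroup.mul_mem _ hg (Subgroup.inv_mem _ (S.nWord_mem_group w)), ?_⟩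
  rw [hx, show g * (nWord S.facts w)⁻¹ * torusHom (wordC D w c) * (g * (nWord S.facts w)⁻¹)⁻¹ =
    g * (nWord S.facts w)⁻¹ * (torusHom (wordC D w c) * nWord S.facts w) * g⁻¹ by group,
    torusHom_wordC]
  group

theorem Setup.coprime_of_inClass (p : ℕ) [Fact p.Prime] [CharP k p] {c : Fin D.rank → kˣ}
    {h : ↥(D.group F)} (hh : InClass ι c h) : (orderOf h).Coprime p := by
  classical
  obtain ⟨g, -, hx⟩ := hh
  choose n hn hu using fun i => S.tor (c i)
  have hN : ((∏ i, n i : ℕ) : k) ≠ 0 := by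
    rw [Nat.cast_prod, Finset.prod_ne_zero_iff]
    exact fun i _ => hn i
  have hc : c ^ (∏ i, n i) = 1 := funext fun i => by
    obtain ⟨m, hm⟩ := Finset.dvd_prod_of_mem n (Finset.mem_univ i)
    rw [Pi.pow_apply, hm, pow_mul, hu, one_pow, Pi.one_apply]
  have hpow : h ^ (∏ i, n i) = 1 := by
    refine Subtype.ext (gmap_injective ι ?_)
    rw [Subgroup.coe_pow, map_pow, hx, ← MulAut.conj_apply, ← map_pow, ← map_pow torusHom, hc,
      map_one, map_one, Subgroup.coe_one, map_one]
  refine Nat.Coprime.of_dvd_left (orderOf_dvd_of_pow_eq_one hpow) (Nat.Coprime.symm ?_)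
  rw [(Fact.out : p.Prime).coprime_iff_not_dvd, ← CharP.cast_eq_zero_iff k p]
  exact hN

theorem Setup.exists_stable (p : ℕ) [Fact p.Prime] [CharP k p] {h : ↥(D.group F)}
    (hfin : IsOfFinOrder h) (hh : (orderOf h).Coprime p) :
    ∃ c, StableT D q c ∧ InClass ι c h := by
  have hF := S.facts
  have hC := S.valid
  set G := gmap D ι (h : GL D.Idx F) with hG
  have hGmem : G ∈ D.group k := gmap_mem_group hF hF ι h.2
  have hn : ((orderOf h : ℕ) : k) ≠ 0 := fun h0 =>
    (Fact.out : p.Prime).coprime_iff_not_dvd.1 hh.symm ((CharP.cast_eq_zero_iff k p _).1 h0)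
  obtain ⟨y, hy, c, hc⟩ := exists_conj_torus hF p S.e_pos S.inv hGmem hn (by
    rw [hG, ← map_pow, ← Subgroup.coe_pow, pow_orderOf_eq_one, Subgroup.coe_one, map_one])
  set a := gmap D σ y * y⁻¹ with ha
  have hac : torusHom (c ^ q) * a = a * torusHom c := by
    rw [← S.gmap_torus, ← hc, map_mul, map_mul, map_inv, hG, S.gmap_fix, ha]
    group
  obtain ⟨l₁, -, l₂, -, d, w, -, hw⟩ := exists_decomp hF (Subgroup.mul_mem _
    (gmap_mem_group hF hF σ hy) (Subgroup.inv_mem _ hy) : a ∈ D.group k) hac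
  have htw : (torusHom (wordC D w.reverse (c ^ q)) : GL D.Idx k) = torusHom c := by
    refine torusHom_eq_of_chiU_eq fun r => ?_
    rw [← hw r]
    have := chiU_wordC hF w.reverse (c ^ q) (pWord hF w r)
    rwa [pWord_reverse, Equiv.Perm.coe_inv, Equiv.symm_apply_apply] at this
  set z := wordC D w.reverse (c ^ q) * c⁻¹ with hzdef
  have hz : (torusHom z : GL D.Idx k) = 1 := by
    rw [hzdef, map_mul, map_inv, htw, mul_inv_cancel]
  obtain ⟨b, hb⟩ := S.exists_root_exp
  set a' : Fin D.rank → kˣ := (z ^ b)⁻¹ with ha'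
  have haker : (torusHom a' : GL D.Idx k) = 1 := by
    rw [ha', map_inv, map_pow, hz, one_pow, inv_one]
  refine ⟨c * a', ⟨w.reverse, ?_⟩, y⁻¹, Subgroup.inv_mem _ hy, ?_⟩
  · rw [mul_pow, wordC_mul, wordC_pow w.reverse a', wordC_of_ker hF haker,
      show wordC D w.reverse (c ^ q) = c * z by
        rw [hzdef, mul_comm _ c⁻¹, mul_inv_cancel_left],
      mul_assoc, mul_right_inj, show q = (q - 1) + 1 by have := S.two_le; omega, pow_succ,
      ← mul_assoc]
    rw [ha', inv_pow, ← pow_mul, mul_comm b, pow_mul, hb z (S.ker_pow hz), mul_inv_cancel,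
      one_mul]
  · rw [map_mul, haker, mul_one, ← hc, hG]
    group

theorem Setup.orbit_eq_of_inClass {c c' : Fin D.rank → kˣ} (hc : StableT D q c)
    (hc' : StableT D q c') {h : ↥(D.group F)} (hh : InClass ι c h) (hh' : InClass ι c' h) :
    ∃ w, wordC D w c = c' := by
  have hF := S.facts
  have hC := S.valid
  obtain ⟨g, hg, hx⟩ := hh
  obtain ⟨g', hg', hx'⟩ := hh'
  have hgg : torusHom c' * (g'⁻¹ * g) = g'⁻¹ * g * torusHom c := by
    calc torusHom c' * (g'⁻¹ * g) = g'⁻¹ * (g' * torusHom c' * g'⁻¹) * g := by group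
      _ = _ := by rw [← hx', hx]; group
  obtain ⟨l₁, -, l₂, -, d, w, -, hw⟩ := exists_decomp hF
    (Subgroup.mul_mem _ (Subgroup.inv_mem _ hg') hg) hgg
  have htw : (torusHom (wordC D w c) : GL D.Idx k) = torusHom c' := by
    refine torusHom_eq_of_chiU_eq fun s => ?_
    obtain ⟨r, rfl⟩ := (pWord hF w).surjective s
    rw [chiU_wordC hF, hw]
  set z := c' * (wordC D w c)⁻¹ with hzdef
  have hz : (torusHom z : GL D.Idx k) = 1 := by
    rw [hzdef, map_mul, map_inv, htw, mul_inv_cancel]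
  have hcz : c' = wordC D w c * z := by rw [hzdef, mul_comm c', mul_inv_cancel_left]
  obtain ⟨u, hu⟩ := hc
  obtain ⟨u', hu'⟩ := hc'
  have hcq : c ^ q = wordC D u.reverse c := by
    conv_rhs => rw [← hu]
    rw [wordC_reverse hF hC]
  set P := w.reverse ++ u' ++ w ++ u.reverse with hP
  have hPc : wordC D P c * z ^ (q - 1) = c := by
    have h1 : wordC D (u' ++ w ++ u.reverse) c * z ^ q = wordC D w c * z := by
      have h0 : ∀ x, c' = x → wordC D u' (x ^ q) = x := fun x hx => hx ▸ hu'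
      have h3 := h0 _ hcz
      rw [mul_pow, wordC_mul, ← wordC_pow, hcq, wordC_pow, wordC_of_ker hF hz] at h3
      rw [wordC_append, wordC_append]
      exact h3
    have h2 := congrArg (wordC D w.reverse) h1
    rw [wordC_mul, wordC_mul, wordC_pow, wordC_of_ker hF hz, wordC_reverse hF hC,
      ← wordC_append, show w.reverse ++ (u' ++ w ++ u.reverse) = P by simp [hP]] at h2
    rw [show q = (q - 1) + 1 by have := S.two_le; omega, pow_succ, ← mul_assoc] at h2
    exact mul_right_cancel h2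
  have hiter : ∀ n : ℕ, wordC D (List.replicate n P).flatten c * (z ^ (q - 1)) ^ n = c := by
    intro n
    induction n with
    | zero => simp [wordC]
    | succ n ih =>
      have h3 := congrArg (wordC D P) ih
      rw [wordC_mul, wordC_pow, wordC_pow, wordC_of_ker hF hz] at h3
      rw [List.replicate_succ, List.flatten_cons, wordC_append, pow_succ, ← mul_assoc, h3, hPc]
  obtain ⟨b, hb⟩ := S.exists_root_exp
  have hbz := hiter b
  rw [hb z (S.ker_pow hz)] at hbz
  refine ⟨w ++ (List.replicate b P).flatten.reverse, ?_⟩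
  rw [wordC_append, hcz]
  conv_lhs => rw [← hbz, wordC_mul, wordC_reverse hF hC, wordC_of_ker hF hz, wordC_mul,
    wordC_of_ker hF hz]

theorem Setup.isStable_iff (c : Fin D.rank → kˣ) :
    IsStable (weylPerm S.facts S.valid) (fun x : Fin D.rank → kˣ => x ^ q)
      (Quotient.mk _ c) ↔ StableT D q c := by
  constructor
  · intro h
    obtain ⟨g, hg⟩ := Quotient.exact (h c rfl)
    exact ⟨wordOf S.facts g, hg⟩
  · intro h x hx
    obtain ⟨g, rfl⟩ := Quotient.exact hx.symm
    obtain ⟨u, hu⟩ := S.stableT_wordC h (wordOf S.facts g)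
    refine (Quotient.sound (s := orbSetoid (weylPerm S.facts S.valid))
      ⟨⟨pWord S.facts u, pWord_mem _ u⟩, ?_⟩).trans hx
    rw [weylPerm_word]
    exact hu

/-- The semisimple classes number `q ^ rank`. -/
theorem Setup.card_classes [Finite F] (p : ℕ) [Fact p.Prime] [CharP k p] :
    Nat.card {cl : ConjClasses ↥(D.group F) // ∃ g : ↥(D.group F),
      ConjClasses.mk g = cl ∧ (orderOf g).Coprime p} = q ^ D.rank := by
  classical
  have hF := S.facts
  have hC := S.valid
  haveI : Fintype ↥(weyl hF) := Fintype.ofFinite _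
  set ρ : ↥(weyl hF) →* Equiv.Perm (Fin D.rank → kˣ) := weylPerm hF hC
  set φ : (Fin D.rank → kˣ) → (Fin D.rank → kˣ) := fun x => x ^ q with hφ
  -- orbits and classes
  have hst : ∀ O : {O // IsStable ρ φ O}, StableT D q O.1.out := fun O =>
    (S.isStable_iff _).1 (by rw [Quotient.out_eq]; exact O.2)
  choose f hf using fun O => S.exists_inClass (hst O)
  let Ψ : {O // IsStable ρ φ O} → {cl : ConjClasses ↥(D.group F) // ∃ g : ↥(D.group F),
      ConjClasses.mk g = cl ∧ (orderOf g).Coprime p} := fun O =>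
    ⟨ConjClasses.mk (f O), f O, rfl, S.coprime_of_inClass p (hf O)⟩
  have hΨ : Function.Bijective Ψ := by
    constructor
    · intro O O' hOO
      have h := S.inClass_of_isConj (hf O) (ConjClasses.mk_eq_mk_iff_isConj.1
        (congrArg Subtype.val hOO))
      obtain ⟨w, hw⟩ := S.orbit_eq_of_inClass (hst O) (hst O') h (hf O')
      refine Subtype.ext ?_
      rw [← Quotient.out_eq O.1, ← Quotient.out_eq O'.1]
      exact Quotient.sound ⟨⟨pWord hF w, pWord_mem _ w⟩, (weylPerm_word hF hC w _).trans hw⟩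
    · rintro ⟨_, g, rfl, hg⟩
      obtain ⟨c, hc, hgc⟩ := S.exists_stable p (isOfFinOrder_of_finite g) hg
      refine ⟨⟨Quotient.mk _ c, (S.isStable_iff c).2 hc⟩, Subtype.ext ?_⟩
      obtain ⟨π, hπ⟩ := Quotient.mk_out (s := orbSetoid ρ) c
      have h := S.inClass_wordC (hf ⟨Quotient.mk _ c, (S.isStable_iff c).2 hc⟩) (wordOf hF π)
      rw [← weylPerm_apply hF hC, show weylPerm hF hC π _ = c from hπ] at h
      exact ConjClasses.mk_eq_mk_iff_isConj.2 (S.isConj_of_inClass hc h hgc)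
  rw [← Nat.card_eq_of_bijective Ψ hΨ]
  -- pairs
  have hpairs := card_pairs ρ φ (fun g x => (wordC_pow (wordOf hF g) x q).symm)
  set M : ↥(weyl hF) → Matrix (Fin D.rank) (Fin D.rank) ℤ := fun π =>
    ((q : ℤ) • 1) - weylMat hF π with hM
  have hfib : ∀ π : ↥(weyl hF), {c // ρ π c = φ c} ≃ {c : Fin D.rank → kˣ // zAct (M π) c = 1} :=
    fun π => Equiv.subtypeEquivRight fun c => by
      have : zAct (M π) c = c ^ q * (weylPerm hF hC π c)⁻¹ := by
        funext i
        rw [weylPerm_eq_zAct, Pi.mul_apply, Pi.inv_apply, zAct, zAct]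
        simp only [hM, Matrix.sub_apply, zpow_sub, Finset.prod_mul_distrib,
          Finset.prod_inv_distrib]
        congr 1
        rw [Finset.prod_eq_single i (fun l _ hl => by
          rw [Matrix.smul_apply, Matrix.one_apply_ne (Ne.symm hl), smul_zero, zpow_zero])
          (fun h => absurd (Finset.mem_univ i) h), Matrix.smul_apply, Matrix.one_apply_eq,
          smul_eq_mul, mul_one, zpow_natCast, Pi.pow_apply]
      rw [this, mul_inv_eq_one]
      exact eq_comm
  have hcard : ∀ π : ↥(weyl hF), Nat.card {c // ρ π c = φ c} = (M π).det.natAbs := fun π => by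
    rw [Nat.card_congr (hfib π), card_zAct_ker _ (det_sub_cast_ne_zero hF hC π S.q_zero)]
  haveI : ∀ π : ↥(weyl hF), Finite {c // ρ π c = φ c} := fun π => Nat.finite_of_card_ne_zero (by
    rw [hcard]
    exact Int.natAbs_ne_zero.2 (det_sub_pos hF hC π S.two_le).ne')
  rw [Nat.card_congr (Equiv.subtypeProdEquivSigmaSubtype fun π c => ρ π c = φ c),
    Nat.card_sigma, Finset.sum_congr rfl fun π _ => hcard π] at hpairs
  have hint : ((∑ π : ↥(weyl hF), (M π).det.natAbs : ℕ) : ℤ) =
      (Fintype.card ↥(weyl hF) * q ^ D.rank : ℕ) := by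
    push_cast
    rw [← sum_det_eq hF hC (q : ℤ)]
    exact Finset.sum_congr rfl fun π _ => abs_of_pos (det_sub_pos hF hC π S.two_le)
  rw [Nat.cast_inj.1 hint, Nat.card_eq_fintype_card (α := ↥(weyl hF)), mul_comm] at hpairs
  exact (Nat.eq_of_mul_eq_mul_right Fintype.card_pos hpairs).symm

end Finite

/-- The semisimple classes of a Chevalley group over a finite field number `q ^ rank`, when the
index of the root lattice is prime to `q - 1`. -/
theorem card_semisimple_classes (hF : Facts.{u} D) {C : Alcove D} (hC : C.Valid) {e : ℕ}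
    (he : 0 < e) (hB : CartanInv D e) {F : Type u} [Field F] [Fintype F] {q : ℕ}
    (hq : Fintype.card F = q) (hcop : Nat.Coprime e (q - 1)) (p : ℕ) [Fact p.Prime]
    [CharP F p] :
    Nat.card {cl : ConjClasses ↥(D.group F) // ∃ g : ↥(D.group F),
      ConjClasses.mk g = cl ∧ (orderOf g).Coprime p} = q ^ D.rank := by
  classical
  have hq2 : 2 ≤ q := hq ▸ Fintype.one_lt_card
  let k := AlgebraicClosure F
  let ι : F →+* k := algebraMap F k
  let σ : k →+* k := (FiniteField.frobeniusAlgHom F k).toRingHom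
  have hσ : ∀ t : k, σ t = t ^ q := fun t => by
    show FiniteField.frobeniusAlgHom F k t = _
    simp [hq]
  haveI : CharP k p := (RingHom.charP_iff ι ι.injective p).1 inferInstance
  have hqk : (q : k) = 0 := by
    rw [← map_natCast ι, ← hq, FiniteField.cast_card_eq_zero, map_zero]
  refine Setup.card_classes (C := C) (e := e) (σ := σ) (ι := ι)
    ⟨hF, hC, he, hB, hq2, hcop, hσ, hqk,
      fun a => (FiniteField.frobeniusAlgHom F k).commutes a, fun z hz => ?_, fun u => ?_⟩ p
  · rw [hσ] at hz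
    open Polynomial in
    have hroots : z ∈ ((Finset.univ.image ι).val : Multiset k) := by
      have hdeg : ((X : k[X]) ^ q - X).natDegree = q :=
        FiniteField.X_pow_card_sub_X_natDegree_eq k hq2
      have hne : ((X : k[X]) ^ q - X) ≠ 0 := FiniteField.X_pow_card_sub_X_ne_zero k hq2
      have heq : (Finset.univ.image ι).val = ((X : k[X]) ^ q - X).roots := by
        refine Multiset.eq_of_le_of_card_le
          ((Multiset.le_iff_subset (Finset.nodup _)).2 fun x hx => ?_) ?_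
        · obtain ⟨a, -, rfl⟩ := Finset.mem_image.1 hx
          rw [mem_roots hne, IsRoot.def, eval_sub, eval_pow, eval_X, ← map_pow, ← hq,
            FiniteField.pow_card, sub_self]
        · refine le_trans (card_roots' _) ?_
          rw [hdeg, Finset.card_val, Finset.card_image_of_injective _ ι.injective,
            Finset.card_univ, hq]
      rw [heq, mem_roots hne, IsRoot.def, eval_sub, eval_pow, eval_X, hz, sub_self]
    obtain ⟨a, -, ha⟩ := Finset.mem_image.1 hroots
    exact ⟨a, ha⟩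
  · let E := IntermediateField.adjoin F ({(u : k)} : Set k)
    haveI : FiniteDimensional F E :=
      IntermediateField.adjoin.finiteDimensional (Algebra.IsIntegral.isIntegral (u : k))
    haveI : Finite E := Module.finite_of_finite F
    haveI : Fintype E := Fintype.ofFinite E
    refine ⟨Fintype.card E - 1, ?_, Units.ext ?_⟩
    · have h1 : ((Fintype.card E : ℕ) : k) = 0 := by
        rw [← map_natCast (algebraMap E k), FiniteField.cast_card_eq_zero, map_zero]
      rw [Nat.cast_sub (Fintype.card_pos : 0 < Fintype.card E), h1, Nat.cast_one, zero_sub]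
      exact neg_ne_zero.2 one_ne_zero
    · have hm : (u : k) ∈ E :=
        IntermediateField.subset_adjoin F _ (Set.mem_singleton _)
      have h2 : (⟨(u : k), hm⟩ : E) ^ (Fintype.card E - 1) = 1 :=
        FiniteField.pow_card_sub_one_eq_one _ fun h => u.ne_zero (congrArg Subtype.val h)
      rw [Units.val_pow_eq_pow_val, Units.val_one]
      simpa using congrArg Subtype.val h2

theorem Alcove.Valid.cartanInv {C : Alcove D} (hC : C.Valid) {e : ℕ} (he : C.e = (e : ℤ)) :
    CartanInv D e :=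
  ⟨C.mat, fun a j => by rw [hC.inv, he]⟩

end Cfsg.Agent.Chev.SS
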