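import Cfsg.Agent.Chev.Semisimple.Affine
import Cfsg.Agent.Chev.All

/-! The fundamental alcove of `chevF4`. -/

set_option autoImplicit false
set_option maxRecDepth 100000

namespace Cfsg.Agent.Chev.SS

open Cfsg.Lie Cfsg.Agent.Chev

universe u

/-- The alcove data of `chevF4`. -/
def alcoveF4 : Alcove chevF4 :=
  ⟨1, [[2, 3, 2, 1], [3, 6, 4, 2], [4, 8, 6, 3], [2, 4, 3, 2]], 12, [3, 2, 1, 0, 2, 1, 2, 3], 3⟩

theorem alcoveF4_u0 : ∀ i ∈ alcoveF4.u0, i < chevF4.rank := by decide +kernel

theorem alcoveF4_low : alcoveF4.low < half chevF4 := by decide +kernel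

theorem alcoveF4_inv : ∀ a j : Fin chevF4.rank,
    ∑ i : Fin chevF4.rank, alcoveF4.mat a i * chevF4.cartan j (chevF4.simple i) =
      if a = j then alcoveF4.e else 0 := by decide +kernel

theorem alcoveF4_rho : ∀ s : Fin chevF4.nroots,
    0 < ip chevF4 alcoveF4.rho s + alcoveF4.e * alcoveF4.h * offs chevF4 s ∧
      ip chevF4 alcoveF4.rho s + alcoveF4.e * alcoveF4.h * (offs chevF4 s - 1) < 0 := by
  decide +kernel

theorem alcoveF4_coord : ∀ (s : Fin chevF4.nroots) (j : Fin chevF4.rank),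
    chevF4.cartan j s =
      ∑ i : Fin chevF4.rank, alcoveF4.coord s i * chevF4.cartan j (chevF4.simple i) := by
  decide +kernel

theorem alcoveF4_neg : ∀ (s : Fin chevF4.nroots) (i : Fin chevF4.rank),
    alcoveF4.coord (chevF4.neg s) i = -alcoveF4.coord s i := by
  decide +kernel

theorem alcoveF4_pos : ∀ s : Fin chevF4.nroots, half chevF4 ≤ (s : ℕ) →
    (∀ i : Fin chevF4.rank, 0 ≤ alcoveF4.coord s i ∧
        alcoveF4.coord s i ≤ -alcoveF4.coord alcoveF4.low i) ∧
      ∃ i : Fin chevF4.rank, 0 < alcoveF4.coord s i := by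
  decide +kernel

theorem alcoveF4_min : alcoveF4.minusculeB = true := by decide +kernel

theorem alcoveF4_valid : alcoveF4.Valid where
  e_pos := by decide
  u0_lt := alcoveF4_u0
  i0_lt := by decide
  low_neg := alcoveF4_low
  inv := alcoveF4_inv
  rho_spec := alcoveF4_rho
  coord_spec := alcoveF4_coord
  coord_neg := alcoveF4_neg
  coord_pos := alcoveF4_pos
  minuscule := alcoveF4_min

end Cfsg.Agent.Chev.SS
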