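import Cfsg.Agent.Chev.Semisimple.Affine
import Cfsg.Agent.Chev.All

/-! The fundamental alcove of `chevG2`. -/

set_option autoImplicit false
set_option maxRecDepth 100000

namespace Cfsg.Agent.Chev.SS

open Cfsg.Lie Cfsg.Agent.Chev

universe u

/-- The alcove data of `chevG2`. -/
def alcoveG2 : Alcove chevG2 :=
  ⟨1, [[2, 1], [3, 2]], 6, [1, 0, 1], 1⟩

theorem alcoveG2_u0 : ∀ i ∈ alcoveG2.u0, i < chevG2.rank := by decide +kernel

theorem alcoveG2_low : alcoveG2.low < half chevG2 := by decide +kernel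

theorem alcoveG2_inv : ∀ a j : Fin chevG2.rank,
    ∑ i : Fin chevG2.rank, alcoveG2.mat a i * chevG2.cartan j (chevG2.simple i) =
      if a = j then alcoveG2.e else 0 := by decide +kernel

theorem alcoveG2_rho : ∀ s : Fin chevG2.nroots,
    0 < ip chevG2 alcoveG2.rho s + alcoveG2.e * alcoveG2.h * offs chevG2 s ∧
      ip chevG2 alcoveG2.rho s + alcoveG2.e * alcoveG2.h * (offs chevG2 s - 1) < 0 := by
  decide +kernel

theorem alcoveG2_coord : ∀ (s : Fin chevG2.nroots) (j : Fin chevG2.rank),
    chevG2.cartan j s =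
      ∑ i : Fin chevG2.rank, alcoveG2.coord s i * chevG2.cartan j (chevG2.simple i) := by
  decide +kernel

theorem alcoveG2_neg : ∀ (s : Fin chevG2.nroots) (i : Fin chevG2.rank),
    alcoveG2.coord (chevG2.neg s) i = -alcoveG2.coord s i := by
  decide +kernel

theorem alcoveG2_pos : ∀ s : Fin chevG2.nroots, half chevG2 ≤ (s : ℕ) →
    (∀ i : Fin chevG2.rank, 0 ≤ alcoveG2.coord s i ∧
        alcoveG2.coord s i ≤ -alcoveG2.coord alcoveG2.low i) ∧
      ∃ i : Fin chevG2.rank, 0 < alcoveG2.coord s i := by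
  decide +kernel

theorem alcoveG2_min : alcoveG2.minusculeB = true := by decide +kernel

theorem alcoveG2_valid : alcoveG2.Valid where
  e_pos := by decide
  u0_lt := alcoveG2_u0
  i0_lt := by decide
  low_neg := alcoveG2_low
  inv := alcoveG2_inv
  rho_spec := alcoveG2_rho
  coord_spec := alcoveG2_coord
  coord_neg := alcoveG2_neg
  coord_pos := alcoveG2_pos
  minuscule := alcoveG2_min

end Cfsg.Agent.Chev.SS
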