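import Cfsg.Agent.Chev.Semisimple.Affine
import Cfsg.Agent.Chev.All

/-! The fundamental alcove of `chevB2`. -/

set_option autoImplicit false
set_option maxRecDepth 100000

namespace Cfsg.Agent.Chev.SS

open Cfsg.Lie Cfsg.Agent.Chev

universe u

/-- The alcove data of `chevB2`. -/
def alcoveB2 : Alcove chevB2 :=
  ⟨2, [[2, 1], [2, 2]], 4, [0, 1], 1⟩

theorem alcoveB2_u0 : ∀ i ∈ alcoveB2.u0, i < chevB2.rank := by decide +kernel

theorem alcoveB2_low : alcoveB2.low < half chevB2 := by decide +kernel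

theorem alcoveB2_inv : ∀ a j : Fin chevB2.rank,
    ∑ i : Fin chevB2.rank, alcoveB2.mat a i * chevB2.cartan j (chevB2.simple i) =
      if a = j then alcoveB2.e else 0 := by decide +kernel

theorem alcoveB2_rho : ∀ s : Fin chevB2.nroots,
    0 < ip chevB2 alcoveB2.rho s + alcoveB2.e * alcoveB2.h * offs chevB2 s ∧
      ip chevB2 alcoveB2.rho s + alcoveB2.e * alcoveB2.h * (offs chevB2 s - 1) < 0 := by
  decide +kernel

theorem alcoveB2_coord : ∀ (s : Fin chevB2.nroots) (j : Fin chevB2.rank),
    chevB2.cartan j s =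
      ∑ i : Fin chevB2.rank, alcoveB2.coord s i * chevB2.cartan j (chevB2.simple i) := by
  decide +kernel

theorem alcoveB2_neg : ∀ (s : Fin chevB2.nroots) (i : Fin chevB2.rank),
    alcoveB2.coord (chevB2.neg s) i = -alcoveB2.coord s i := by
  decide +kernel

theorem alcoveB2_pos : ∀ s : Fin chevB2.nroots, half chevB2 ≤ (s : ℕ) →
    (∀ i : Fin chevB2.rank, 0 ≤ alcoveB2.coord s i ∧
        alcoveB2.coord s i ≤ -alcoveB2.coord alcoveB2.low i) ∧
      ∃ i : Fin chevB2.rank, 0 < alcoveB2.coord s i := by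
  decide +kernel

theorem alcoveB2_min : alcoveB2.minusculeB = true := by decide +kernel

theorem alcoveB2_valid : alcoveB2.Valid where
  e_pos := by decide
  u0_lt := alcoveB2_u0
  i0_lt := by decide
  low_neg := alcoveB2_low
  inv := alcoveB2_inv
  rho_spec := alcoveB2_rho
  coord_spec := alcoveB2_coord
  coord_neg := alcoveB2_neg
  coord_pos := alcoveB2_pos
  minuscule := alcoveB2_min

end Cfsg.Agent.Chev.SS
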