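import Cfsg.Agent.Chev.Semisimple.Affine
import Cfsg.Agent.Chev.All

/-! The fundamental alcove of `chevD4`. -/

set_option autoImplicit false
set_option maxRecDepth 100000

namespace Cfsg.Agent.Chev.SS

open Cfsg.Lie Cfsg.Agent.Chev

universe u

/-- The alcove data of `chevD4`. -/
def alcoveD4 : Alcove chevD4 :=
  ⟨2, [[2, 2, 1, 1], [2, 4, 2, 2], [1, 2, 2, 1], [1, 2, 1, 2]], 6, [1, 0, 2, 1, 3], 3⟩

theorem alcoveD4_u0 : ∀ i ∈ alcoveD4.u0, i < chevD4.rank := by decide +kernel

theorem alcoveD4_low : alcoveD4.low < half chevD4 := by decide +kernel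

theorem alcoveD4_inv : ∀ a j : Fin chevD4.rank,
    ∑ i : Fin chevD4.rank, alcoveD4.mat a i * chevD4.cartan j (chevD4.simple i) =
      if a = j then alcoveD4.e else 0 := by decide +kernel

theorem alcoveD4_rho : ∀ s : Fin chevD4.nroots,
    0 < ip chevD4 alcoveD4.rho s + alcoveD4.e * alcoveD4.h * offs chevD4 s ∧
      ip chevD4 alcoveD4.rho s + alcoveD4.e * alcoveD4.h * (offs chevD4 s - 1) < 0 := by
  decide +kernel

theorem alcoveD4_coord : ∀ (s : Fin chevD4.nroots) (j : Fin chevD4.rank),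
    chevD4.cartan j s =
      ∑ i : Fin chevD4.rank, alcoveD4.coord s i * chevD4.cartan j (chevD4.simple i) := by
  decide +kernel

theorem alcoveD4_neg : ∀ (s : Fin chevD4.nroots) (i : Fin chevD4.rank),
    alcoveD4.coord (chevD4.neg s) i = -alcoveD4.coord s i := by
  decide +kernel

theorem alcoveD4_pos : ∀ s : Fin chevD4.nroots, half chevD4 ≤ (s : ℕ) →
    (∀ i : Fin chevD4.rank, 0 ≤ alcoveD4.coord s i ∧
        alcoveD4.coord s i ≤ -alcoveD4.coord alcoveD4.low i) ∧
      ∃ i : Fin chevD4.rank, 0 < alcoveD4.coord s i := by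
  decide +kernel

theorem alcoveD4_min : alcoveD4.minusculeB = true := by decide +kernel

theorem alcoveD4_valid : alcoveD4.Valid where
  e_pos := by decide
  u0_lt := alcoveD4_u0
  i0_lt := by decide
  low_neg := alcoveD4_low
  inv := alcoveD4_inv
  rho_spec := alcoveD4_rho
  coord_spec := alcoveD4_coord
  coord_neg := alcoveD4_neg
  coord_pos := alcoveD4_pos
  minuscule := alcoveD4_min

end Cfsg.Agent.Chev.SS
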