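import Cfsg.Agent.Chev.Semisimple.Affine
import Cfsg.Agent.Chev.All

/-! The fundamental alcove of `chevE6`. -/

set_option autoImplicit false
set_option maxRecDepth 100000

namespace Cfsg.Agent.Chev.SS

open Cfsg.Lie Cfsg.Agent.Chev

universe u

/-- The alcove data of `chevE6`. -/
def alcoveE6 : Alcove chevE6 :=
  ⟨3, [[4, 3, 5, 6, 4, 2], [3, 6, 6, 9, 6, 3], [5, 6, 10, 12, 8, 4], [6, 9, 12, 18, 12, 6], [4, 6, 8, 12, 10, 5], [2, 3, 4, 6, 5, 4]], 12, [1, 3, 2, 0, 4, 3, 1, 2, 3, 4, 5], 5⟩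

theorem alcoveE6_u0 : ∀ i ∈ alcoveE6.u0, i < chevE6.rank := by decide +kernel

theorem alcoveE6_low : alcoveE6.low < half chevE6 := by decide +kernel

theorem alcoveE6_inv : ∀ a j : Fin chevE6.rank,
    ∑ i : Fin chevE6.rank, alcoveE6.mat a i * chevE6.cartan j (chevE6.simple i) =
      if a = j then alcoveE6.e else 0 := by decide +kernel

theorem alcoveE6_rho : ∀ s : Fin chevE6.nroots,
    0 < ip chevE6 alcoveE6.rho s + alcoveE6.e * alcoveE6.h * offs chevE6 s ∧
      ip chevE6 alcoveE6.rho s + alcoveE6.e * alcoveE6.h * (offs chevE6 s - 1) < 0 := by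
  decide +kernel

theorem alcoveE6_coord : ∀ (s : Fin chevE6.nroots) (j : Fin chevE6.rank),
    chevE6.cartan j s =
      ∑ i : Fin chevE6.rank, alcoveE6.coord s i * chevE6.cartan j (chevE6.simple i) := by
  decide +kernel

theorem alcoveE6_neg : ∀ (s : Fin chevE6.nroots) (i : Fin chevE6.rank),
    alcoveE6.coord (chevE6.neg s) i = -alcoveE6.coord s i := by
  decide +kernel

theorem alcoveE6_pos : ∀ s : Fin chevE6.nroots, half chevE6 ≤ (s : ℕ) →
    (∀ i : Fin chevE6.rank, 0 ≤ alcoveE6.coord s i ∧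
        alcoveE6.coord s i ≤ -alcoveE6.coord alcoveE6.low i) ∧
      ∃ i : Fin chevE6.rank, 0 < alcoveE6.coord s i := by
  decide +kernel

theorem alcoveE6_min : alcoveE6.minusculeB = true := by decide +kernel

theorem alcoveE6_valid : alcoveE6.Valid where
  e_pos := by decide
  u0_lt := alcoveE6_u0
  i0_lt := by decide
  low_neg := alcoveE6_low
  inv := alcoveE6_inv
  rho_spec := alcoveE6_rho
  coord_spec := alcoveE6_coord
  coord_neg := alcoveE6_neg
  coord_pos := alcoveE6_pos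
  minuscule := alcoveE6_min

end Cfsg.Agent.Chev.SS
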