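import Cfsg.Agent.Chev.Semisimple.Affine
import Cfsg.Agent.Chev.All

/-! The fundamental alcove of `chevE8`. -/

set_option autoImplicit false
set_option maxRecDepth 100000

namespace Cfsg.Agent.Chev.SS

open Cfsg.Lie Cfsg.Agent.Chev

universe u

/-- The alcove data of `chevE8`. -/
def alcoveE8 : Alcove chevE8 :=
  ⟨1, [[4, 5, 7, 10, 8, 6, 4, 2], [5, 8, 10, 15, 12, 9, 6, 3], [7, 10, 14, 20, 16, 12, 8, 4], [10, 15, 20, 30, 24, 18, 12, 6], [8, 12, 16, 24, 20, 15, 10, 5], [6, 9, 12, 18, 15, 12, 8, 4], [4, 6, 8, 12, 10, 8, 6, 3], [2, 3, 4, 6, 5, 4, 3, 2]], 30, [7, 6, 5, 4, 3, 1, 2, 0, 3, 2, 4, 3, 1, 5, 4, 3, 2, 0, 6, 5, 4, 3, 1, 2, 3, 4, 5, 6, 7], 7⟩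

theorem alcoveE8_u0 : ∀ i ∈ alcoveE8.u0, i < chevE8.rank := by decide +kernel

theorem alcoveE8_low : alcoveE8.low < half chevE8 := by decide +kernel

theorem alcoveE8_inv : ∀ a j : Fin chevE8.rank,
    ∑ i : Fin chevE8.rank, alcoveE8.mat a i * chevE8.cartan j (chevE8.simple i) =
      if a = j then alcoveE8.e else 0 := by decide +kernel

theorem alcoveE8_rho : ∀ s : Fin chevE8.nroots,
    0 < ip chevE8 alcoveE8.rho s + alcoveE8.e * alcoveE8.h * offs chevE8 s ∧
      ip chevE8 alcoveE8.rho s + alcoveE8.e * alcoveE8.h * (offs chevE8 s - 1) < 0 := by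
  decide +kernel

theorem alcoveE8_coord : ∀ (s : Fin chevE8.nroots) (j : Fin chevE8.rank),
    chevE8.cartan j s =
      ∑ i : Fin chevE8.rank, alcoveE8.coord s i * chevE8.cartan j (chevE8.simple i) := by
  decide +kernel

theorem alcoveE8_neg : ∀ (s : Fin chevE8.nroots) (i : Fin chevE8.rank),
    alcoveE8.coord (chevE8.neg s) i = -alcoveE8.coord s i := by
  decide +kernel

theorem alcoveE8_pos : ∀ s : Fin chevE8.nroots, half chevE8 ≤ (s : ℕ) →
    (∀ i : Fin chevE8.rank, 0 ≤ alcoveE8.coord s i ∧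
        alcoveE8.coord s i ≤ -alcoveE8.coord alcoveE8.low i) ∧
      ∃ i : Fin chevE8.rank, 0 < alcoveE8.coord s i := by
  decide +kernel

theorem alcoveE8_min : alcoveE8.minusculeB = true := by decide +kernel

theorem alcoveE8_valid : alcoveE8.Valid where
  e_pos := by decide
  u0_lt := alcoveE8_u0
  i0_lt := by decide
  low_neg := alcoveE8_low
  inv := alcoveE8_inv
  rho_spec := alcoveE8_rho
  coord_spec := alcoveE8_coord
  coord_neg := alcoveE8_neg
  coord_pos := alcoveE8_pos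
  minuscule := alcoveE8_min

end Cfsg.Agent.Chev.SS
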