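import Cfsg.Agent.Chev.Bruhat
import Cfsg.Agent.Chev.Parabolic

/-!
The Borel subgroup as the lower triangular part of the group, its elements of order prime to the
characteristic, and the decomposition along a valuation ring.
-/

set_option autoImplicit false

namespace Cfsg.Agent.Chev.SS

open Cfsg.Lie Cfsg.Agent.Chev
open scoped MatrixGroups

universe u

variable {D : ChevalleyDatum} {F : Type u} [Field F]

/-- Lower triangular for the order `pos`. -/
def IsTri (A : Matrix D.Idx D.Idx F) : Prop := ∀ a b : D.Idx, pos D a < pos D b → A a b = 0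

theorem IsTri.mul {A B : Matrix D.Idx D.Idx F} (hA : IsTri A) (hB : IsTri B) : IsTri (A * B) := by
  intro a b hab
  rw [Matrix.mul_apply]
  refine Finset.sum_eq_zero fun c _ => ?_
  by_cases h : pos D a < pos D c
  · rw [hA a c h, zero_mul]
  · rw [hB c b (by omega), mul_zero]

/-- The invertible lower triangular matrices. -/
def triGroup : Subgroup (GL D.Idx F) where
  carrier := {g | IsTri (g : Matrix D.Idx D.Idx F) ∧
    IsTri ((g⁻¹ : GL D.Idx F) : Matrix D.Idx D.Idx F)}
  one_mem' := by
    simp only [Set.mem_setOf_eq, inv_one, Units.val_one, and_self]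
    exact fun a b h => Matrix.one_apply_ne fun e => by subst e; omega
  mul_mem' := by
    rintro g g' ⟨h1, h2⟩ ⟨h3, h4⟩
    exact ⟨by rw [Units.val_mul]; exact h1.mul h3,
      by rw [mul_inv_rev, Units.val_mul]; exact h4.mul h2⟩
  inv_mem' := by
    rintro g ⟨h1, h2⟩
    exact ⟨h2, by rwa [inv_inv]⟩

variable (hF : Facts.{u} D)
include hF

theorem lowerGroup_le_tri : lowerGroup (D := D) (F := F) 1 ≤ triGroup := by
  have key : ∀ A : Matrix D.Idx D.Idx F, BelowBy 1 (A - 1) → IsTri A := by
    intro A hA a b hab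
    have := hA a b (by omega)
    rwa [Matrix.sub_apply, Matrix.one_apply_ne (fun e => by subst e; omega), sub_zero] at this
  exact fun g hg => ⟨key _ hg.1, key _ hg.2⟩

theorem borel_le_tri : D.borelSubgroup F ≤ triGroup := by
  refine sup_le ((posUnipotent_le_lowerGroup hF).trans (lowerGroup_le_tri hF)) fun g hg => ?_
  obtain ⟨c, rfl⟩ := (mem_diagonal_iff hF).1 hg
  have key : ∀ d : Fin D.rank → Fˣ, IsTri ((torusHom d : GL D.Idx F) : Matrix D.Idx D.Idx F) :=
    fun d a b hab => by rw [torusHom_apply, if_neg fun e => by subst e; omega]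
  exact ⟨key c, by rw [← map_inv]; exact key _⟩

theorem eq_one_of_tri_upper {g : GL D.Idx F} (h1 : g ∈ triGroup) (h2 : g ∈ upperGroup) :
    g = 1 := by
  apply Units.ext
  ext a b
  by_cases hab : pos D a < pos D b
  · rw [h1.1 a b hab, Units.val_one, Matrix.one_apply_ne fun e => by subst e; omega]
  · rw [h2.1 a b (by omega), Units.val_one, Matrix.one_apply]

/-- A lower triangular element of the group lies in the Borel subgroup. -/
theorem mem_borel_of_tri {g : GL D.Idx F} (hg : g ∈ D.group F) (ht : g ∈ triGroup) :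
    g ∈ D.borelSubgroup F := by
  obtain ⟨b, hb, w, x, hx, rfl⟩ := exists_normalForm hF hg
  have hxB := uMinus_le_borel hF _ hx
  set n : GL D.Idx F := nWord hF w with hn
  have hnT : n ∈ triGroup := by
    rw [show n = b⁻¹ * (b * n * x) * x⁻¹ by group]
    exact Subgroup.mul_mem _ (Subgroup.mul_mem _ (Subgroup.inv_mem _ (borel_le_tri hF hb)) ht)
      (Subgroup.inv_mem _ (borel_le_tri hF hxB))
  have hw : pWord hF w = 1 := by
    refine eq_one_of_pos hF (pWord_mem hF w) fun i => not_lt.1 fun hneg => ?_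
    obtain ⟨v, hv⟩ := isMon_conj_mem hF (isMon_nWord hF w (F := F)) (sRoot hF i) (1 : F)
    have h1 : n * xG hF (sRoot hF i : ℕ) (1 : F) * n⁻¹ ∈ triGroup :=
      Subgroup.mul_mem _ (Subgroup.mul_mem _ hnT (lowerGroup_le_tri hF
        (xG_mem_lowerGroup hF (sRoot hF i).2 (hF.simple_pos i i.2) 1))) (Subgroup.inv_mem _ hnT)
    have h2 : n * xG hF (sRoot hF i : ℕ) (1 : F) * n⁻¹ ∈ upperGroup := by
      rw [hn, hv]
      exact negUnipotent_le_upperGroup hF (mem_negUnipotent_of hF (pWord hF w _).2 hneg v)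
    exact one_ne_zero ((xG_eq_one_iff hF (sRoot hF i).2).1
      (conj_eq_one_iff.1 (eq_one_of_tri_upper hF h1 h2)))
  exact Subgroup.mul_mem _ (Subgroup.mul_mem _ hb
    (Subgroup.mem_sup_right (nWord_mem_diagonal hF w hw))) hxB

/-- Torus elements normalise the tails of the positive roots. -/
theorem torus_conj_rootsFrom (c : Fin D.rank → Fˣ) {k : ℕ} {v : GL D.Idx F}
    (hv : v ∈ Subgroup.closure (rootsFrom hF k)) :
    torusHom c * v * (torusHom c)⁻¹ ∈ Subgroup.closure (rootsFrom hF k (F := F)) := by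
  refine ((Subgroup.closure_le _).2 ?_ : Subgroup.closure (rootsFrom hF k (F := F)) ≤
    (Subgroup.closure (rootsFrom hF k)).comap
      (MulAut.conj (torusHom c : GL D.Idx F)).toMonoidHom) hv
  rintro x ⟨r, t, h1, h2, rfl⟩
  show torusHom c * xG hF r t * (torusHom c)⁻¹ ∈ Subgroup.closure (rootsFrom hF k)
  rw [torusHom_conj hF c h2, mul_inv_cancel_right]
  exact Subgroup.subset_closure ⟨r, _, h1, h2, rfl⟩

/-- An element of `U T` which has finite order prime to the characteristic, or regular torus part,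
is conjugate to its torus part by an element of `U`. -/
theorem exists_conj_eq_torus {n : ℕ} (c : Fin D.rank → Fˣ) :
    ∀ (d k : ℕ), D.nroots - k = d → half D ≤ k →
      ∀ v ∈ Subgroup.closure (rootsFrom hF k (F := F)),
        ((n : F) ≠ 0 ∧ (v * torusHom c) ^ n = 1) ∨
          (∀ r : Fin D.nroots, chiU c (r : ℕ) ≠ 1) →
        ∃ y ∈ D.posUnipotent F, y * (v * torusHom c) * y⁻¹ = torusHom c := by
  intro d
  induction d with
  | zero =>
    intro k hd hk v hv _
    obtain ⟨t, rfl⟩ := exists_prodFrom hF _ k rfl hk v hv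
    refine ⟨1, Subgroup.one_mem _, ?_⟩
    rw [prodFrom_top hF (by omega)]
    group
  | succ d ih =>
    intro k hd hk v hv hpow
    have hkn : k < D.nroots := by omega
    obtain ⟨t, rfl⟩ := exists_prodFrom hF _ k rfl hk v hv
    rw [prodFrom_succ hF hkn] at hpow ⊢
    set v' := prodFrom hF (k + 1) t with hv'
    have hv'm : v' ∈ Subgroup.closure (rootsFrom hF (k + 1) (F := F)) := prodFrom_mem hF _ t
    set τ : GL D.Idx F := torusHom c with hτ
    set χ : F := (chiU c k : F) with hχ
    by_cases h1 : χ = 1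
    · obtain ⟨hn, hpow⟩ : (n : F) ≠ 0 ∧ (xG hF k (t k) * v' * τ) ^ n = 1 :=
        hpow.resolve_right fun h => h ⟨k, hkn⟩ (Units.ext h1)
      have hcomm : ∀ a, τ * xG hF k a = xG hF k a * τ := fun a => by
        rw [hτ, torusHom_conj hF c hkn, ← hχ, h1, one_mul]
      have hpowm : ∀ m : ℕ, ∃ w ∈ Subgroup.closure (rootsFrom hF (k + 1) (F := F)),
          (xG hF k (t k) * v' * τ) ^ m = xG hF k ((m : F) * t k) * w * τ ^ m := by
        intro m
        induction m with
        | zero => exact ⟨1, Subgroup.one_mem _, by simp [xG_zero]⟩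
        | succ m ihm =>
          obtain ⟨w, hw, e⟩ := ihm
          have ha : ∀ j : ℕ, τ ^ j * xG hF k (t k) = xG hF k (t k) * τ ^ j := fun j =>
            ((Commute.pow_left (hcomm (t k)) j) : Commute (τ ^ j) (xG hF k (t k))).eq
          refine ⟨(xG hF k (t k))⁻¹ * w * xG hF k (t k) * (τ ^ m * v' * (τ ^ m)⁻¹),
            Subgroup.mul_mem _ ?_ ?_, ?_⟩
          · exact (Subgroup.mem_normalizer_iff''.1 (xG_mem_normalizer hF hk hkn (t k)) w).1 hw
          · rw [hτ, ← map_pow]
            exact torus_conj_rootsFrom hF _ hv'm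
          · rw [pow_succ, e, Nat.cast_succ, add_mul, one_mul, ← xG_mul, pow_succ]
            calc xG hF k ((m : F) * t k) * w * τ ^ m * (xG hF k (t k) * v' * τ)
                = xG hF k ((m : F) * t k) * w * (τ ^ m * xG hF k (t k)) * v' * τ := by group
              _ = _ := by rw [ha m]; group
      obtain ⟨w, hw, e⟩ := hpowm n
      rw [hpow] at e
      have hsub : rootsFrom hF (k + 1) (F := F) ⊆ rootsFrom hF (half D) := by
        rintro x ⟨r, a, h1, h2, h3⟩
        exact ⟨r, a, by omega, h2, h3⟩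
      have hU : xG hF k ((n : F) * t k) * w ∈ D.posUnipotent F := by
        rw [posUnipotent_eq hF]
        exact Subgroup.mul_mem _ (Subgroup.subset_closure ⟨k, _, by omega, hkn, rfl⟩)
          (Subgroup.closure_mono hsub hw)
      have hone : xG hF k ((n : F) * t k) * w = 1 := by
        have := (posUnipotent_inf_diagonal hF (F := F)).le ⟨hU, ?_⟩
        · rwa [Subgroup.mem_bot] at this
        · rw [eq_mul_inv_of_mul_eq e.symm, one_mul, hτ, ← map_pow, ← map_inv]
          exact torusHom_mem hF _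
      obtain ⟨s, rfl⟩ := exists_prodFrom hF _ (k + 1) rfl (by omega) w hw
      have h0 : (n : F) * t k = 0 := by
        have e2 : prodFrom hF k (fun r => if r = k then (n : F) * t k else s r) =
            prodFrom hF k (fun _ => (0 : F)) := by
          have hz : prodFrom hF k (fun _ => (0 : F)) = 1 := by
            refine List.prod_eq_one fun g hg => ?_
            obtain ⟨p, hp, rfl⟩ := List.mem_map.1 hg
            obtain ⟨r, -, rfl⟩ := List.mem_map.1 hp
            exact xG_zero hF r
          rw [hz, prodFrom_succ hF hkn, if_pos rfl,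
            prodFrom_congr hF (t' := s) fun r hr _ => if_neg (by omega), hone]
        have := prodFrom_inj hF _ _ rfl hk e2 k le_rfl hkn
        simpa using this
      have ht0 : t k = 0 := (mul_eq_zero.1 h0).resolve_left hn
      rw [ht0, xG_zero, one_mul] at hpow ⊢
      exact ih (k + 1) (by omega) (by omega) v' hv'm (Or.inl ⟨hn, hpow⟩)
    · have hne : χ - 1 ≠ 0 := sub_ne_zero.2 h1
      set a : F := t k / (χ - 1) with ha
      have hconj : xG hF k a * (xG hF k (t k) * v' * τ) * (xG hF k a)⁻¹ =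
          xG hF k (χ * a) * v' * (xG hF k (χ * a))⁻¹ * τ := by
        have h2 : τ * xG hF k (-a) = xG hF k (χ * -a) * τ := by
          rw [hτ, hχ, torusHom_conj hF c hkn]
        rw [xG_inv, xG_inv, mul_assoc _ _ (xG hF k (-a)), mul_assoc (xG hF k (t k) * v'), h2,
          ← mul_assoc, ← mul_assoc, ← mul_assoc, xG_mul, mul_neg]
        congr 4
        rw [ha]
        field_simp
        ring
      have hmem : xG hF k (χ * a) * v' * (xG hF k (χ * a))⁻¹ ∈
          Subgroup.closure (rootsFrom hF (k + 1) (F := F)) :=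
        (Subgroup.mem_normalizer_iff.1 (xG_mem_normalizer hF hk hkn _) v').1 hv'm
      obtain ⟨y, hy, he⟩ := ih (k + 1) (by omega) (by omega) _ hmem (hpow.imp_left fun h => ⟨h.1, by
        rw [← hconj, conj_pow, h.2, mul_one, mul_inv_cancel]⟩)
      refine ⟨y * xG hF k a, Subgroup.mul_mem _ hy (mem_posUnipotent_of hF hkn hk a), ?_⟩
      rw [← hconj] at he
      refine Eq.trans ?_ he
      group

/-- An element of the Borel subgroup of finite order prime to the characteristic is conjugate to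
a torus element. -/
theorem exists_torus_of_borel {g : GL D.Idx F} (hg : g ∈ D.borelSubgroup F) {n : ℕ}
    (hn : (n : F) ≠ 0) (hpow : g ^ n = 1) :
    ∃ y ∈ D.group F, ∃ c : Fin D.rank → Fˣ, y * g * y⁻¹ = torusHom c := by
  obtain ⟨v, hv, c, rfl⟩ := (mem_borel_iff hF).1 hg
  rw [posUnipotent_eq hF] at hv
  obtain ⟨y, hy, e⟩ := exists_conj_eq_torus hF c _ _ rfl le_rfl v hv (Or.inl ⟨hn, hpow⟩)
  exact ⟨y, borel_le_group hF (Subgroup.mem_sup_left hy), c, e⟩

/-- The subgroup generated by root elements with coefficients in a subring. -/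
def intGroup (V : Subring F) : Subgroup (GL D.Idx F) :=
  Subgroup.closure {g | ∃ (r : Fin D.nroots) (t : F), t ∈ V ∧ g = xG hF (r : ℕ) t}

/-- The decomposition along a valuation ring. -/
theorem exists_int_mul_borel (V : Subring F) (hV : ∀ s : F, s ∈ V ∨ s⁻¹ ∈ V) {g : GL D.Idx F}
    (hg : g ∈ D.group F) :
    ∃ κ ∈ intGroup hF V, ∃ b ∈ D.borelSubgroup F, g = κ * b := by
  suffices H : ∀ (w : List (Fin D.rank)) (b b' : GL D.Idx F), b ∈ D.borelSubgroup F →
      b' ∈ D.borelSubgroup F →
      ∃ κ ∈ intGroup hF V, ∃ b'' ∈ D.borelSubgroup F, b * nWord hF w * b' = κ * b'' by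
    obtain ⟨b, hb, w, x, hx, rfl⟩ := exists_normalForm hF hg
    exact H w b x hb (uMinus_le_borel hF _ hx)
  intro w
  induction w with
  | nil =>
    intro b b' hb hb'
    exact ⟨1, Subgroup.one_mem _, b * b', Subgroup.mul_mem _ hb hb', by simp [nWord]⟩
  | cons i w ih =>
    intro b b' hb hb'
    obtain ⟨v, hv, c, rfl⟩ := (mem_borel_iff hF).1 hb
    obtain ⟨p, hp, m, hm, hvi⟩ := posUnipotent_split hF (wPerm hF i) (Subgroup.inv_mem _ hv)
    have hm' : m⁻¹ ∈ (xHom hF (D.simple i) (F := F)).range := by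
      refine Subgroup.inv_mem _ (((Subgroup.closure_le _).2 ?_ :
        uMinus hF (wPerm hF i) (F := F) ≤ (xHom hF (D.simple i)).range) hm)
      rintro y ⟨r, t, h1, h2, rfl⟩
      have : (r : ℕ) = D.simple i := by
        by_contra hne
        have := hF.refl_pos i i.2 r r.2 h1 hne
        rw [wPerm_val] at h2
        omega
      exact ⟨Multiplicative.ofAdd t, by rw [this]; rfl⟩
    obtain ⟨s, hs⟩ := hm'
    set α := D.simple i with hα
    set n : GL D.Idx F := nS hF (i : ℕ) with hn
    set x := xG hF α s.toAdd with hx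
    obtain ⟨c', hc'⟩ := torus_nWord hF [i] c (F := F)
    simp only [nWord, List.map_cons, List.map_nil, List.prod_singleton, ← hn] at hc'
    obtain ⟨d, hd⟩ := nS_inv hF i (F := F)
    have hninv : IsMon hF (n⁻¹ : GL D.Idx F) (wPerm hF i) := by
      rw [hn, hd]
      simpa using isMon_mul hF (isMon_nS hF i) (isMon_torus hF d)
    have hp' : n⁻¹ * p⁻¹ * n⁻¹⁻¹ ∈ D.posUnipotent F :=
      conj_uPlus hF hninv (Subgroup.inv_mem _ hp)
    rw [inv_inv] at hp'
    have hb2 : n⁻¹ * p⁻¹ * n * torusHom c' ∈ D.borelSubgroup F :=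
      Subgroup.mul_mem _ (Subgroup.mem_sup_left hp') (Subgroup.mem_sup_right (torusHom_mem hF _))
    have hfac : v * torusHom c * nWord hF (i :: w) * b' =
        x * n * ((n⁻¹ * p⁻¹ * n * torusHom c') * nWord hF w * b') := by
      have hv' : v = x * p⁻¹ := by
        rw [hx, show xG hF α s.toAdd = m⁻¹ from hs, ← inv_inv v, hvi, mul_inv_rev]
      rw [hv', nWord_cons, ← hn]
      calc x * p⁻¹ * torusHom c * (n * nWord hF w) * b'
          = x * p⁻¹ * (torusHom c * n) * nWord hF w * b' := by group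
        _ = _ := by rw [hc']; group
    have hpl : ∀ t : F, t ∈ V → xG hF α t ∈ intGroup hF V := fun t ht =>
      Subgroup.subset_closure ⟨⟨α, hF.simple_lt i i.2⟩, t, ht, rfl⟩
    have hml : ∀ t : F, t ∈ V → xG hF (D.neg α) t ∈ intGroup hF V := fun t ht =>
      Subgroup.subset_closure ⟨⟨D.neg α, neg_lt hF (hF.simple_lt i i.2)⟩, t, ht, rfl⟩
    by_cases hsV : s.toAdd ∈ V
    · obtain ⟨κ, hκ, b'', hb'', e⟩ := ih _ b' hb2 hb'
      refine ⟨x * n * κ, Subgroup.mul_mem _ (Subgroup.mul_mem _ (hpl _ hsV) ?_) hκ, b'', hb'',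
        by rw [hfac, e]; group⟩
      exact Subgroup.mul_mem _ (Subgroup.mul_mem _ (hpl 1 V.one_mem)
        (hml _ (by rw [inv_one]; exact V.neg_mem V.one_mem))) (hpl 1 V.one_mem)
    · have hs0 : s.toAdd ≠ 0 := fun h => hsV (h ▸ V.zero_mem)
      have hsinv : s.toAdd⁻¹ ∈ V := (hV _).resolve_left hsV
      obtain ⟨e₀, he₀⟩ := torus_nWord hF [i]
        (coH α (Units.mk0 (-s.toAdd) (neg_ne_zero.2 hs0))) (F := F)
      simp only [nWord, List.map_cons, List.map_nil, List.prod_singleton, ← hn] at he₀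
      have hns : nG hF α (-s.toAdd) = n * torusHom e₀ := by
        rw [← he₀, ← hG_eq_torus hF (hF.simple_lt i i.2), Units.val_mk0, hG, hn, nS, ← hα,
          show nG hF α (1 : F) = (nG hF α (-1 : F))⁻¹ by rw [nG_inv, neg_neg], mul_inv_cancel_right]
      have hxn : x * n =
          xG hF (D.neg α) s.toAdd⁻¹ * (xG hF α (-s.toAdd) * (torusHom e₀)⁻¹) := by
        rw [eq_mul_inv_of_mul_eq hns.symm, hx, nG, inv_neg, neg_neg, ← mul_assoc, ← mul_assoc,
          ← mul_assoc, xG_mul, add_neg_cancel, xG_zero, one_mul]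
        simp only [mul_assoc]
      have hb3 : xG hF α (-s.toAdd) * (torusHom e₀)⁻¹ * (n⁻¹ * p⁻¹ * n * torusHom c') ∈
          D.borelSubgroup F :=
        Subgroup.mul_mem _ (Subgroup.mul_mem _ (Subgroup.mem_sup_left
          (mem_posUnipotent_of hF (hF.simple_lt i i.2) (hF.simple_pos i i.2) _))
          (Subgroup.inv_mem _ (Subgroup.mem_sup_right (torusHom_mem hF _)))) hb2
      obtain ⟨κ, hκ, b'', hb'', e⟩ := ih _ b' hb3 hb'
      refine ⟨xG hF (D.neg α) s.toAdd⁻¹ * κ, Subgroup.mul_mem _ (hml _ hsinv) hκ, b'', hb'', ?_⟩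
      rw [hfac, hxn, mul_assoc (xG hF (D.neg α) s.toAdd⁻¹) κ, ← e]
      simp only [mul_assoc]

end Cfsg.Agent.Chev.SS
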