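import Cfsg.Agent.Chev.Semisimple.Ring
import Cfsg.Agent.Chev.Bruhat
import Cfsg.Agent.Chev.Parabolic
import Mathlib.Algebra.MvPolynomial.Funext

/-!
The big cell: its complement is the zero set of a minor, and it is dense.
-/

set_option autoImplicit false

namespace Cfsg.Agent.Chev.SS

open Cfsg.Lie Cfsg.Agent.Chev
open scoped MatrixGroups

universe u

variable {D : ChevalleyDatum} {F : Type u} [Field F]

/-- The entries of a matrix as a point. -/
def ent (M : Matrix D.Idx D.Idx F) : D.Idx × D.Idx → F := fun p => M p.1 p.2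

variable (hF : Facts.{u} D)
include hF

/-- Polynomial along every root line. -/
def PolyLine (φ : GL D.Idx F → F) : Prop :=
  ∀ g h : GL D.Idx F, g ∈ D.group F → h ∈ D.group F → ∀ r : Fin D.nroots,
    ∃ P : Polynomial F, ∀ s, φ (g * xG hF (r : ℕ) s * h) = P.eval s

/-- Matrix valued, polynomial along every root line. -/
def PolyLineMat (Φ : GL D.Idx F → Matrix D.Idx D.Idx F) : Prop :=
  ∀ g h : GL D.Idx F, g ∈ D.group F → h ∈ D.group F → ∀ r : Fin D.nroots,
    ∃ M : Matrix D.Idx D.Idx (Polynomial F), ∀ s,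
      Φ (g * xG hF (r : ℕ) s * h) = M.map (Polynomial.eval s)

theorem polyLineMat_const (A : Matrix D.Idx D.Idx F) : PolyLineMat hF fun _ => A :=
  fun _ _ _ _ _ => ⟨A.map Polynomial.C, fun s => by ext a b; simp⟩

theorem polyLineMat_mul {Φ Ψ : GL D.Idx F → Matrix D.Idx D.Idx F} (h1 : PolyLineMat hF Φ)
    (h2 : PolyLineMat hF Ψ) : PolyLineMat hF fun g => Φ g * Ψ g := by
  intro g h hg hh r
  obtain ⟨M, hM⟩ := h1 g h hg hh r
  obtain ⟨N, hN⟩ := h2 g h hg hh r
  refine ⟨M * N, fun s => ?_⟩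
  show Φ _ * Ψ _ = (Polynomial.evalRingHom s).mapMatrix (M * N)
  rw [map_mul, hM, hN]
  rfl

theorem exists_xR_poly (r : Fin D.nroots) :
    ∃ M : Matrix D.Idx D.Idx (Polynomial F), ∀ s, D.x F r s = M.map (Polynomial.eval s) :=
  ⟨xR D r Polynomial.X, fun s => by
    show _ = (xR D r Polynomial.X).map (Polynomial.evalRingHom s)
    rw [xR_map, xR_eq, Polynomial.coe_evalRingHom, Polynomial.eval_X]⟩

theorem polyLineMat_id : PolyLineMat hF fun g => (g : Matrix D.Idx D.Idx F) := by
  intro g h _ _ r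
  obtain ⟨M, hM⟩ := exists_xR_poly hF r (F := F)
  refine ⟨(g : Matrix D.Idx D.Idx F).map Polynomial.C * M *
    (h : Matrix D.Idx D.Idx F).map Polynomial.C, fun s => ?_⟩
  show ((g * xG hF (r : ℕ) s * h : GL D.Idx F) : Matrix D.Idx D.Idx F) =
    (Polynomial.evalRingHom s).mapMatrix _
  rw [map_mul, map_mul, Units.val_mul, Units.val_mul, xG_val, hM]
  congr 2 <;> ext a b <;> simp

theorem polyLineMat_inv :
    PolyLineMat hF fun g => ((g⁻¹ : GL D.Idx F) : Matrix D.Idx D.Idx F) := by
  intro g h hg hh r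
  obtain ⟨M, hM⟩ := polyLineMat_id hF h⁻¹ g⁻¹ (Subgroup.inv_mem _ hh) (Subgroup.inv_mem _ hg) r
  refine ⟨M.map fun P => P.comp (-Polynomial.X), fun s => ?_⟩
  show (((g * xG hF (r : ℕ) s * h)⁻¹ : GL D.Idx F) : Matrix D.Idx D.Idx F) = _
  rw [show (g * xG hF (r : ℕ) s * h)⁻¹ = h⁻¹ * xG hF (r : ℕ) (-s) * g⁻¹ by
    rw [← xG_inv]; group]
  refine (hM (-s)).trans ?_
  rw [Matrix.map_map]
  ext a b
  simp [Polynomial.eval_comp]

theorem polyLine_comp {Φ : GL D.Idx F → Matrix D.Idx D.Idx F} (h : PolyLineMat hF Φ)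
    (p : MvPolynomial (D.Idx × D.Idx) F) :
    PolyLine hF fun g => MvPolynomial.eval (ent (Φ g)) p := by
  intro g g' hg hg' r
  obtain ⟨M, hM⟩ := h g g' hg hg' r
  refine ⟨MvPolynomial.eval₂ Polynomial.C (fun q : D.Idx × D.Idx => M q.1 q.2) p, fun s => ?_⟩
  show MvPolynomial.eval (ent (Φ _)) p = _
  rw [hM]
  induction p using MvPolynomial.induction_on with
  | C a => simp
  | add a b ha hb => simp only [map_add, MvPolynomial.eval₂_add, Polynomial.eval_add, ha, hb]
  | mul_X a q ha =>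
    simp only [map_mul, MvPolynomial.eval₂_mul, Polynomial.eval_mul, ha, MvPolynomial.eval_X,
      MvPolynomial.eval₂_X]
    rfl

theorem polyLine_left {φ : GL D.Idx F → F} (h : PolyLine hF φ) {a : GL D.Idx F}
    (ha : a ∈ D.group F) : PolyLine hF fun g => φ (a * g) := by
  intro g g' hg hg' r
  obtain ⟨P, hP⟩ := h (a * g) g' (Subgroup.mul_mem _ ha hg) hg' r
  exact ⟨P, fun s => by rw [← hP]; congr 1; group⟩

theorem nS_mem_group (i : Fin D.rank) : (nS hF (i : ℕ) : GL D.Idx F) ∈ D.group F :=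
  monomial_le_group hF (nS_mem hF i)

/-- The key step: the closure of the big cell is stable under the simple representatives. -/
theorem cell_step_zero [Infinite F] {w₀ : List (Fin D.rank)}
    (hw₀ : ∀ r : Fin D.nroots, ((pWord hF w₀ r : ℕ) < half D ↔ half D ≤ (r : ℕ)))
    {φ : GL D.Idx F → F} (hφ : PolyLine hF φ)
    (h0 : ∀ b ∈ D.borelSubgroup F, ∀ x ∈ D.posUnipotent F, φ (b * nWord hF w₀ * x) = 0)
    (i : Fin D.rank) {b : GL D.Idx F} (hb : b ∈ D.borelSubgroup F) {x₀ : GL D.Idx F}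
    (hx₀ : x₀ ∈ D.posUnipotent F) : φ (nS hF (i : ℕ) * (b * nWord hF w₀ * x₀)) = 0 := by
  obtain ⟨v, hv, c, rfl⟩ := (mem_borel_iff hF).1 hb
  obtain ⟨a, ha, m, hm, rfl⟩ := posUnipotent_split hF (wPerm hF i) hv
  have hp := hF.simple_lt i i.2
  have hm' : m ∈ (xHom hF (D.simple i) (F := F)).range := by
    refine ((Subgroup.closure_le _).2 ?_ :
      uMinus hF (wPerm hF i) (F := F) ≤ (xHom hF (D.simple i)).range) hm
    rintro y ⟨r, t, h1, h2, rfl⟩
    have : (r : ℕ) = D.simple i := by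
      by_contra hne
      have := hF.refl_pos i i.2 r r.2 h1 hne
      rw [wPerm_val] at h2
      omega
    exact ⟨Multiplicative.ofAdd t, by rw [this]; rfl⟩
  obtain ⟨s₀, rfl⟩ := hm'
  set α := D.simple i with hα
  set n : GL D.Idx F := nS hF (i : ℕ) with hn
  set n₀ : GL D.Idx F := nWord hF w₀ with hn₀
  set τ : GL D.Idx F := torusHom c with hτ
  obtain ⟨P, hP⟩ := hφ (n * a) (τ * n₀ * x₀)
    (Subgroup.mul_mem _ (nS_mem_group hF i) (borel_le_group hF
      (Subgroup.mem_sup_left (closure_uGens_le hF _ ha))))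
    (Subgroup.mul_mem _ (Subgroup.mul_mem _ (borel_le_group hF
      (Subgroup.mem_sup_right (torusHom_mem hF c))) (monomial_le_group hF (nWord_mem hF w₀)))
      (borel_le_group hF (Subgroup.mem_sup_left hx₀))) ⟨α, hp⟩
  have key : ∀ s : F, s ≠ 0 → P.eval s = 0 := by
    intro s hs
    rw [← hP]
    have ha' : n * a * n⁻¹ ∈ D.posUnipotent F := conj_uPlus hF (isMon_nS hF i) ha
    set e : F := (etaN hF i α : F) * s with he
    have he0 : e ≠ 0 := mul_ne_zero (left_ne_zero_of_mul_eq_one (etaN_cast_sq hF i.2 hp)) hs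
    have hnx : n * xG hF α s = xG hF (D.neg α) e * n := by
      rw [hn, nS_conj_x hF i.2 hp, hF.refl_simple i i.2]
    set t : F := -e⁻¹ with ht
    have ht0 : t ≠ 0 := neg_ne_zero.2 (inv_ne_zero he0)
    have hy : xG hF (D.neg α) e = xG hF α (-t) * nG hF α t * xG hF α (-t) := by
      rw [nG, show -t⁻¹ = e by rw [ht, inv_neg, inv_inv, neg_neg], ← xG_inv]
      group
    obtain ⟨d, hd⟩ := nS_inv hF i (F := F)
    have hnn : n * n = (torusHom d)⁻¹ := by
      rw [eq_inv_iff_mul_eq_one, hn, mul_assoc, ← hd, mul_inv_cancel]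
    have hnt : nG hF α t = hG hF α t * n := by
      rw [hG, hn, nS, ← hα, show nG hF α (1 : F) = (nG hF α (-1 : F))⁻¹ by rw [nG_inv, neg_neg],
        mul_inv_cancel_right]
    have hninv : IsMon hF (n⁻¹ : GL D.Idx F) (wPerm hF i) := by
      rw [hn, hd]
      simpa using isMon_mul hF (isMon_nS hF i) (isMon_torus hF d)
    obtain ⟨f, hf⟩ := isMon_conj_mem hF hninv ⟨α, hp⟩ (-t)
    rw [inv_inv, wPerm_val, hF.refl_simple i i.2, ← hα] at hf
    set f' : F := ((chiU c⁻¹ (D.neg α) : Fˣ) : F) * f with hf'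
    have hmove : xG hF (D.neg α) f * τ = τ * xG hF (D.neg α) f' := by
      have := torusHom_conj hF c⁻¹ (neg_lt hF hp) f
      rw [map_inv, ← hτ] at this
      rw [hf', ← inv_mul_eq_iff_eq_mul, ← mul_assoc, this, inv_mul_cancel_right]
    obtain ⟨ρ, hρ⟩ : ∃ ρ, pWord hF w₀ ρ = ⟨D.neg α, neg_lt hF hp⟩ :=
      (pWord hF w₀).surjective _
    obtain ⟨κ, hκ, hconj⟩ := isMon_nWord hF w₀ (F := F) ρ
    have hρpos : half D ≤ (ρ : ℕ) := by
      rw [← hw₀, hρ]
      exact (neg_lt_half_iff hF hp).2 (hF.simple_pos i i.2)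
    have hz : xG hF (D.neg α) f' * n₀ = n₀ * xG hF (ρ : ℕ) (κ⁻¹ * f') := by
      rw [hn₀, hconj, hρ, ← mul_assoc, mul_inv_cancel₀ hκ, one_mul]
    set T₁ : GL D.Idx F := hG hF α t * (torusHom d)⁻¹ with hT₁
    have e1 : n * a * xG hF α s * (τ * n₀ * x₀) =
        (n * a * n⁻¹ * xG hF α (-t) * T₁ * τ) * n₀ * (xG hF (ρ : ℕ) (κ⁻¹ * f') * x₀) := by
      calc n * a * xG hF α s * (τ * n₀ * x₀)
          = (n * a * n⁻¹) * (n * xG hF α s) * τ * n₀ * x₀ := by group
        _ = (n * a * n⁻¹) * xG hF α (-t) * hG hF α t * (n * n) * (n⁻¹ * xG hF α (-t) * n) * τ *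
              n₀ * x₀ := by rw [hnx, hy, hnt]; group
        _ = (n * a * n⁻¹) * xG hF α (-t) * T₁ * (xG hF (D.neg α) f * τ) * n₀ * x₀ := by
          rw [hnn, hf, hT₁]; group
        _ = (n * a * n⁻¹) * xG hF α (-t) * T₁ * τ * (xG hF (D.neg α) f' * n₀) * x₀ := by
          rw [hmove]; group
        _ = _ := by rw [hz]; group
    rw [show n * a * xG hF ((⟨α, hp⟩ : Fin D.nroots) : ℕ) s * (τ * n₀ * x₀) = _ from e1]
    refine h0 _ ?_ _ (Subgroup.mul_mem _ (mem_posUnipotent_of hF ρ.2 hρpos _) hx₀)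
    refine Subgroup.mul_mem _ (Subgroup.mul_mem _ (Subgroup.mem_sup_left (Subgroup.mul_mem _ ha'
      (mem_posUnipotent_of hF hp (hF.simple_pos i i.2) _))) (Subgroup.mem_sup_right ?_))
      (Subgroup.mem_sup_right (torusHom_mem hF c))
    exact Subgroup.mul_mem _ (hG_mem_diagonal hF hp ht0)
      (Subgroup.inv_mem _ (torusHom_mem hF d))
  have hP0 : P = 0 := Polynomial.eq_zero_of_infinite_isRoot P
    ((Set.finite_singleton (0 : F)).infinite_compl.mono fun s hs => key s hs)
  have := hP s₀.toAdd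
  rw [hP0, Polynomial.eval_zero] at this
  rw [← this]
  congr 1
  show _ = n * a * xG hF α s₀.toAdd * (τ * n₀ * x₀)
  rw [show (xHom hF (D.simple i) (F := F)) s₀ = xG hF α s₀.toAdd from rfl]
  group

/-- A function polynomial along root lines which vanishes on the big cell vanishes on the group. -/
theorem eq_zero_of_cell [Infinite F] {w₀ : List (Fin D.rank)}
    (hw₀ : ∀ r : Fin D.nroots, ((pWord hF w₀ r : ℕ) < half D ↔ half D ≤ (r : ℕ)))
    {φ : GL D.Idx F → F} (hφ : PolyLine hF φ)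
    (h0 : ∀ b ∈ D.borelSubgroup F, ∀ x ∈ D.posUnipotent F, φ (b * nWord hF w₀ * x) = 0)
    {g : GL D.Idx F} (hg : g ∈ D.group F) : φ g = 0 := by
  set Ω : Set (GL D.Idx F) := {y | y ∈ D.group F ∧ ∀ ψ, PolyLine hF ψ →
    (∀ b ∈ D.borelSubgroup F, ∀ x ∈ D.posUnipotent F, ψ (b * nWord hF w₀ * x) = 0) → ψ y = 0}
  have hB : ∀ a ∈ D.borelSubgroup F, ∀ y ∈ Ω, a * y ∈ Ω := by
    intro a ha y hy
    refine ⟨Subgroup.mul_mem _ (borel_le_group hF ha) hy.1, fun ψ hψ hz => ?_⟩
    refine hy.2 (fun z => ψ (a * z)) (polyLine_left hF hψ (borel_le_group hF ha))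
      fun b hb x hx => ?_
    show ψ _ = 0
    rw [← mul_assoc, ← mul_assoc]
    exact hz _ (Subgroup.mul_mem _ ha hb) x hx
  have hN : ∀ i : Fin D.rank, ∀ y ∈ Ω, nS hF (i : ℕ) * y ∈ Ω := by
    intro i y hy
    refine ⟨Subgroup.mul_mem _ (nS_mem_group hF i) hy.1, fun ψ hψ hz => ?_⟩
    exact hy.2 (fun z => ψ (nS hF (i : ℕ) * z)) (polyLine_left hF hψ (nS_mem_group hF i))
      fun b hb x hx => cell_step_zero hF hw₀ hψ hz i hb hx
  have hW : ∀ w : List (Fin D.rank), ∀ y ∈ Ω, nWord hF w * y ∈ Ω := by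
    intro w
    induction w with
    | nil => intro y hy; simpa [nWord] using hy
    | cons i w ih => intro y hy; rw [nWord_cons, mul_assoc]; exact hN i _ (ih y hy)
  have hG : ∀ z ∈ D.group F, ∀ y ∈ Ω, z * y ∈ Ω := by
    intro z hz y hy
    obtain ⟨b, hb, w, x, hx, rfl⟩ := exists_normalForm hF hz
    rw [mul_assoc, mul_assoc]
    exact hB b hb _ (hW w _ (hB x (uMinus_le_borel hF _ hx) y hy))
  have hn : (nWord hF w₀ : GL D.Idx F) ∈ Ω :=
    ⟨monomial_le_group hF (nWord_mem hF w₀), fun ψ _ hz => by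
      simpa using hz 1 (Subgroup.one_mem _) 1 (Subgroup.one_mem _)⟩
  have := (hG (g * (nWord hF w₀)⁻¹)
    (Subgroup.mul_mem _ hg (Subgroup.inv_mem _ hn.1)) _ hn).2 φ hφ h0
  rwa [inv_mul_cancel_right] at this

omit hF in
/-- The index of a negative root. -/
def negIdx' (hE : D.nroots = 2 * half D) (a : Fin (half D)) : D.Idx :=
  Sum.inr ⟨a, by have := a.2; omega⟩

omit hF in
/-- The index of a positive root. -/
def posIdx' (hE : D.nroots = 2 * half D) (a : Fin (half D)) : D.Idx :=
  Sum.inr ⟨half D + a, by have := a.2; omega⟩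

/-- The minor cutting out the complement of the big cell. -/
def minor (M : Matrix D.Idx D.Idx F) : F :=
  (M.submatrix (negIdx' hF.nroots_even) (posIdx' hF.nroots_even)).det

theorem exists_minor_poly :
    ∃ p : MvPolynomial (D.Idx × D.Idx) F, ∀ M, MvPolynomial.eval (ent M) p = minor hF M := by
  refine ⟨((Matrix.of fun a b => MvPolynomial.X (a, b)).submatrix
    (negIdx' hF.nroots_even) (posIdx' hF.nroots_even)).det, fun M => ?_⟩
  rw [RingHom.map_det, minor]
  congr 1
  ext a b
  simp [ent]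

theorem nWord_entry : ∀ (w : List (Fin D.rank)) (s : Fin D.nroots) (a : D.Idx),
    a ≠ Sum.inr (pWord hF w s) →
      ((nWord hF w : GL D.Idx F) : Matrix D.Idx D.Idx F) a (Sum.inr s) = 0 := by
  intro w
  induction w with
  | nil =>
    intro s a ha
    rw [show (nWord hF ([] : List (Fin D.rank)) : GL D.Idx F) = 1 from rfl, Units.val_one]
    exact Matrix.one_apply_ne (show a ≠ Sum.inr s from ha)
  | cons i w ih =>
    intro s a ha
    rw [nWord_cons, Units.val_mul, Matrix.mul_apply, nS_val hF i.2,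
      Finset.sum_eq_single (Sum.inr (pWord hF w s))]
    · have h : nShape D i (etaN hF i) (1 : F) 1 a (Sum.inr (pWord hF w s)) = 0 := by
        rcases a with j | u
        · rfl
        · simp only [nShape, Matrix.of_apply, Sum.elim_inr]
          rw [if_neg]
          intro e
          exact ha (congrArg Sum.inr (Fin.ext e))
      rw [h, zero_mul]
    · intro c _ hc
      rw [ih s c hc, mul_zero]
    · intro h; exact absurd (Finset.mem_univ _) h

theorem tri_minor_mul {b : GL D.Idx F} (hb : b ∈ D.borelSubgroup F)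
    (A : Matrix D.Idx D.Idx F) :
    ((b : Matrix D.Idx D.Idx F) * A).submatrix (negIdx' hF.nroots_even) (posIdx' hF.nroots_even) =
      (b : Matrix D.Idx D.Idx F).submatrix (negIdx' hF.nroots_even) (negIdx' hF.nroots_even) *
        A.submatrix (negIdx' hF.nroots_even) (posIdx' hF.nroots_even) := by
  have htri : ∀ a b' : D.Idx, pos D a < pos D b' → (b : Matrix D.Idx D.Idx F) a b' = 0 := by
    obtain ⟨v, hv, c, rfl⟩ := (mem_borel_iff hF).1 hb
    intro a b' hab
    rw [Units.val_mul, Matrix.mul_apply]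
    refine Finset.sum_eq_zero fun x _ => ?_
    by_cases hx : x = b'
    · subst hx
      have := (posUnipotent_le_lowerGroup hF hv).1 a x (by omega)
      rw [Matrix.sub_apply, Matrix.one_apply_ne (fun e => by subst e; omega), sub_zero] at this
      rw [this, zero_mul]
    · rw [torusHom_apply, if_neg hx, mul_zero]
  ext a a'
  simp only [Matrix.submatrix_apply, Matrix.mul_apply]
  refine (Finset.sum_of_injOn (negIdx' hF.nroots_even) ?_ (fun x _ => Finset.mem_univ _)
    (fun c _ hc => ?_) fun x _ => rfl).symm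
  · intro x _ y _ e
    simp only [negIdx', Sum.inr.injEq, Fin.mk.injEq] at e
    exact Fin.ext e
  · rw [htri _ _ ?_, zero_mul]
    have hneg : pos D (negIdx' hF.nroots_even a) = a := by
      simp [negIdx', pos, a.2]
    rw [hneg]
    have := a.2
    rcases c with j | u
    · simp only [pos]; omega
    · by_cases hu : (u : ℕ) < half D
      · exact absurd ⟨⟨u, hu⟩, Finset.mem_univ _, rfl⟩ hc
      · simp only [pos, if_neg hu]; omega

/-- The complement of the big cell is cut out by the minor. -/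
theorem mem_cell_of_minor {w₀ : List (Fin D.rank)}
    (hw₀ : ∀ r : Fin D.nroots, ((pWord hF w₀ r : ℕ) < half D ↔ half D ≤ (r : ℕ)))
    {g : GL D.Idx F} (hg : g ∈ D.group F) (h : minor hF (g : Matrix D.Idx D.Idx F) ≠ 0) :
    ∃ b ∈ D.borelSubgroup F, ∃ x ∈ D.posUnipotent F, g = b * nWord hF w₀ * x := by
  obtain ⟨b, hb, w, x, hx, rfl⟩ := exists_normalForm hF hg
  have hxU := uMinus_le_posUnipotent hF _ hx
  have hπ : ∀ r : Fin D.nroots, half D ≤ (r : ℕ) → (pWord hF w r : ℕ) < half D := by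
    intro r hr
    by_contra hneg
    apply h
    rw [minor, Units.val_mul, Units.val_mul, Matrix.mul_assoc, tri_minor_mul hF hb,
      Matrix.det_mul]
    refine mul_eq_zero_of_right _ ?_
    -- the columns of `n` at the positive roots
    have hsplit : (((nWord hF w : GL D.Idx F) : Matrix D.Idx D.Idx F) *
        (x : Matrix D.Idx D.Idx F)).submatrix (negIdx' hF.nroots_even) (posIdx' hF.nroots_even) =
        ((nWord hF w : GL D.Idx F) : Matrix D.Idx D.Idx F).submatrix
          (negIdx' hF.nroots_even) (posIdx' hF.nroots_even) *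
        (x : Matrix D.Idx D.Idx F).submatrix (posIdx' hF.nroots_even) (posIdx' hF.nroots_even) := by
      ext a a'
      simp only [Matrix.submatrix_apply, Matrix.mul_apply]
      refine (Finset.sum_of_injOn (posIdx' hF.nroots_even) ?_ (fun y _ => Finset.mem_univ _)
        (fun c _ hc => ?_) fun y _ => rfl).symm
      · intro y _ z _ e
        simp only [posIdx', Sum.inr.injEq, Fin.mk.injEq] at e
        exact Fin.ext (by omega)
      · have hc' : pos D c < pos D (posIdx' hF.nroots_even a') := by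
          have := a'.2
          rcases c with j | u
          · have := j.2; simp only [pos, posIdx']; rw [if_neg (by omega)]; omega
          · by_cases hu : (u : ℕ) < half D
            · simp only [pos, posIdx', if_pos hu]; rw [if_neg (by omega)]; omega
            · exfalso
              refine hc ⟨⟨(u : ℕ) - half D, by have := u.2; have := hF.nroots_even; omega⟩,
                Finset.mem_univ _, ?_⟩
              simp only [posIdx', Sum.inr.injEq]
              ext
              simp only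
              omega
        have := (posUnipotent_le_lowerGroup hF hxU).1 c (posIdx' hF.nroots_even a') (by omega)
        rw [Matrix.sub_apply, Matrix.one_apply_ne (fun e => by rw [e] at hc'; omega),
          sub_zero] at this
        rw [this, mul_zero]
    rw [hsplit, Matrix.det_mul]
    refine mul_eq_zero_of_left ?_ _
    refine Matrix.det_eq_zero_of_column_eq_zero
      ⟨(r : ℕ) - half D, by have := r.2; have := hF.nroots_even; omega⟩ fun a => ?_
    rw [Matrix.submatrix_apply]
    have : posIdx' hF.nroots_even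
        ⟨(r : ℕ) - half D, by have := r.2; have := hF.nroots_even; omega⟩ = Sum.inr r := by
      simp only [posIdx', Sum.inr.injEq]
      ext
      simp only
      omega
    rw [this]
    refine nWord_entry hF w r _ fun e => ?_
    simp only [negIdx', Sum.inr.injEq] at e
    rw [← e] at hneg
    exact hneg a.2
  have hπ' : pWord hF w₀.reverse * pWord hF w = 1 := by
    refine eq_one_of_pos hF (Subgroup.mul_mem _ (pWord_mem hF _) (pWord_mem hF _)) fun i => ?_
    rw [Equiv.Perm.mul_apply, pWord_reverse]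
    obtain ⟨y, hy⟩ := (pWord hF w₀).surjective (pWord hF w (sRoot hF i))
    rw [← hy, ← Equiv.Perm.mul_apply, inv_mul_cancel, Equiv.Perm.one_apply]
    have := hπ (sRoot hF i) (hF.simple_pos i i.2)
    rw [← hy] at this
    exact (hw₀ y).1 this
  have hd : ((nWord hF w₀ : GL D.Idx F))⁻¹ * nWord hF w ∈ D.diagonalSubgroup F := by
    refine mem_diagonal_of_isMon_one hF (Subgroup.mul_mem _ (Subgroup.inv_mem _ (nWord_mem hF w₀))
      (nWord_mem hF w)) ?_
    have h1 : IsMon hF ((nWord hF w₀ : GL D.Idx F))⁻¹ (pWord hF w₀)⁻¹ := by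
      have h := isMon_monPerm hF (Subgroup.inv_mem _ (nWord_mem hF w₀ (F := F)))
      have h2 := isMon_mul hF (isMon_nWord hF w₀) h
      rw [mul_inv_cancel] at h2
      have := isMon_unique hF h2 (isMon_one hF)
      rwa [eq_inv_of_mul_eq_one_right this] at h
    have h2 := isMon_mul hF h1 (isMon_nWord hF w)
    rwa [← pWord_reverse, hπ'] at h2
  obtain ⟨c, hc⟩ := (mem_diagonal_iff hF).1 hd
  obtain ⟨c', hc'⟩ := nWord_torus hF w₀ c (F := F)
  refine ⟨b * torusHom c', Subgroup.mul_mem _ hb (Subgroup.mem_sup_right (torusHom_mem hF _)),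
    x, hxU, ?_⟩
  rw [eq_mul_of_inv_mul_eq hc.symm, hc']
  group

end Cfsg.Agent.Chev.SS
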