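import Cfsg.Agent.Chev.Semisimple.Density
import Cfsg.Agent.Chev.Lang
import Mathlib.FieldTheory.IsAlgClosed.AlgebraicClosure
import Mathlib.RingTheory.Valuation.LocalSubring
import Mathlib.RingTheory.Nullstellensatz

/-!
An element of finite order prime to the characteristic is conjugate to a torus element.
-/

set_option autoImplicit false

namespace Cfsg.Agent.Chev.SS

open Cfsg.Lie Cfsg.Agent.Chev
open scoped MatrixGroups

universe u

variable {D : ChevalleyDatum}

/-- An integral multiple of the inverse of the Cartan matrix. -/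
def CartanInv (D : ChevalleyDatum) (e : ℕ) : Prop :=
  ∃ B : Fin D.rank → Fin D.rank → ℤ, ∀ a j : Fin D.rank,
    ∑ i : Fin D.rank, B a i * D.cartan j (D.simple i) = if a = j then (e : ℤ) else 0

theorem pow_eq_one_of_torusHom_eq_one (hF : Facts.{u} D) {e : ℕ} (hB : CartanInv D e)
    {K : Type u} [Field K] {c : Fin D.rank → Kˣ} (hc : (torusHom c : GL D.Idx K) = 1)
    (a : Fin D.rank) : c a ^ e = 1 := by
  obtain ⟨B, hB⟩ := hB
  have h := (torusHom_eq_one_iff c).1 hc
  have h1 : ∏ i : Fin D.rank, chiU c (D.simple i) ^ B a i = 1 :=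
    Finset.prod_eq_one fun i _ => by
      rw [show chiU c (D.simple i) = 1 from h ⟨D.simple i, hF.simple_lt i i.2⟩, one_zpow]
  simp only [chiU, ← Finset.prod_zpow, ← zpow_mul] at h1
  rw [Finset.prod_comm] at h1
  simp only [← zpow_eq_prod_aux] at h1
  rw [Finset.prod_eq_single a (fun j _ hj => ?_) (fun h => absurd (Finset.mem_univ a) h)] at h1
  · rw [show ∑ i : Fin D.rank, D.cartan a (D.simple i) * B a i = (e : ℤ) by
      rw [← (hB a a).trans (if_pos rfl)]
      exact Finset.sum_congr rfl fun i _ => mul_comm _ _, zpow_natCast] at h1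
    exact h1
  · rw [show ∑ i : Fin D.rank, D.cartan j (D.simple i) * B a i = (0 : ℤ) by
      rw [← (hB a j).trans (if_neg (Ne.symm hj))]
      exact Finset.sum_congr rfl fun i _ => mul_comm _ _, zpow_zero]
where
  zpow_eq_prod_aux {G : Type u} [CommGroup G] {α : Type} [Fintype α] (x : G) (f : α → ℤ) :
      x ^ (∑ i, f i) = ∏ i, x ^ f i := by
    classical
    induction (Finset.univ : Finset α) using Finset.induction_on with
    | empty => simp
    | insert b t hb ih => rw [Finset.prod_insert hb, Finset.sum_insert hb, zpow_add, ih]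

variable {k : Type u} [Field k]

theorem exists_rootList (hF : Facts.{u} D) {K : Type u} [Field K] {g : GL D.Idx K}
    (hg : g ∈ D.group K) :
    ∃ l : List (Fin D.nroots × K), g = (l.map fun p => xG hF (p.1 : ℕ) p.2).prod := by
  rw [← rootFam_group hF] at hg
  induction hg using Subgroup.closure_induction'' with
  | mem x hx =>
    obtain ⟨r, t, rfl⟩ := hx
    exact ⟨[(r, t)], by simp [rootFam]⟩
  | inv_mem x hx =>
    obtain ⟨r, t, rfl⟩ := hx
    exact ⟨[(r, -t)], by simp [rootFam, xG_inv]⟩
  | one => exact ⟨[], rfl⟩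
  | mul x y _ _ hx hy =>
    obtain ⟨l, rfl⟩ := hx
    obtain ⟨l', rfl⟩ := hy
    exact ⟨l ++ l', by simp⟩

theorem det_eq_one_of_mem (hF : Facts.{u} D) [Infinite k] {g : GL D.Idx k}
    (hg : g ∈ D.group k) : (g : Matrix D.Idx D.Idx k).det = 1 :=
  (rootFam hF).det_eq_one (by rwa [rootFam_group hF])

/-- A root of unity in an extension of an algebraically closed field lies in that field. -/
theorem mem_range_of_pow_eq_one [IsAlgClosed k] {L : Type u} [Field L] (j : k →+* L) {N : ℕ}
    (hN : 0 < N) {z : L} (hz : z ^ N = 1) : z ∈ j.range := by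
  refine Polynomial.Splits.mem_range_of_isRoot
    (f := Polynomial.X ^ N - Polynomial.C (1 : k)) (IsAlgClosed.splits _)
    (Polynomial.X_pow_sub_C_ne_zero hN _) ?_
  simp [hz]

/-- A conjugacy between rational points is realised by a rational element. -/
theorem exists_conj_descent [IsAlgClosed k] (hF : Facts.{u} D) {L : Type u} [Field L]
    (j : k →+* L) {g t : GL D.Idx k} {y : GL D.Idx L} (hy : y ∈ D.group L)
    (h : y * gmap D j g = gmap D j t * y) :
    ∃ y' ∈ D.group k, y' * g = t * y' := by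
  classical
  letI := j.toAlgebra
  obtain ⟨l, rfl⟩ := exists_rootList hF hy
  set m := l.length
  let z : Fin m → L := fun i => (l.get i).2
  let W : Matrix D.Idx D.Idx (MvPolynomial (Fin m) k) :=
    (List.ofFn fun i : Fin m => xR D (l.get i).1 (MvPolynomial.X i)).prod
  have hW : ∀ {R : Type u} [CommRing R] (f : MvPolynomial (Fin m) k →+* R),
      f.mapMatrix W = (List.ofFn fun i : Fin m => xR D (l.get i).1 (f (MvPolynomial.X i))).prod := by
    intro R _ f
    simp only [W, map_list_prod, List.map_ofFn]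
    refine congrArg List.prod (congrArg List.ofFn (funext fun i => ?_))
    exact xR_map f _ _
  let E : Matrix D.Idx D.Idx (MvPolynomial (Fin m) k) :=
    W * MvPolynomial.C.mapMatrix (g : Matrix D.Idx D.Idx k) -
      MvPolynomial.C.mapMatrix (t : Matrix D.Idx D.Idx k) * W
  have hy2 : (MvPolynomial.aeval z).toRingHom.mapMatrix W =
      (((l.map fun p => xG hF (p.1 : ℕ) p.2).prod : GL D.Idx L) : Matrix D.Idx D.Idx L) := by
    rw [hW, ← Units.coeHom_apply, map_list_prod, List.map_map]
    refine congrArg List.prod ?_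
    conv_rhs => rw [← List.ofFn_get l, List.map_ofFn]
    refine congrArg List.ofFn (funext fun i => ?_)
    simp [z, xR_eq]
  let I := RingHom.ker (MvPolynomial.aeval z : MvPolynomial (Fin m) k →ₐ[k] L).toRingHom
  have hE : ∀ a b, E a b ∈ I := by
    intro a b
    have h1 : (MvPolynomial.aeval z).toRingHom.mapMatrix E = 0 := by
      have hC : ∀ A : Matrix D.Idx D.Idx k,
          (MvPolynomial.aeval z).toRingHom.mapMatrix (MvPolynomial.C.mapMatrix A) = A.map j := by
        intro A
        ext a b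
        simp [RingHom.algebraMap_toAlgebra]
      simp only [E, map_sub, map_mul, hy2, hC]
      rw [sub_eq_zero]
      exact congrArg Units.val h
    exact congrFun (congrFun h1 a) b
  obtain ⟨m', hm', hle⟩ := Ideal.exists_le_maximal I (RingHom.ker_ne_top _)
  obtain ⟨y₀, hy₀⟩ := MvPolynomial.eq_vanishingIdeal_singleton_of_isMaximal k hm'
  set y' : GL D.Idx k := (List.ofFn fun i : Fin m => xG hF ((l.get i).1 : ℕ) (y₀ i)).prod with hy'
  refine ⟨y', Subgroup.list_prod_mem _ fun x hx => ?_, Units.ext ?_⟩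
  · obtain ⟨i, rfl⟩ := List.mem_ofFn.1 hx
    exact xG_mem_group hF _ _
  · have hW' : (MvPolynomial.eval y₀).mapMatrix W = (y' : Matrix D.Idx D.Idx k) := by
      rw [hW, hy', ← Units.coeHom_apply, map_list_prod, List.map_ofFn]
      refine congrArg List.prod (congrArg List.ofFn (funext fun i => ?_))
      simp [xR_eq]
    have h2 : (MvPolynomial.eval y₀).mapMatrix E = 0 := by
      ext a b
      have := hle (hE a b)
      rw [hy₀, MvPolynomial.mem_vanishingIdeal_singleton_iff, aeval_eq_eval_self] at this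
      simpa using this
    have hC : ∀ A : Matrix D.Idx D.Idx k,
        (MvPolynomial.eval y₀).mapMatrix (MvPolynomial.C.mapMatrix A) = A := fun A => by
      ext a b; simp
    simp only [E, map_sub, map_mul, hW', hC, sub_eq_zero] at h2
    simpa [Units.val_mul] using h2

variable [IsAlgClosed k]

/-- An element of finite order prime to the characteristic is conjugate to a torus element. -/
theorem exists_conj_torus (hF : Facts.{u} D) (p₀ : ℕ) [Fact p₀.Prime] [CharP k p₀] {e : ℕ}
    (he : 0 < e) (hB : CartanInv D e) {g : GL D.Idx k} (hg : g ∈ D.group k) {n : ℕ}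
    (hn : (n : k) ≠ 0) (hpow : g ^ n = 1) :
    ∃ y ∈ D.group k, ∃ c : Fin D.rank → kˣ, y * g * y⁻¹ = torusHom c := by
  classical
  obtain ⟨w₀, hw₀⟩ := exists_longest hF
  -- a generic conjugate of a torus element
  let K' := AlgebraicClosure (FractionRing (MvPolynomial (Var D) k))
  let ys : Var D → K' := fun v => algebraMap (MvPolynomial (Var D) k) K' (MvPolynomial.X v)
  have hinj : Function.Injective (algebraMap (MvPolynomial (Var D) k) K') := by
    rw [IsScalarTower.algebraMap_eq (MvPolynomial (Var D) k)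
      (FractionRing (MvPolynomial (Var D) k)) K']
    exact (algebraMap (FractionRing (MvPolynomial (Var D) k)) K').injective.comp
      (IsFractionRing.injective _ _)
  have hys : TorusPt D ys := fun j h =>
    MvPolynomial.X_ne_zero (R := k) (Sum.inr (Sum.inl j) : Var D) (hinj (by rw [map_zero]; exact h))
  have hys2 : ∀ f : MvPolynomial (Var D) k,
      MvPolynomial.aeval ys f = algebraMap (MvPolynomial (Var D) k) K' f := by
    intro f
    induction f using MvPolynomial.induction_on with
    | C a => rw [MvPolynomial.aeval_C, ← MvPolynomial.algebraMap_eq,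
        ← IsScalarTower.algebraMap_apply k (MvPolynomial (Var D) k) K']
    | add a b ha hb => simp only [map_add, ha, hb]
    | mul_X a q ha => simp only [map_mul, ha, MvPolynomial.aeval_X, ys]
  set ξ : GL D.Idx K' := conjPt hF w₀ ys with hξ
  have hξG : ξ ∈ D.group K' := conjPt_mem hF w₀ ys
  let evξ : MvPolynomial (D.Idx × D.Idx) k →ₐ[k] K' :=
    MvPolynomial.aeval (ent (ξ : Matrix D.Idx D.Idx K'))
  let evg : MvPolynomial (D.Idx × D.Idx) k →+* k :=
    MvPolynomial.eval (ent (g : Matrix D.Idx D.Idx k))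
  have hkey : ∀ p, evξ p = 0 → evg p = 0 := by
    intro p hp
    obtain ⟨f, hf⟩ := (good_eval (goodG_conjPt hF w₀) p).exists_poly
    have hf0 : f = 0 := hinj (by rw [← hys2, map_zero]; exact (hf K' ys hys).1 hp)
    refine eval_eq_zero_of_conjPt hF p₀ hw₀ he
      (fun c hc => pow_eq_one_of_torusHom_eq_one hF hB hc) (fun y hy => ?_) hg
    rw [← aeval_eq_eval_self]
    exact (hf k y hy).2 (by rw [hf0, map_zero])
  -- the valuation ring
  let M : Ideal evξ.toRingHom.range :=
    Ideal.map evξ.toRingHom.rangeRestrict (RingHom.ker evg)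
  have hM : M ≠ ⊤ := by
    intro h
    have h1 : (1 : evξ.toRingHom.range) ∈ M := h ▸ Submodule.mem_top
    obtain ⟨p, hp, hp1⟩ := (Ideal.mem_map_iff_of_surjective _
      evξ.toRingHom.rangeRestrict_surjective).1 h1
    have h2 : evξ p = 1 := congrArg Subtype.val hp1
    have h3 := hkey (p - 1) (by rw [map_sub, map_one, h2, sub_self])
    rw [map_sub, map_one, RingHom.mem_ker.1 hp, zero_sub, neg_eq_zero] at h3
    exact one_ne_zero h3
  obtain ⟨V, hAV, hMV⟩ := Ideal.image_subset_nonunits_valuationSubring M hM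
  have hmemA : ∀ p, evξ p ∈ V.toSubring := fun p => hAV ⟨p, rfl⟩
  haveI : IsLocalRing V.toSubring := inferInstanceAs (IsLocalRing V)
  let κ := IsLocalRing.ResidueField V.toSubring
  let red : V.toSubring →+* κ := IsLocalRing.residue V.toSubring
  let j : k →+* κ := red.comp ((algebraMap k K').codRestrict V.toSubring fun a => by
    have := hmemA (MvPolynomial.C a)
    simpa [evξ] using this)
  have hred : ∀ p (h : evξ p ∈ V.toSubring), red ⟨evξ p, h⟩ = j (evg p) := by
    intro p h
    have hmem : evξ (p - MvPolynomial.C (evg p)) ∈ V.nonunits := by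
      refine hMV ⟨⟨_, ⟨_, rfl⟩⟩, Ideal.mem_map_of_mem evξ.toRingHom.rangeRestrict
        (show p - MvPolynomial.C (evg p) ∈ RingHom.ker evg by simp [evg]), rfl⟩
    obtain ⟨hv, hv2⟩ := V.mem_nonunits_iff_exists_mem_maximalIdeal.1 hmem
    have h0 : red ⟨_, hv⟩ = 0 := (IsLocalRing.residue_eq_zero_iff _).2 hv2
    rw [← sub_eq_zero]
    rw [← h0]
    show red ⟨evξ p, h⟩ - red _ = _
    rw [← map_sub]
    refine congrArg red (Subtype.ext ?_)
    show evξ p - algebraMap k K' (evg p) = evξ (p - MvPolynomial.C (evg p))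
    rw [map_sub]
    simp [evξ]
  -- the reduction of the generic point
  have hent : ∀ a b, (ξ : Matrix D.Idx D.Idx K') a b = evξ (MvPolynomial.X (a, b)) := fun a b =>
    (by simp [evξ, ent] : evξ (MvPolynomial.X (a, b)) = (ξ : Matrix D.Idx D.Idx K') a b).symm
  let Mξ : Matrix D.Idx D.Idx V.toSubring := Matrix.of fun a b =>
    ⟨evξ (MvPolynomial.X (a, b)), hmemA _⟩
  have hMξ : Mξ.map V.toSubring.subtype = (ξ : Matrix D.Idx D.Idx K') := by
    ext a b; exact (hent a b).symm
  have hdet : Mξ.det = 1 := by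
    apply Subtype.ext
    show V.toSubring.subtype Mξ.det = _
    rw [RingHom.map_det, RingHom.mapMatrix_apply, hMξ, det_eq_one_of_mem hF hξG]
    rfl
  let ξV : GL D.Idx V.toSubring := Matrix.GeneralLinearGroup.mk'' Mξ (hdet ▸ isUnit_one)
  have hξV : Matrix.GeneralLinearGroup.map V.toSubring.subtype ξV = ξ := Units.ext hMξ
  have hξred : Matrix.GeneralLinearGroup.map red ξV = gmap D j g := by
    apply Units.ext
    ext a b
    show red ⟨evξ (MvPolynomial.X (a, b)), _⟩ = j ((g : Matrix D.Idx D.Idx k) a b)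
    rw [hred]
    simp [evg, ent]
  -- the decomposition of the conjugating element
  obtain ⟨κ₀, hκ₀, b, hb, hx⟩ := exists_int_mul_borel hF V.toSubring
    (fun s => V.mem_or_inv_mem s) (conjEl_mem hF w₀ ys)
  set GV : Subgroup (GL D.Idx V.toSubring) :=
    Subgroup.closure {x | ∃ (r : Fin D.nroots) (t : V.toSubring), x = xU D hF V.toSubring r t}
  have hGV : intGroup hF V.toSubring =
      GV.map (Matrix.GeneralLinearGroup.map V.toSubring.subtype) := by
    rw [MonoidHom.map_closure, intGroup]
    congr 1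
    ext x
    constructor
    · rintro ⟨r, t, ht, rfl⟩
      exact ⟨xU D hF V.toSubring r ⟨t, ht⟩, ⟨r, ⟨t, ht⟩, rfl⟩, map_xU hF _ _ r ⟨t, ht⟩⟩
    · rintro ⟨_, ⟨r, t, rfl⟩, rfl⟩
      exact ⟨r, t, t.2, map_xU hF _ _ r t⟩
  rw [hGV] at hκ₀
  obtain ⟨κV, hκV, rfl⟩ := Subgroup.mem_map.1 hκ₀
  have hκG : Matrix.GeneralLinearGroup.map red κV ∈ D.group κ := by
    refine (Subgroup.closure_le ((D.group κ).comap (Matrix.GeneralLinearGroup.map red))).2 ?_ hκV
    rintro _ ⟨r, t, rfl⟩
    show Matrix.GeneralLinearGroup.map red (xU D hF V.toSubring r t) ∈ D.group κ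
    rw [map_xU]
    exact xG_mem_group hF _ _
  set bV : GL D.Idx V.toSubring := κV⁻¹ * ξV * κV with hbV
  have hbB : Matrix.GeneralLinearGroup.map V.toSubring.subtype bV ∈ D.borelSubgroup K' := by
    rw [hbV, map_mul, map_mul, map_inv, hξV, hξ, conjPt, hx]
    have hc : (torusHom (cUnit ys) : GL D.Idx K') ∈ D.borelSubgroup K' :=
      Subgroup.mem_sup_right (torusHom_mem hF _)
    have h : b * torusHom (cUnit ys) * b⁻¹ ∈ D.borelSubgroup K' :=
      Subgroup.mul_mem _ (Subgroup.mul_mem _ hb hc) (Subgroup.inv_mem _ hb)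
    refine Eq.mp (congrArg (· ∈ D.borelSubgroup K') ?_) h
    group
  have hbG : Matrix.GeneralLinearGroup.map red bV ∈ D.group κ := by
    rw [hbV, map_mul, map_mul, map_inv, hξred]
    exact Subgroup.mul_mem _ (Subgroup.mul_mem _ (Subgroup.inv_mem _ hκG)
      (gmap_mem_group hF hF j hg)) hκG
  have hbT : Matrix.GeneralLinearGroup.map red bV ∈ triGroup := by
    have key : ∀ A : GL D.Idx V.toSubring,
        Matrix.GeneralLinearGroup.map V.toSubring.subtype A ∈ triGroup (D := D) (F := K') →
        IsTri ((Matrix.GeneralLinearGroup.map red A : GL D.Idx κ) : Matrix D.Idx D.Idx κ) := by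
      intro A hA a b hab
      have h1 : ((A : Matrix D.Idx D.Idx V.toSubring) a b : K') = 0 := hA.1 a b hab
      show red ((A : Matrix D.Idx D.Idx V.toSubring) a b) = 0
      rw [show (A : Matrix D.Idx D.Idx V.toSubring) a b = 0 from Subtype.ext h1, map_zero]
    refine ⟨key _ (borel_le_tri hF hbB), ?_⟩
    rw [← map_inv]
    exact key _ (by rw [map_inv]; exact Subgroup.inv_mem _ (borel_le_tri hF hbB))
  have hbn : Matrix.GeneralLinearGroup.map red bV ^ n = 1 := by
    rw [hbV, map_mul, map_mul, map_inv, hξred,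
      show ((Matrix.GeneralLinearGroup.map red κV)⁻¹ * gmap D j g *
          Matrix.GeneralLinearGroup.map red κV) =
        (Matrix.GeneralLinearGroup.map red κV)⁻¹ * gmap D j g *
          ((Matrix.GeneralLinearGroup.map red κV)⁻¹)⁻¹ by rw [inv_inv],
      conj_pow, ← map_pow, hpow, map_one, mul_one, mul_inv_cancel]
  have hnκ : (n : κ) ≠ 0 := by
    rw [← map_natCast j]
    exact (map_ne_zero j).2 hn
  obtain ⟨y₁, hy₁, c₁, hc₁⟩ := exists_torus_of_borel hF (mem_borel_of_tri hF hbG hbT) hnκ hbn
  -- the torus element is rational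
  have htn : (torusHom (c₁ ^ n) : GL D.Idx κ) = 1 := by
    rw [map_pow, ← hc₁, conj_pow, hbn, mul_one, mul_inv_cancel]
  have hn0 : 0 < n := Nat.pos_of_ne_zero fun h => hn (by rw [h, Nat.cast_zero])
  have hcr : ∀ a, ∃ z : k, j z = (c₁ a : κ) := fun a => by
    refine mem_range_of_pow_eq_one j (Nat.mul_pos hn0 he) ?_
    rw [← Units.val_pow_eq_pow_val, pow_mul]
    exact congrArg Units.val (pow_eq_one_of_torusHom_eq_one hF hB htn a)
  choose z hz using hcr
  have hz0 : ∀ a, z a ≠ 0 := fun a h => (c₁ a).ne_zero (by rw [← hz a, h, map_zero])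
  let c : Fin D.rank → kˣ := fun a => Units.mk0 (z a) (hz0 a)
  have hcmap : gmap D j (torusHom c) = torusHom c₁ := by
    rw [gmap_torusHom]
    exact congrArg _ (funext fun a => Units.ext (hz a))
  obtain ⟨y', hy', hye⟩ := exists_conj_descent hF j (g := g) (t := torusHom c)
    (y := y₁ * (Matrix.GeneralLinearGroup.map red κV)⁻¹)
    (Subgroup.mul_mem _ hy₁ (Subgroup.inv_mem _ hκG)) (by
      rw [hcmap, ← hc₁, hbV, map_mul, map_mul, map_inv, hξred]
      group)
  exact ⟨y', hy', c, by rw [hye, mul_inv_cancel_right]⟩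

end Cfsg.Agent.Chev.SS
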