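import Cfsg.Agent.Chev.Semisimple.Laurent
import Cfsg.Agent.Chev.Semisimple.Borel
import Mathlib.FieldTheory.IsAlgClosed.Basic
import Mathlib.FieldTheory.Separable
import Mathlib.Algebra.CharP.Frobenius

/-!
Conjugates of torus elements are dense in the group.
-/

set_option autoImplicit false

namespace Cfsg.Agent.Chev.SS

open Cfsg.Lie Cfsg.Agent.Chev
open scoped MatrixGroups

universe u

variable {D : ChevalleyDatum} {k : Type u} [Field k]

theorem aeval_eq_eval_self {σ : Type*} (x : σ → k) (p : MvPolynomial σ k) :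
    MvPolynomial.aeval x p = MvPolynomial.eval x p := by
  rw [MvPolynomial.aeval_def, Algebra.algebraMap_self]
  rfl

variable (hF : Facts.{u} D)
include hF

omit hF in
/-- A point with given parameters. -/
def mkPt (t t' : ℕ → k) (c : Fin D.rank → kˣ) : Var D → k :=
  Sum.elim (fun a => t (half D + a)) (Sum.elim (fun j => (c j : k)) fun a => t' (half D + a))

omit hF in
theorem torusPt_mkPt (t t' : ℕ → k) (c : Fin D.rank → kˣ) : TorusPt D (mkPt t t' c) :=
  fun j => (c j).ne_zero

omit hF in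
theorem cUnit_mkPt (t t' : ℕ → k) (c : Fin D.rank → kˣ) : cUnit (mkPt t t' c) = c :=
  funext fun j => Units.ext (cUnit_val (torusPt_mkPt t t' c) j)

theorem uL_mkPt (t t' : ℕ → k) (c : Fin D.rank → kˣ) :
    uL hF (mkPt t t' c) = prodFrom hF (half D) t := by
  refine prodFrom_congr hF fun r h1 h2 => ?_
  have := hF.nroots_even
  rw [uPar, dif_pos (by omega)]
  show t (half D + (r - half D)) = t r
  congr 1; omega

theorem uR_mkPt (t t' : ℕ → k) (c : Fin D.rank → kˣ) :
    uR hF (mkPt t t' c) = prodFrom hF (half D) t' := by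
  refine prodFrom_congr hF fun r h1 h2 => ?_
  have := hF.nroots_even
  rw [uPar, dif_pos (by omega)]
  show t' (half D + (r - half D)) = t' r
  congr 1; omega

theorem uL_mem {K : Type u} [Field K] (y : Var D → K) : uL hF y ∈ D.posUnipotent K :=
  (mem_posUnipotent_iff hF).2 ⟨_, rfl⟩

theorem uR_mem {K : Type u} [Field K] (y : Var D → K) : uR hF y ∈ D.posUnipotent K :=
  (mem_posUnipotent_iff hF).2 ⟨_, rfl⟩

theorem conjEl_mem (w₀ : List (Fin D.rank)) {K : Type u} [Field K] (y : Var D → K) :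
    conjEl hF w₀ y ∈ D.group K :=
  Subgroup.mul_mem _ (Subgroup.mul_mem _ (borel_le_group hF (Subgroup.mem_sup_left (uL_mem hF y)))
    (monomial_le_group hF (nWord_mem hF w₀))) (borel_le_group hF
      (Subgroup.mem_sup_left (uR_mem hF y)))

theorem conjPt_mem (w₀ : List (Fin D.rank)) {K : Type u} [Field K] (y : Var D → K) :
    conjPt hF w₀ y ∈ D.group K :=
  Subgroup.mul_mem _ (Subgroup.mul_mem _ (conjEl_mem hF w₀ y)
    (borel_le_group hF (Subgroup.mem_sup_right (torusHom_mem hF _))))
    (Subgroup.inv_mem _ (conjEl_mem hF w₀ y))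

theorem posU_le_uMinus {w₀ : List (Fin D.rank)}
    (hw₀ : ∀ r : Fin D.nroots, ((pWord hF w₀ r : ℕ) < half D ↔ half D ≤ (r : ℕ)))
    {x : GL D.Idx k} (hx : x ∈ D.posUnipotent k) : x ∈ uMinus hF (pWord hF w₀) := by
  rw [posUnipotent_eq hF] at hx
  refine ((Subgroup.closure_le _).2 ?_ : Subgroup.closure (rootsFrom hF (half D) (F := k)) ≤
    uMinus hF (pWord hF w₀)) hx
  rintro g ⟨r, t, h1, h2, rfl⟩
  exact Subgroup.subset_closure ⟨⟨r, h2⟩, t, h1, (hw₀ ⟨r, h2⟩).2 h1, rfl⟩

/-- Uniqueness of the parameters in the big cell. -/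
theorem cell_unique {w₀ : List (Fin D.rank)}
    (hw₀ : ∀ r : Fin D.nroots, ((pWord hF w₀ r : ℕ) < half D ↔ half D ≤ (r : ℕ)))
    {v v' x x' : GL D.Idx k} {c c' : Fin D.rank → kˣ} (hv : v ∈ D.posUnipotent k)
    (hv' : v' ∈ D.posUnipotent k) (hx : x ∈ D.posUnipotent k) (hx' : x' ∈ D.posUnipotent k)
    (e : v * torusHom c * nWord hF w₀ * x = v' * torusHom c' * nWord hF w₀ * x') :
    v = v' ∧ (torusHom c : GL D.Idx k) = torusHom c' ∧ x = x' := by
  have hm : monPerm hF (nWord hF w₀ : GL D.Idx k) = pWord hF w₀ :=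
    monPerm_eq hF (isMon_nWord hF w₀)
  obtain ⟨hb, hxx⟩ := (normalForm_unique hF
    (Subgroup.mul_mem _ (Subgroup.mem_sup_left hv) (Subgroup.mem_sup_right (torusHom_mem hF c)))
    (Subgroup.mul_mem _ (Subgroup.mem_sup_left hv') (Subgroup.mem_sup_right (torusHom_mem hF c')))
    (nWord_mem hF w₀) (nWord_mem hF w₀) (by rw [hm]; exact posU_le_uMinus hF hw₀ hx)
    (by rw [hm]; exact posU_le_uMinus hF hw₀ hx') e).2 rfl
  obtain ⟨h1, h2⟩ := posUnipotent_torus_unique hF hv hv' hb
  exact ⟨h1, h2, hxx⟩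

theorem exists_cartan_ne_zero (r : Fin D.nroots) : ∃ j : Fin D.rank, D.cartan j (r : ℕ) ≠ 0 := by
  refine hF.root_induction (fun r => r < D.nroots → ∃ j : Fin D.rank, D.cartan j r ≠ 0)
    (fun i hi _ => ⟨⟨i, hi⟩, by rw [hF.cartan_self i hi]; norm_num⟩) (fun i hi s hs ih _ => ?_)
    r r.2 r.2
  by_contra h
  push Not at h
  obtain ⟨j, hj⟩ := ih hs
  have h1 := hF.cartan_refl i hi _ (hF.refl_lt i hi s hs) j j.2
  rw [hF.refl_refl i hi s hs, h j, h ⟨i, hi⟩] at h1
  exact hj (by simpa using h1)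

variable [IsAlgClosed k]

theorem exists_regular : ∃ y : Var D → k, TorusPt D y ∧ regFn y ≠ 0 := by
  classical
  have hfac : ∀ r : Fin D.nroots, ∃ f : MvPolynomial (Var D) k, f ≠ 0 ∧ ∀ y : Var D → k,
      TorusPt D y → ((((chiU (cUnit y) (r : ℕ) : kˣ) : k) - 1 = 0) ↔
        MvPolynomial.aeval y f = 0) := by
    intro r
    obtain ⟨f, hf⟩ := (((good_chiU (k := k) (r : ℕ) 1).add (good_const (-1 : k))).congr
      (ψ := fun K _ _ y => (((chiU (cUnit y) (r : ℕ) : Kˣ) : K) - 1))
      fun K _ _ y _ => by simp [sub_eq_add_neg]).exists_poly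
    refine ⟨f, fun h0 => ?_, fun y hy => hf k y hy⟩
    obtain ⟨j, hj⟩ := exists_cartan_ne_zero hF r
    set a := (D.cartan j (r : ℕ)).natAbs with ha
    have ha0 : 0 < a := Int.natAbs_pos.2 hj
    obtain ⟨t, ht⟩ := Infinite.exists_notMem_finset
      (insert (0 : k) (Polynomial.X ^ a - Polynomial.C (1 : k)).roots.toFinset)
    simp only [Finset.mem_insert, Multiset.mem_toFinset, not_or] at ht
    let c : Fin D.rank → kˣ := Pi.mulSingle j (Units.mk0 t ht.1)
    have := (hf k (mkPt (fun _ => 0) (fun _ => 0) c) (torusPt_mkPt _ _ _)).2 (by rw [h0, map_zero])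
    rw [cUnit_mkPt, sub_eq_zero, chiU_mulSingle', Units.val_eq_one] at this
    refine ht.2 ((Polynomial.mem_roots (Polynomial.X_pow_sub_C_ne_zero ha0 _)).2 ?_)
    simp only [Polynomial.IsRoot.def, Polynomial.eval_sub, Polynomial.eval_pow, Polynomial.eval_X,
      Polynomial.eval_C, sub_eq_zero]
    have h2 : (Units.mk0 t ht.1 : kˣ) ^ a = 1 := pow_natAbs_eq_one.2 this
    simpa using congrArg Units.val h2
  choose f hf hfs using hfac
  by_contra hne
  push Not at hne
  have hzero : (∏ r, f r) * den k D = 0 := by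
    refine MvPolynomial.funext fun y => ?_
    rw [map_zero, map_mul, ← aeval_eq_eval_self y (den k D)]
    by_cases hy : TorusPt D y
    · obtain ⟨r, -, hr⟩ := Finset.prod_eq_zero_iff.1 (hne y hy)
      rw [map_prod, Finset.prod_eq_zero (Finset.mem_univ r), zero_mul]
      rw [← aeval_eq_eval_self]
      exact (hfs r y hy).1 hr
    · simp only [TorusPt, not_forall, not_not] at hy
      obtain ⟨j, hj⟩ := hy
      rw [aeval_den, Finset.prod_eq_zero (Finset.mem_univ j) hj, mul_zero]
  rcases mul_eq_zero.1 hzero with h | h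
  · obtain ⟨r, -, hr⟩ := Finset.prod_eq_zero_iff.1 h
    exact hf r hr
  · exact den_ne_zero h

/-- A Laurent polynomial vanishing at the regular points vanishes identically. -/
theorem good_eq_zero {φ : PFn k D} (hφ : Good k D φ)
    (h : ∀ y : Var D → k, TorusPt D y → regFn y ≠ 0 → φ k y = 0) :
    ∀ (K : Type u) [Field K] [Algebra k K] (y : Var D → K), TorusPt D y → φ K y = 0 := by
  obtain ⟨f, hf⟩ := hφ.exists_poly
  obtain ⟨g, hg⟩ := (good_regFn (k := k) (D := D)).exists_poly
  have hz : f * g * den k D = 0 := by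
    refine MvPolynomial.funext fun y => ?_
    rw [map_zero, ← aeval_eq_eval_self, map_mul, map_mul]
    by_cases hy : TorusPt D y
    · by_cases hr : regFn y = 0
      · rw [(hg k y hy).1 hr, mul_zero, zero_mul]
      · rw [(hf k y hy).1 (h y hy hr), zero_mul, zero_mul]
    · simp only [TorusPt, not_forall, not_not] at hy
      obtain ⟨j, hj⟩ := hy
      rw [aeval_den, Finset.prod_eq_zero (Finset.mem_univ j) hj, mul_zero]
  have hg0 : g ≠ 0 := fun h0 => by
    obtain ⟨y, hy, hr⟩ := exists_regular hF (k := k)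
    exact hr ((hg k y hy).2 (by rw [h0, map_zero]))
  have hf0 : f = 0 := (mul_eq_zero.1 ((mul_eq_zero.1 hz).resolve_right den_ne_zero)).resolve_right hg0
  intro K _ _ y hy
  exact (hf K y hy).2 (by rw [hf0, map_zero])

omit [IsAlgClosed k] in
theorem regFn_ne_zero_iff {y : Var D → k} :
    regFn y ≠ 0 ↔ ∀ r : Fin D.nroots, chiU (cUnit y) (r : ℕ) ≠ 1 := by
  simp [regFn, Finset.prod_ne_zero_iff, sub_ne_zero]

omit [IsAlgClosed k] in
theorem minor_mul_tri {b : GL D.Idx k} (hb : b ∈ D.borelSubgroup k)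
    (A : Matrix D.Idx D.Idx k) :
    minor hF (A * (b : Matrix D.Idx D.Idx k)) = minor hF A *
      ((b : Matrix D.Idx D.Idx k).submatrix (posIdx' hF.nroots_even)
        (posIdx' hF.nroots_even)).det := by
  rw [minor, minor, ← Matrix.det_mul]
  congr 1
  ext a a'
  simp only [Matrix.submatrix_apply, Matrix.mul_apply]
  refine (Finset.sum_of_injOn (posIdx' hF.nroots_even) ?_ (fun y _ => Finset.mem_univ _)
    (fun c _ hc => ?_) fun y _ => rfl).symm
  · intro y _ z _ e
    simp only [posIdx', Sum.inr.injEq, Fin.mk.injEq] at e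
    exact Fin.ext (by omega)
  · have hc' : pos D c < pos D (posIdx' hF.nroots_even a') := by
      have := a'.2
      rcases c with j | u
      · have := j.2; simp only [pos, posIdx']; rw [if_neg (by omega)]; omega
      · by_cases hu : (u : ℕ) < half D
        · simp only [pos, posIdx', if_pos hu]; rw [if_neg (by omega)]; omega
        · exfalso
          refine hc ⟨⟨(u : ℕ) - half D, by have := u.2; have := hF.nroots_even; omega⟩,
            Finset.mem_univ _, ?_⟩
          simp only [posIdx', Sum.inr.injEq]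
          ext
          simp only
          omega
    rw [(borel_le_tri hF hb).1 c _ hc', mul_zero]

omit [IsAlgClosed k] in
theorem minor_nWord_ne_zero {w₀ : List (Fin D.rank)}
    (hw₀ : ∀ r : Fin D.nroots, ((pWord hF w₀ r : ℕ) < half D ↔ half D ≤ (r : ℕ))) :
    minor hF ((nWord hF w₀ : GL D.Idx k) : Matrix D.Idx D.Idx k) ≠ 0 := by
  have hE := hF.nroots_even
  set N : GL D.Idx k := nWord hF w₀
  have hinv : ((N⁻¹ : GL D.Idx k) : Matrix D.Idx D.Idx k).submatrix (posIdx' hE) (negIdx' hE) *
      (N : Matrix D.Idx D.Idx k).submatrix (negIdx' hE) (posIdx' hE) = 1 := by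
    ext a a'
    simp only [Matrix.mul_apply, Matrix.submatrix_apply]
    have h1 : ((N⁻¹ : GL D.Idx k) : Matrix D.Idx D.Idx k) * (N : Matrix D.Idx D.Idx k) = 1 := by
      rw [← Units.val_mul, inv_mul_cancel, Units.val_one]
    have h2 := congrFun (congrFun h1 (posIdx' hE a)) (posIdx' hE a')
    rw [Matrix.mul_apply] at h2
    refine ((Finset.sum_of_injOn (negIdx' hE) ?_ (fun y _ => Finset.mem_univ _)
      (fun c _ hc => ?_) fun y _ => rfl).trans h2).trans ?_
    · intro y _ z _ e
      simp only [negIdx', Sum.inr.injEq, Fin.mk.injEq] at e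
      exact Fin.ext e
    · set s : Fin D.nroots := ⟨half D + a', by have := a'.2; omega⟩ with hs
      have hπ : (pWord hF w₀ s : ℕ) < half D := (hw₀ s).2 (Nat.le_add_right _ _)
      rw [show posIdx' hE a' = Sum.inr s from rfl,
        nWord_entry hF w₀ s c (fun e => hc ⟨⟨_, hπ⟩, Finset.mem_univ _, e.symm⟩), mul_zero]
    · rw [Matrix.one_apply, Matrix.one_apply]
      simp [posIdx', Fin.ext_iff]
  intro h
  have := congrArg Matrix.det hinv
  rw [Matrix.det_mul, Matrix.det_one, show ((N : Matrix D.Idx D.Idx k).submatrix (negIdx' hE)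
    (posIdx' hE)).det = 0 from h, mul_zero] at this
  exact zero_ne_one this

/-- Some conjugate of a torus element lies in the big cell. -/
theorem exists_minor_conjPt {w₀ : List (Fin D.rank)}
    (hw₀ : ∀ r : Fin D.nroots, ((pWord hF w₀ r : ℕ) < half D ↔ half D ≤ (r : ℕ))) :
    ∃ y : Var D → k, TorusPt D y ∧
      minor hF (conjPt hF w₀ y : Matrix D.Idx D.Idx k) ≠ 0 := by
  by_contra hne
  push Not at hne
  haveI : Infinite k := inferInstance
  obtain ⟨P, hP⟩ := exists_minor_poly hF (F := k)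
  set n₀ : GL D.Idx k := nWord hF w₀ with hn₀
  -- conjugates by all elements
  have step1 : ∀ (c : Fin D.rank → kˣ) (x : GL D.Idx k), x ∈ D.group k →
      minor hF ((x * torusHom c * x⁻¹ : GL D.Idx k) : Matrix D.Idx D.Idx k) = 0 := by
    intro c x hx
    rw [← hP]
    refine eq_zero_of_cell hF hw₀
      (φ := fun z => MvPolynomial.eval
        (ent ((z * torusHom c * z⁻¹ : GL D.Idx k) : Matrix D.Idx D.Idx k)) P) ?_ ?_ hx
    · have h := polyLine_comp hF (polyLineMat_mul hF (polyLineMat_mul hF (polyLineMat_id hF)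
        (polyLineMat_const hF ((torusHom c : GL D.Idx k) : Matrix D.Idx D.Idx k)))
        (polyLineMat_inv hF)) P
      simpa [Units.val_mul] using h
    · intro b hb z hz
      obtain ⟨v, hv, d, rfl⟩ := (mem_borel_iff hF).1 hb
      obtain ⟨d', hd'⟩ := torus_nWord hF w₀ d (F := k)
      have hz' : torusHom d' * z * (torusHom d')⁻¹ ∈ D.posUnipotent k :=
        (Subgroup.mem_normalizer_iff.1 (torusHom_mem_normalizer hF d') z).1 hz
      obtain ⟨t, ht⟩ := (mem_posUnipotent_iff hF).1 hv
      obtain ⟨t', ht'⟩ := (mem_posUnipotent_iff hF).1 hz'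
      show MvPolynomial.eval _ P = 0
      rw [hP]
      have e : v * torusHom d * n₀ * z * torusHom c * (v * torusHom d * n₀ * z)⁻¹ =
          conjPt hF w₀ (mkPt t t' c) := by
        rw [conjPt, conjEl, uL_mkPt, uR_mkPt, cUnit_mkPt, ← ht, ← ht',
          show v * torusHom d * n₀ * z =
            v * n₀ * (torusHom d' * z * (torusHom d')⁻¹) * torusHom d' by
            rw [mul_assoc v, hd', ← hn₀]; group]
        calc _ = v * n₀ * (torusHom d' * z * (torusHom d')⁻¹) *
              (torusHom d' * torusHom c * (torusHom d')⁻¹) *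
              (v * n₀ * (torusHom d' * z * (torusHom d')⁻¹))⁻¹ := by group
          _ = _ := by rw [← map_mul, mul_comm d' c, map_mul, mul_inv_cancel_right]
      rw [e]
      exact hne _ (torusPt_mkPt t t' c)
  -- conjugates of the elements `u τ`
  have step2 : ∀ (u : GL D.Idx k), u ∈ D.posUnipotent k →
      minor hF ((n₀ * u * n₀⁻¹ : GL D.Idx k) : Matrix D.Idx D.Idx k) = 0 := by
    intro u hu
    obtain ⟨t, rfl⟩ := (mem_posUnipotent_iff hF).1 hu
    let Φ : GFn k D := fun K _ _ y =>
      nWord hF w₀ * prodFrom hF (half D) (fun r => algebraMap k K (t r)) * torusHom (cUnit y) *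
        (nWord hF w₀)⁻¹
    have hΦ : GoodG k D Φ := (((goodG_nWord hF w₀).mul (goodG_prodFrom hF
      (t := fun r K _ _ _ => algebraMap k K (t r)) (fun r => good_const (t r)) _)).mul
        goodG_torus).mul (goodG_nWord hF w₀).inv
    have h0 := good_eq_zero hF (good_eval hΦ P) (fun y hy hr => ?_) k
      (mkPt (fun _ => 0) (fun _ => 0) 1) (torusPt_mkPt _ _ _)
    · rw [aeval_eq_eval_self, hP] at h0
      simpa [Φ, cUnit_mkPt] using h0
    · show MvPolynomial.aeval _ P = 0
      rw [aeval_eq_eval_self, hP]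
      have hv : prodFrom hF (half D) t ∈ Subgroup.closure (rootsFrom hF (half D) (F := k)) :=
        prodFrom_mem hF _ _
      obtain ⟨z, hz, e⟩ := exists_conj_eq_torus hF (n := 0) (cUnit y) _ _ rfl le_rfl _ hv
        (Or.inr (regFn_ne_zero_iff hF |>.1 hr))
      have e2 : Φ k y = (n₀ * z⁻¹) * torusHom (cUnit y) * (n₀ * z⁻¹)⁻¹ := by
        simp only [Φ, Algebra.algebraMap_self, RingHom.id_apply]
        nth_rw 2 [← e]
        rw [hn₀]
        group
      rw [e2]
      exact step1 _ _ (Subgroup.mul_mem _ (monomial_le_group hF (nWord_mem hF w₀))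
        (Subgroup.inv_mem _ (borel_le_group hF (Subgroup.mem_sup_left hz))))
  -- the minor vanishes on the group
  have step3 := eq_zero_of_cell hF hw₀
    (φ := fun z => MvPolynomial.eval (ent ((n₀ * z : GL D.Idx k) : Matrix D.Idx D.Idx k)) P)
    (by
      have h := polyLine_comp hF (polyLineMat_mul hF
        (polyLineMat_const hF (n₀ : Matrix D.Idx D.Idx k)) (polyLineMat_id hF)) P
      simpa [Units.val_mul] using h)
    (fun b hb z hz => ?_) (Subgroup.one_mem (D.group k))
  · rw [mul_one, hP] at step3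
    exact minor_nWord_ne_zero hF hw₀ step3
  obtain ⟨v, hv, d, rfl⟩ := (mem_borel_iff hF).1 hb
  obtain ⟨d', hd'⟩ := torus_nWord hF w₀ d (F := k)
  show MvPolynomial.eval _ P = 0
  rw [hP]
  have hnn : n₀ * n₀ ∈ D.diagonalSubgroup k := by
    refine mem_diagonal_of_isMon_one hF (Subgroup.mul_mem _ (nWord_mem hF w₀) (nWord_mem hF w₀)) ?_
    have h1 : pWord hF w₀ * pWord hF w₀ = 1 := by
      refine eq_one_of_pos hF (Subgroup.mul_mem _ (pWord_mem hF _) (pWord_mem hF _)) fun i => ?_
      rw [Equiv.Perm.mul_apply]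
      by_contra h
      have h2 := (hw₀ _).1 (not_le.1 h)
      have h3 := (hw₀ (sRoot hF i)).2 (hF.simple_pos i i.2)
      omega
    rw [← h1]
    exact isMon_mul hF (isMon_nWord hF w₀) (isMon_nWord hF w₀)
  rw [show n₀ * (v * torusHom d * n₀ * z) =
    (n₀ * v * n₀⁻¹) * (n₀ * n₀ * torusHom d' * z) by rw [mul_assoc v, hd', ← hn₀]; group, Units.val_mul,
    minor_mul_tri hF (Subgroup.mul_mem _ (Subgroup.mul_mem _ (Subgroup.mem_sup_right hnn)
      (Subgroup.mem_sup_right (torusHom_mem hF _))) (Subgroup.mem_sup_left hz)), step2 v hv,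
    zero_mul]

/-- A polynomial vanishing at the conjugates of torus elements vanishes on the group. -/
theorem eval_eq_zero_of_conjPt (p₀ : ℕ) [Fact p₀.Prime] [CharP k p₀] {w₀ : List (Fin D.rank)}
    (hw₀ : ∀ r : Fin D.nroots, ((pWord hF w₀ r : ℕ) < half D ↔ half D ≤ (r : ℕ)))
    {e : ℕ} (he : 0 < e)
    (hker : ∀ c : Fin D.rank → kˣ, (torusHom c : GL D.Idx k) = 1 → ∀ j, c j ^ e = 1)
    {p : MvPolynomial (D.Idx × D.Idx) k}
    (hp : ∀ y : Var D → k, TorusPt D y →
      MvPolynomial.eval (ent (conjPt hF w₀ y : Matrix D.Idx D.Idx k)) p = 0)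
    {g : GL D.Idx k} (hg : g ∈ D.group k) :
    MvPolynomial.eval (ent (g : Matrix D.Idx D.Idx k)) p = 0 := by
  classical
  by_contra hne
  -- the polynomial on the big cell
  obtain ⟨fC, hfC⟩ := (good_eval (goodG_bigPt hF w₀) p).exists_poly
  have hfC0 : fC ≠ 0 := fun h0 => hne (eq_zero_of_cell hF hw₀
    (polyLine_comp hF (polyLineMat_id hF) p) (fun b hb z hz => by
      obtain ⟨v, hv, c, rfl⟩ := (mem_borel_iff hF).1 hb
      obtain ⟨t, rfl⟩ := (mem_posUnipotent_iff hF).1 hv
      obtain ⟨t', rfl⟩ := (mem_posUnipotent_iff hF).1 hz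
      have h := (hfC k (mkPt t t' c) (torusPt_mkPt t t' c)).2 (by rw [h0, map_zero])
      rw [aeval_eq_eval_self, bigPt, uL_mkPt, uR_mkPt, cUnit_mkPt] at h
      exact h) hg)
  obtain ⟨P, hP⟩ := exists_minor_poly hF (F := k)
  obtain ⟨fM, hfM⟩ := (good_eval (goodG_conjPt hF w₀) P).exists_poly
  have hfM0 : fM ≠ 0 := fun h0 => by
    obtain ⟨y, hy, hm⟩ := exists_minor_conjPt hF hw₀ (k := k)
    apply hm
    have h := (hfM k y hy).2 (by rw [h0, map_zero])
    rwa [aeval_eq_eval_self, hP] at h
  obtain ⟨fR, hfR⟩ := (good_regFn (k := k) (D := D)).exists_poly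
  have hfR0 : fR ≠ 0 := fun h0 => by
    obtain ⟨y, hy, hr⟩ := exists_regular hF (k := k)
    exact hr ((hfR k y hy).2 (by rw [h0, map_zero]))
  set bad := fM * fR * den k D with hbad
  have hbad0 : bad ≠ 0 := mul_ne_zero (mul_ne_zero hfM0 hfR0) den_ne_zero
  -- the constants
  set roots1 : Finset k := (Polynomial.X ^ e - Polynomial.C (1 : k)).roots.toFinset with hroots1
  set Mult := Fintype.card (Equiv.Perm (Fin D.nroots) × (Fin D.rank → {z : k // z ∈ roots1}))
    with hMult
  set n := Fintype.card (Var D) with hn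
  have hn0 : 0 < n := Fintype.card_pos_iff.2 ⟨Sum.inr (Sum.inl ⟨0, hF.rank_pos⟩)⟩
  set C := Mult * fC.totalDegree * e ^ (n - 1) + bad.totalDegree with hC
  set m := C + 1 with hm
  set Q := p₀ ^ m with hQ
  have hCQ : C < Q := lt_trans (Nat.lt_succ_self C) (Nat.lt_pow_self (Fact.out : p₀.Prime).one_lt)
  have hQ0 : 0 < Q := by omega
  -- the finite field
  set σ : k →+* k := iterateFrobenius k p₀ m with hσdef
  have hσ : ∀ z, σ z = z ^ Q := fun z => by rw [hσdef, iterateFrobenius_def]
  set S0 : Finset k := (Polynomial.X ^ Q - Polynomial.X : Polynomial k).roots.toFinset with hS0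
  have hQ1 : 1 < Q := Nat.one_lt_pow (by omega) (Fact.out : p₀.Prime).one_lt
  have hX0 : (Polynomial.X ^ Q - Polynomial.X : Polynomial k) ≠ 0 :=
    FiniteField.X_pow_card_sub_X_ne_zero k hQ1
  have hS0mem : ∀ z, z ∈ S0 ↔ z ^ Q = z := fun z => by
    rw [hS0, Multiset.mem_toFinset, Polynomial.mem_roots hX0]
    simp [sub_eq_zero]
  have hS0card : S0.card = Q := by
    have hsep : (Polynomial.X ^ Q - Polynomial.X : Polynomial k).Separable := by
      rw [Polynomial.separable_def, Polynomial.derivative_sub, Polynomial.derivative_X_pow,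
        Polynomial.derivative_X, show ((Q : ℕ) : k) = 0 from by
          rw [hQ, Nat.cast_pow, CharP.cast_eq_zero, zero_pow (by omega)], map_zero, zero_mul,
        zero_sub]
      exact isCoprime_one_right.neg_right
    rw [hS0, Multiset.toFinset_card_of_nodup (Polynomial.nodup_roots hsep),
      IsAlgClosed.card_roots_eq_natDegree, FiniteField.X_pow_card_sub_X_natDegree_eq k hQ1]
  set S1 : Finset k := S0.biUnion fun a => (Polynomial.X ^ e - Polynomial.C a).roots.toFinset
    with hS1
  have hS1mem : ∀ z, z ^ e ∈ S0 → z ∈ S1 := fun z hz => Finset.mem_biUnion.2 ⟨_, hz, by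
    rw [Multiset.mem_toFinset, Polynomial.mem_roots (Polynomial.X_pow_sub_C_ne_zero he _)]
    simp⟩
  have hS1card : S1.card ≤ Q * e := by
    refine Finset.card_biUnion_le_card_mul _ _ e (fun a _ => ?_) |>.trans ?_
    · exact (Multiset.toFinset_card_le _).trans ((Polynomial.card_roots' _).trans
        (Polynomial.natDegree_X_pow_sub_C).le)
    · rw [hS0card]
  have hS1pos : 0 < S1.card := Finset.card_pos.2 ⟨0, hS1mem 0 (by
    rw [zero_pow he.ne', hS0mem, zero_pow (by omega)])⟩
  have hS0S1 : ∀ z, z ∈ S0 → z ∈ S1 := fun z hz => hS1mem z (by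
    rw [hS0mem] at hz ⊢; rw [← pow_mul, mul_comm, pow_mul, hz])
  -- the parameters
  set P0 := (Fintype.piFinset fun _ : Var D => S0).filter
    fun y => ¬ MvPolynomial.eval y bad = 0 with hP0
  have hP0prop : ∀ y ∈ P0, TorusPt D y ∧ regFn y ≠ 0 ∧
      minor hF (conjPt hF w₀ y : Matrix D.Idx D.Idx k) ≠ 0 ∧ ∀ v, σ (y v) = y v := by
    intro y hy
    obtain ⟨hyS, hyb⟩ := Finset.mem_filter.1 hy
    rw [hbad, map_mul, map_mul, ← aeval_eq_eval_self, ← aeval_eq_eval_self,
      ← aeval_eq_eval_self, mul_eq_zero, mul_eq_zero, not_or, not_or] at hyb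
    have hT : TorusPt D y := fun j hj => hyb.2 (by
      rw [aeval_den, Finset.prod_eq_zero (Finset.mem_univ j) hj])
    refine ⟨hT, fun h => hyb.1.2 ((hfR k y hT).1 h), fun h => hyb.1.1 ((hfM k y hT).1 ?_),
      fun v => ?_⟩
    · rw [aeval_eq_eval_self, hP, h]
    · rw [hσ]; exact (hS0mem _).1 (Fintype.mem_piFinset.1 hyS v)
  have hcount0 : Q ^ n ≤ P0.card + bad.totalDegree * Q ^ (n - 1) := by
    have h1 := Finset.card_filter_add_card_filter_not
      (s := Fintype.piFinset fun _ : Var D => S0) (fun y => MvPolynomial.eval y bad = 0)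
    rw [Fintype.card_piFinset, Finset.prod_const, Finset.card_univ, hS0card] at h1
    have h2 := card_zeros_mul_le hbad0 S0
    rw [hS0card, ← hn] at h2
    have h3 : ((Fintype.piFinset fun _ : Var D => S0).filter
        fun y => MvPolynomial.eval y bad = 0).card ≤ bad.totalDegree * Q ^ (n - 1) := by
      refine Nat.le_of_mul_le_mul_right ?_ hQ0
      rwa [mul_assoc, ← pow_succ, Nat.sub_add_cancel hn0]
    rw [hP0, ← hn] at *
    omega
  -- the images
  have himg : ∀ g ∈ P0.image (fun y => conjPt hF w₀ y), ∃ y' ∈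
      ((Fintype.piFinset fun _ : Var D => S1).filter fun y' => MvPolynomial.eval y' fC = 0),
      bigPt hF w₀ y' = g := by
    intro g hg
    obtain ⟨y, hy, rfl⟩ := Finset.mem_image.1 hg
    obtain ⟨hyT, -, hym, hyσ⟩ := hP0prop y hy
    set g := conjPt hF w₀ y with hgdef
    have hgG : g ∈ D.group k := conjPt_mem hF w₀ y
    obtain ⟨b, hb, x, hx, he'⟩ := mem_cell_of_minor hF hw₀ hgG hym
    obtain ⟨v, hv, c, rfl⟩ := (mem_borel_iff hF).1 hb
    have hfix : gmap D σ g = g := by
      have hu : ∀ sel, gmap D σ (prodFrom hF (half D) (uPar sel y)) =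
          prodFrom hF (half D) (uPar sel y) := fun sel => by
        rw [gmap_prodFrom hF hF]
        refine prodFrom_congr hF fun r _ _ => ?_
        rw [uPar]
        split
        · exact hyσ _
        · exact map_zero σ
      have hc : gmap D σ (torusHom (cUnit y)) = torusHom (cUnit y) := by
        rw [gmap_torusHom]
        refine congrArg _ (funext fun j => Units.ext ?_)
        show σ (cUnit y j : k) = _
        rw [cUnit_val hyT, hyσ]
      have hel : gmap D σ (conjEl hF w₀ y) = conjEl hF w₀ y := by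
        rw [conjEl, map_mul, map_mul, uL, uR, hu, hu, gmap_nWord hF hF]
      rw [hgdef, conjPt, map_mul, map_mul, map_inv, hel, hc]
    have hfix' := hfix
    rw [he', map_mul, map_mul, map_mul, gmap_torusHom, gmap_nWord hF hF] at hfix'
    obtain ⟨hv', hc', hx'⟩ := cell_unique hF hw₀ (gmap_posUnipotent hF σ hv) hv
      (gmap_posUnipotent hF σ hx) hx hfix'
    obtain ⟨t, rfl⟩ := (mem_posUnipotent_iff hF).1 hv
    obtain ⟨t', rfl⟩ := (mem_posUnipotent_iff hF).1 hx
    rw [gmap_prodFrom hF hF] at hv' hx'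
    have hts := prodFrom_inj hF _ _ rfl le_rfl hv'
    have hts' := prodFrom_inj hF _ _ rfl le_rfl hx'
    have hcs : ∀ j, (c j : k) ∈ S1 := fun j => by
      apply hS1mem
      rw [hS0mem]
      have h1 : torusHom ((fun i => Units.map σ.toMonoidHom (c i)) * c⁻¹) = (1 : GL D.Idx k) := by
        rw [map_mul, map_inv, hc', mul_inv_cancel]
      have h2 := hker _ h1 j
      rw [Pi.mul_apply, Pi.inv_apply, mul_pow, inv_pow, mul_inv_eq_one, ← map_pow] at h2
      have h3 := congrArg Units.val h2
      rw [Units.coe_map, Units.val_pow_eq_pow_val] at h3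
      simpa [hσ] using h3
    have hb' : bigPt hF w₀ (mkPt t t' c) = g := by
      rw [bigPt, uL_mkPt, uR_mkPt, cUnit_mkPt, he']
    refine ⟨mkPt t t' c, Finset.mem_filter.2 ⟨Fintype.mem_piFinset.2 ?_, ?_⟩, hb'⟩
    · rintro (a | j | a)
      · apply hS0S1
        rw [hS0mem, ← hσ]
        exact hts _ (Nat.le_add_right _ _) (by have := a.2; have := hF.nroots_even; omega)
      · exact hcs j
      · apply hS0S1
        rw [hS0mem, ← hσ]
        exact hts' _ (Nat.le_add_right _ _) (by have := a.2; have := hF.nroots_even; omega)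
    · rw [← aeval_eq_eval_self, ← hfC k _ (torusPt_mkPt t t' c), aeval_eq_eval_self, hb']
      exact hp y hyT
  have hcount1 : (P0.image fun y => conjPt hF w₀ y).card * S1.card ≤
      fC.totalDegree * S1.card ^ n := by
    refine le_trans (Nat.mul_le_mul_right _ ?_) (card_zeros_mul_le hfC0 S1)
    choose! Y hY1 hY2 using himg
    refine Finset.card_le_card_of_injOn Y (fun g hg => hY1 g hg) fun g hg g' hg' e => ?_
    rw [← hY2 g hg, ← hY2 g' hg', e]
  -- the fibres
  have hfib : ∀ g ∈ P0.image (fun y => conjPt hF w₀ y),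
      (P0.filter fun y => conjPt hF w₀ y = g).card ≤ Mult := by
    intro g hg
    obtain ⟨y₀, hy₀, hy₀g⟩ := Finset.mem_image.1 hg
    obtain ⟨hT₀, hR₀, -, -⟩ := hP0prop y₀ hy₀
    set F' := P0.filter fun y => conjPt hF w₀ y = g with hF'
    have hdec : ∀ y ∈ F', ∃ (w : List (Fin D.rank)) (d : Fin D.rank → kˣ),
        (conjEl hF w₀ y₀)⁻¹ * conjEl hF w₀ y = torusHom d * nWord hF w ∧
        ∀ r : Fin D.nroots,
          chiU (cUnit y₀) (pWord hF w r : ℕ) = chiU (cUnit y) (r : ℕ) := by
      intro y hy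
      obtain ⟨hy0, hyg⟩ := Finset.mem_filter.1 hy
      obtain ⟨hT, hR, -, -⟩ := hP0prop y hy0
      have heq : torusHom (cUnit y₀) * ((conjEl hF w₀ y₀)⁻¹ * conjEl hF w₀ y) =
          ((conjEl hF w₀ y₀)⁻¹ * conjEl hF w₀ y) * torusHom (cUnit y) := by
        have h : conjPt hF w₀ y₀ = conjPt hF w₀ y := hy₀g.trans hyg.symm
        rw [conjPt, conjPt] at h
        calc torusHom (cUnit y₀) * ((conjEl hF w₀ y₀)⁻¹ * conjEl hF w₀ y)
            = (conjEl hF w₀ y₀)⁻¹ * (conjEl hF w₀ y₀ * torusHom (cUnit y₀) *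
                (conjEl hF w₀ y₀)⁻¹) * conjEl hF w₀ y := by group
          _ = _ := by rw [h]; group
      obtain ⟨l₁, hl₁, l₂, hl₂, d, w, e', hw⟩ := exists_decomp hF (Subgroup.mul_mem _
        (Subgroup.inv_mem _ (conjEl_mem hF w₀ y₀)) (conjEl_mem hF w₀ y)) heq
      rw [centRoots_eq_bot hF ((regFn_ne_zero_iff hF).1 hR₀), Subgroup.mem_bot] at hl₁
      rw [centRoots_eq_bot hF ((regFn_ne_zero_iff hF).1 hR), Subgroup.mem_bot] at hl₂
      exact ⟨w, d, by rw [e', hl₁, hl₂, one_mul, mul_one], hw⟩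
    choose! W d hel hchi using hdec
    let ref : Equiv.Perm (Fin D.nroots) → Fin D.rank → kˣ := fun π =>
      if h : ∃ y ∈ F', pWord hF (W y) = π then cUnit h.choose else 1
    have hz : ∀ y ∈ F', ∀ j,
        ((cUnit y j * (ref (pWord hF (W y)) j)⁻¹ : kˣ) : k) ∈ roots1 := by
      intro y hy j
      have hex : ∃ z ∈ F', pWord hF (W z) = pWord hF (W y) := ⟨y, hy, rfl⟩
      simp only [ref, dif_pos hex]
      obtain ⟨hz1, hz2⟩ := hex.choose_spec
      set z := hex.choose
      have h1 : torusHom (cUnit y * (cUnit z)⁻¹) = (1 : GL D.Idx k) := by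
        rw [map_mul, map_inv, mul_inv_eq_one]
        refine torusHom_eq_of_chiU_eq fun r => ?_
        rw [← hchi y hy r, ← hz2, hchi z hz1 r]
      have h2 := congrArg Units.val (hker _ h1 j)
      rw [hroots1, Multiset.mem_toFinset,
        Polynomial.mem_roots (Polynomial.X_pow_sub_C_ne_zero he _)]
      simp only [Units.val_pow_eq_pow_val, Pi.mul_apply, Pi.inv_apply, Units.val_one] at h2
      simpa [sub_eq_zero] using h2
    let G : {y // y ∈ F'} → Equiv.Perm (Fin D.nroots) × (Fin D.rank → {z : k // z ∈ roots1}) :=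
      fun y => (pWord hF (W y.1), fun j => ⟨_, hz y.1 y.2 j⟩)
    have hG : Function.Injective G := by
      rintro ⟨y, hy⟩ ⟨y', hy'⟩ hG
      apply Subtype.ext
      simp only [G, Prod.mk.injEq] at hG
      obtain ⟨hπ, hc⟩ := hG
      obtain ⟨hT, -, -, -⟩ := hP0prop y (Finset.mem_filter.1 hy).1
      obtain ⟨hT', -, -, -⟩ := hP0prop y' (Finset.mem_filter.1 hy').1
      have hcc : cUnit y = cUnit y' := funext fun j => by
        have := congrArg Subtype.val (congrFun hc j)
        simp only [hπ] at this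
        exact mul_right_cancel (Units.ext this)
      have hnd : (nWord hF (W y) : GL D.Idx k)⁻¹ * (torusHom (d y))⁻¹ * torusHom (d y') *
          nWord hF (W y') ∈ D.diagonalSubgroup k := by
        refine mem_diagonal_of_isMon_one hF ?_ ?_
        · exact Subgroup.mul_mem _ (Subgroup.mul_mem _ (Subgroup.mul_mem _
            (Subgroup.inv_mem _ (nWord_mem hF _))
            (Subgroup.inv_mem _ (Subgroup.mem_sup_left (torusHom_mem hF _))))
            (Subgroup.mem_sup_left (torusHom_mem hF _))) (nWord_mem hF _)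
        · have h1 : IsMon hF ((nWord hF (W y) : GL D.Idx k))⁻¹ (pWord hF (W y))⁻¹ := by
            have h := isMon_monPerm hF (Subgroup.inv_mem _ (nWord_mem hF (W y) (F := k)))
            have h2 := isMon_mul hF (isMon_nWord hF (W y)) h
            rw [mul_inv_cancel] at h2
            have := isMon_unique hF h2 (isMon_one hF)
            rwa [eq_inv_of_mul_eq_one_right this] at h
          have h2 := isMon_mul hF (isMon_mul hF (isMon_mul hF h1 (isMon_torus hF (d y)⁻¹))
            (isMon_torus hF (d y'))) (isMon_nWord hF (W y') (F := k))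
          rw [hπ, mul_one, mul_one, inv_mul_cancel, map_inv] at h2
          exact h2
      obtain ⟨τ, hτ⟩ := (mem_diagonal_iff hF).1 hnd
      have hxx : conjEl hF w₀ y' = conjEl hF w₀ y * torusHom τ := by
        have e1 := hel y hy
        have e2 := hel y' hy'
        rw [hτ, ← mul_inv_cancel_left (conjEl hF w₀ y₀) (conjEl hF w₀ y), e1,
          ← mul_inv_cancel_left (conjEl hF w₀ y₀) (conjEl hF w₀ y'), e2]
        group
      obtain ⟨τ', hτ'⟩ := nWord_torus hF w₀ τ (F := k)
      have hmem : (torusHom τ)⁻¹ * uR hF y * torusHom τ ∈ D.posUnipotent k := by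
        have := (Subgroup.mem_normalizer_iff.1 (torusHom_mem_normalizer hF τ⁻¹) _).1 (uR_mem hF y)
        rwa [map_inv, inv_inv] at this
      obtain ⟨h1, h2, h3⟩ := cell_unique hF hw₀ (c := (1 : Fin D.rank → kˣ)) (c' := τ')
        (uL_mem hF y') (uL_mem hF y) (uR_mem hF y') hmem (by
          rw [map_one, mul_one]
          show conjEl hF w₀ y' = _
          rw [hxx, conjEl]
          calc uL hF y * nWord hF w₀ * uR hF y * torusHom τ
              = uL hF y * (nWord hF w₀ * torusHom τ) *
                  ((torusHom τ)⁻¹ * uR hF y * torusHom τ) := by group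
            _ = _ := by rw [hτ']; group)
      rw [map_one] at h2
      rw [← h2, one_mul, mul_eq_left] at hτ'
      rw [hτ', inv_one, one_mul, mul_one] at h3
      have hev := hF.nroots_even
      funext v
      rcases v with a | j | a
      · have := prodFrom_inj hF _ _ rfl le_rfl h1 (half D + a) (Nat.le_add_right _ _)
          (by have := a.2; omega)
        rw [uPar, uPar, dif_pos (by simp [a.2]), dif_pos (by simp [a.2])] at this
        simpa using this.symm
      · show y (Sum.inr (Sum.inl j)) = y' (Sum.inr (Sum.inl j))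
        rw [← cUnit_val hT, hcc, cUnit_val hT']
      · have := prodFrom_inj hF _ _ rfl le_rfl h3 (half D + a) (Nat.le_add_right _ _)
          (by have := a.2; omega)
        rw [uPar, uPar, dif_pos (by simp [a.2]), dif_pos (by simp [a.2])] at this
        simpa using this.symm
    have := Fintype.card_le_of_injective G hG
    rwa [Fintype.card_coe] at this
  have hcount2 : P0.card ≤ Mult * (P0.image fun y => conjPt hF w₀ y).card :=
    Finset.card_le_mul_card_image P0 _ hfib
  -- the contradiction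
  have h4 : (P0.image fun y => conjPt hF w₀ y).card ≤
      fC.totalDegree * e ^ (n - 1) * Q ^ (n - 1) := by
    have h5 : (P0.image fun y => conjPt hF w₀ y).card ≤ fC.totalDegree * S1.card ^ (n - 1) := by
      refine Nat.le_of_mul_le_mul_right ?_ hS1pos
      rwa [mul_assoc, ← pow_succ, Nat.sub_add_cancel hn0]
    refine h5.trans ?_
    rw [mul_assoc, ← mul_pow, mul_comm e Q]
    exact Nat.mul_le_mul_left _ (Nat.pow_le_pow_left hS1card _)
  have h6 : Q ^ n ≤ C * Q ^ (n - 1) := by
    calc Q ^ n ≤ P0.card + bad.totalDegree * Q ^ (n - 1) := hcount0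
      _ ≤ Mult * (fC.totalDegree * e ^ (n - 1) * Q ^ (n - 1)) + bad.totalDegree * Q ^ (n - 1) :=
          Nat.add_le_add_right (hcount2.trans (Nat.mul_le_mul_left _ h4)) _
      _ = C * Q ^ (n - 1) := by rw [hC]; ring
  rw [← Nat.sub_add_cancel hn0, pow_succ', Nat.succ_sub_one] at h6
  exact absurd (Nat.le_of_mul_le_mul_right h6 (pow_pos hQ0 _)) (by omega)

end Cfsg.Agent.Chev.SS
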