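import Cfsg.Agent.Chev.Semisimple.Cell
import Cfsg.Agent.Chev.Semisimple.Cent
import Mathlib.Algebra.MvPolynomial.Funext
import Mathlib.Algebra.MvPolynomial.SchwartzZippel

/-!
Functions of parameters of the big cell which are Laurent polynomials in the torus parameters.
-/

set_option autoImplicit false

namespace Cfsg.Agent.Chev.SS

open Cfsg.Lie Cfsg.Agent.Chev
open scoped MatrixGroups

universe u

/-- The parameters: two families for the positive roots and one for the torus. -/
abbrev Var (D : ChevalleyDatum) : Type := Fin (half D) ⊕ (Fin D.rank ⊕ Fin (half D))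

variable (k : Type u) [Field k] (D : ChevalleyDatum)

/-- A function of the parameters over all extensions. -/
abbrev PFn : Type (u + 1) := ∀ (K : Type u) [Field K] [Algebra k K], (Var D → K) → K

/-- The torus parameters are nonzero. -/
def TorusPt {K : Type u} [Field K] (y : Var D → K) : Prop :=
  ∀ j : Fin D.rank, y (Sum.inr (Sum.inl j)) ≠ 0

/-- The product of the torus parameters. -/
noncomputable def den : MvPolynomial (Var D) k :=
  ∏ j : Fin D.rank, MvPolynomial.X (Sum.inr (Sum.inl j))

variable {k D}

theorem aeval_den {K : Type u} [Field K] [Algebra k K] (y : Var D → K) :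
    MvPolynomial.aeval y (den k D) = ∏ j : Fin D.rank, y (Sum.inr (Sum.inl j)) := by
  simp [den]

theorem aeval_den_ne_zero {K : Type u} [Field K] [Algebra k K] {y : Var D → K} (hy : TorusPt D y) :
    MvPolynomial.aeval y (den k D) ≠ 0 := by
  rw [aeval_den]; exact Finset.prod_ne_zero_iff.2 fun j _ => hy j

theorem den_ne_zero : den k D ≠ 0 := fun h => by
  have h1 : TorusPt D (fun _ => (1 : k)) := fun _ => one_ne_zero
  exact aeval_den_ne_zero h1 (by rw [h, map_zero])

/-- Laurent polynomials in the torus parameters. -/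
def Good (k : Type u) [Field k] (D : ChevalleyDatum) (φ : PFn k D) : Prop :=
  ∃ (f : MvPolynomial (Var D) k) (M : ℕ), ∀ (K : Type u) [Field K] [Algebra k K] (y : Var D → K),
    TorusPt D y → φ K y * (MvPolynomial.aeval y (den k D)) ^ M = MvPolynomial.aeval y f

theorem Good.congr {φ ψ : PFn k D} (h : Good k D φ)
    (e : ∀ (K : Type u) [Field K] [Algebra k K] (y : Var D → K), TorusPt D y → ψ K y = φ K y) :
    Good k D ψ := by
  obtain ⟨f, M, hf⟩ := h
  exact ⟨f, M, fun K _ _ y hy => by rw [e K y hy]; exact hf K y hy⟩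

theorem good_const (a : k) : Good k D fun K _ _ _ => algebraMap k K a :=
  ⟨MvPolynomial.C a, 0, fun K _ _ y _ => by simp⟩

theorem good_var (v : Var D) : Good k D fun _ _ _ y => y v :=
  ⟨MvPolynomial.X v, 0, fun K _ _ y _ => by simp⟩

theorem good_inv (j : Fin D.rank) : Good k D fun _ _ _ y => (y (Sum.inr (Sum.inl j)))⁻¹ := by
  classical
  refine ⟨∏ i ∈ Finset.univ.erase j, MvPolynomial.X (Sum.inr (Sum.inl i)), 1, fun K _ _ y hy => ?_⟩
  rw [pow_one, aeval_den, map_prod]
  simp only [MvPolynomial.aeval_X]
  rw [← Finset.mul_prod_erase Finset.univ _ (Finset.mem_univ j), ← mul_assoc,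
    inv_mul_cancel₀ (hy j), one_mul]

theorem Good.mul {φ ψ : PFn k D} (h : Good k D φ) (h' : Good k D ψ) :
    Good k D fun K _ _ y => φ K y * ψ K y := by
  obtain ⟨f, M, hf⟩ := h
  obtain ⟨g, N, hg⟩ := h'
  refine ⟨f * g, M + N, fun K _ _ y hy => ?_⟩
  rw [map_mul, ← hf K y hy, ← hg K y hy, pow_add]
  ring

theorem Good.add {φ ψ : PFn k D} (h : Good k D φ) (h' : Good k D ψ) :
    Good k D fun K _ _ y => φ K y + ψ K y := by
  obtain ⟨f, M, hf⟩ := h
  obtain ⟨g, N, hg⟩ := h'
  refine ⟨f * den k D ^ N + g * den k D ^ M, M + N, fun K _ _ y hy => ?_⟩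
  rw [map_add, map_mul, map_mul, ← hf K y hy, ← hg K y hy, map_pow, map_pow, pow_add]
  ring

theorem good_zero : Good k D fun _ _ _ _ => 0 :=
  (good_const 0).congr fun K _ _ _ _ => (map_zero _).symm

theorem good_one : Good k D fun _ _ _ _ => 1 :=
  (good_const 1).congr fun K _ _ _ _ => (map_one _).symm

theorem good_sum {α : Type*} (s : Finset α) {φ : α → PFn k D} (h : ∀ a ∈ s, Good k D (φ a)) :
    Good k D fun K _ _ y => ∑ a ∈ s, φ a K y := by
  classical
  induction s using Finset.induction_on with
  | empty => simpa using good_zero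
  | insert a s ha ih =>
    simp only [Finset.sum_insert ha]
    exact (h a (Finset.mem_insert_self a s)).add
      (ih fun b hb => h b (Finset.mem_insert_of_mem hb))

theorem good_prod {α : Type*} (s : Finset α) {φ : α → PFn k D} (h : ∀ a ∈ s, Good k D (φ a)) :
    Good k D fun K _ _ y => ∏ a ∈ s, φ a K y := by
  classical
  induction s using Finset.induction_on with
  | empty => simpa using good_one
  | insert a s ha ih =>
    simp only [Finset.prod_insert ha]
    exact (h a (Finset.mem_insert_self a s)).mul
      (ih fun b hb => h b (Finset.mem_insert_of_mem hb))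

theorem Good.pow {φ : PFn k D} (h : Good k D φ) (n : ℕ) : Good k D fun K _ _ y => φ K y ^ n := by
  induction n with
  | zero => simpa using good_one
  | succ n ih => simp only [pow_succ]; exact ih.mul h

theorem good_zpow (j : Fin D.rank) (a : ℤ) :
    Good k D fun _ _ _ y => (y (Sum.inr (Sum.inl j))) ^ a := by
  cases a with
  | ofNat n => exact ((good_var _).pow n).congr fun K _ _ y _ => zpow_natCast _ _
  | negSucc n =>
    exact ((good_inv j).pow (n + 1)).congr fun K _ _ y _ => by rw [zpow_negSucc, inv_pow]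

theorem good_mvPoly {σ : Type*} {φ : σ → PFn k D} (h : ∀ i, Good k D (φ i))
    (p : MvPolynomial σ k) : Good k D fun K _ _ y => MvPolynomial.aeval (fun i => φ i K y) p := by
  induction p using MvPolynomial.induction_on with
  | C a => exact (good_const a).congr fun K _ _ y _ => by simp
  | add a b ha hb => exact (ha.add hb).congr fun K _ _ y _ => map_add _ _ _
  | mul_X a i ha => exact (ha.mul (h i)).congr fun K _ _ y _ => by simp

theorem good_intPoly {φ : PFn k D} (h : Good k D φ) (P : Polynomial ℤ) :
    Good k D fun K _ _ y => P.eval₂ (Int.castRingHom K) (φ K y) := by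
  induction P using Polynomial.induction_on' with
  | add a b ha hb => exact (ha.add hb).congr fun K _ _ y _ => Polynomial.eval₂_add _ _
  | monomial n c =>
    exact ((good_const (c : k)).mul (h.pow n)).congr fun K _ _ y _ => by
      rw [Polynomial.eval₂_monomial, map_intCast]; rfl

/-- The numerator of a function nonzero at some point is nonzero. -/
theorem Good.exists_poly {φ : PFn k D} (h : Good k D φ) :
    ∃ f : MvPolynomial (Var D) k, ∀ (K : Type u) [Field K] [Algebra k K] (y : Var D → K),
      TorusPt D y → (φ K y = 0 ↔ MvPolynomial.aeval y f = 0) := by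
  obtain ⟨f, M, hf⟩ := h
  refine ⟨f, fun K _ _ y hy => ?_⟩
  rw [← hf K y hy, mul_eq_zero]
  exact ⟨Or.inl, fun h => h.resolve_right (pow_ne_zero _ (aeval_den_ne_zero hy))⟩

variable (hF : Facts.{u} D)
include hF

/-- Group element valued functions. -/
abbrev GFn (k : Type u) [Field k] (D : ChevalleyDatum) : Type (u + 1) :=
  ∀ (K : Type u) [Field K] [Algebra k K], (Var D → K) → GL D.Idx K

omit hF in
/-- The entries and those of the inverse are Laurent polynomials. -/
def GoodG (k : Type u) [Field k] (D : ChevalleyDatum) (Φ : GFn k D) : Prop :=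
  ∀ a b, Good k D (fun K _ _ y => (Φ K y : Matrix D.Idx D.Idx K) a b) ∧
    Good k D (fun K _ _ y => (((Φ K y)⁻¹ : GL D.Idx K) : Matrix D.Idx D.Idx K) a b)

omit hF in
theorem GoodG.mul {Φ Ψ : GFn k D} (h : GoodG k D Φ) (h' : GoodG k D Ψ) :
    GoodG k D fun K _ _ y => Φ K y * Ψ K y := fun a b =>
  ⟨(good_sum Finset.univ fun c _ => ((h a c).1).mul ((h' c b).1)).congr fun K _ _ y _ => by
      rw [Units.val_mul, Matrix.mul_apply],
    (good_sum Finset.univ fun c _ => ((h' a c).2).mul ((h c b).2)).congr fun K _ _ y _ => by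
      rw [mul_inv_rev, Units.val_mul, Matrix.mul_apply]⟩

omit hF in
theorem GoodG.inv {Φ : GFn k D} (h : GoodG k D Φ) : GoodG k D fun K _ _ y => (Φ K y)⁻¹ := fun a b =>
  ⟨(h a b).2, (h a b).1.congr fun K _ _ y _ => by rw [inv_inv]⟩

omit hF in
theorem goodG_one : GoodG k D fun K _ _ _ => (1 : GL D.Idx K) := fun a b => by
  constructor <;>
    refine (good_const (if a = b then 1 else 0)).congr fun K _ _ y _ => ?_ <;>
    simp [Matrix.one_apply, apply_ite (algebraMap k K)]

theorem goodG_xG (r : ℕ) {φ : PFn k D} (h : Good k D φ) :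
    GoodG k D fun K _ _ y => xG hF r (φ K y) := by
  by_cases hr : r < D.nroots
  · have key : ∀ ψ : PFn k D, Good k D ψ → ∀ a b, Good k D fun K _ _ y => D.x K r (ψ K y) a b :=
      fun ψ hψ a b => (good_intPoly hψ (xPolyZ D ⟨r, hr⟩ a b)).congr fun K _ _ y _ => by
        rw [show D.x K r (ψ K y) = xR D ⟨r, hr⟩ (ψ K y) from (xR_eq (⟨r, hr⟩ : Fin D.nroots) _).symm]
        rfl
    have hneg : Good k D fun K _ _ y => -φ K y :=
      ((good_const (-1 : k)).mul h).congr fun K _ _ y _ => by simp
    exact fun a b => ⟨(key φ h a b).congr fun K _ _ y _ => by rw [xG_val],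
      (key _ hneg a b).congr fun K _ _ y _ => by rw [xG_inv, xG_val]⟩
  · intro a b
    exact ⟨(goodG_one a b).1.congr fun K _ _ y _ => by rw [xG_val, x_of_ge hr, Units.val_one],
      (goodG_one a b).1.congr fun K _ _ y _ => by rw [xG_inv, xG_val, x_of_ge hr, Units.val_one]⟩

theorem goodG_prodFrom {t : ℕ → PFn k D} (h : ∀ r, Good k D (t r)) (m : ℕ) :
    GoodG k D fun K _ _ y => prodFrom hF m fun r => t r K y := by
  suffices H : ∀ l : List ℕ, GoodG k D fun K _ _ y => wordG hF (l.map fun r => (r, t r K y)) from H _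
  intro l
  induction l with
  | nil => simpa [wordG] using goodG_one
  | cons a l ih =>
    simp only [List.map_cons, wordG_cons]
    exact (goodG_xG hF a (h a)).mul ih

omit hF in
/-- The torus parameters as units. -/
noncomputable def cUnit {K : Type u} [Field K] (y : Var D → K) (j : Fin D.rank) : Kˣ := by
  classical
  exact if h : y (Sum.inr (Sum.inl j)) = 0 then 1 else Units.mk0 _ h

omit hF in
theorem cUnit_val {K : Type u} [Field K] {y : Var D → K} (hy : TorusPt D y) (j : Fin D.rank) :
    ((cUnit y j : Kˣ) : K) = y (Sum.inr (Sum.inl j)) := by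
  rw [cUnit, dif_neg (hy j), Units.val_mk0]

omit hF in
theorem good_chiU (s : ℕ) (ε : ℤ) :
    Good k D fun _ _ _ (y : Var D → _) => ((chiU (cUnit y) s ^ ε : _ˣ) : _) := by
  refine (good_prod Finset.univ fun j _ => good_zpow j (D.cartan j s * ε)).congr
    fun K _ _ y hy => ?_
  rw [chiU, ← Finset.prod_zpow, Units.coe_prod]
  refine Finset.prod_congr rfl fun j _ => ?_
  rw [← zpow_mul, Units.val_zpow_eq_zpow_val, cUnit_val hy]

omit hF in
theorem goodG_torus : GoodG k D fun _ _ _ (y : Var D → _) => torusHom (cUnit y) := by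
  intro a b
  have key : ∀ ε : ℤ, Good k D fun K _ _ (y : Var D → K) =>
      if a = b then Sum.elim (fun _ => (1 : K))
        (fun s : Fin D.nroots => ((chiU (cUnit y) s ^ ε : Kˣ) : K)) a else 0 := by
    intro ε
    by_cases hab : a = b
    · simp only [if_pos hab]
      rcases a with j | s
      · exact good_one
      · exact good_chiU _ ε
    · simp only [if_neg hab]
      exact good_zero
  refine ⟨(key 1).congr fun K _ _ y _ => ?_, (key (-1)).congr fun K _ _ y _ => ?_⟩
  · rw [torusHom_apply]
    simp
  · rw [← map_inv, torusHom_apply]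
    simp [chiU]

theorem goodG_nWord (w : List (Fin D.rank)) :
    GoodG k D fun K _ _ (_ : Var D → K) => nWord hF w := fun a b =>
  ⟨(good_const _).congr fun K _ _ y _ => by
      show ((nWord hF w : GL D.Idx K) : Matrix D.Idx D.Idx K) a b =
        algebraMap k K (((nWord hF w : GL D.Idx k) : Matrix D.Idx D.Idx k) a b)
      rw [← gmap_nWord hF hF (algebraMap k K) w, gmap_apply],
    (good_const _).congr fun K _ _ y _ => by
      show (((nWord hF w)⁻¹ : GL D.Idx K) : Matrix D.Idx D.Idx K) a b =
        algebraMap k K ((((nWord hF w)⁻¹ : GL D.Idx k) : Matrix D.Idx D.Idx k) a b)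
      rw [← gmap_nWord hF hF (algebraMap k K) w, ← map_inv, gmap_apply]⟩

omit hF in
/-- The parameters of a positive unipotent element. -/
def uPar {K : Type u} [Field K] (sel : Fin (half D) → Var D) (y : Var D → K) (r : ℕ) : K :=
  if h : r - half D < half D then y (sel ⟨r - half D, h⟩) else 0

/-- The positive unipotent element of the first family. -/
def uL {K : Type u} [Field K] (y : Var D → K) : GL D.Idx K :=
  prodFrom hF (half D) (uPar Sum.inl y)

/-- The positive unipotent element of the second family. -/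
def uR {K : Type u} [Field K] (y : Var D → K) : GL D.Idx K :=
  prodFrom hF (half D) (uPar (fun a => Sum.inr (Sum.inr a)) y)

theorem goodG_u (sel : Fin (half D) → Var D) :
    GoodG k D fun _ _ _ y => prodFrom hF (half D) (uPar sel y) := by
  refine goodG_prodFrom hF (t := fun r _ _ _ y => uPar sel y r) (fun r => ?_) _
  by_cases h : r - half D < half D
  · exact (good_var (sel ⟨r - half D, h⟩)).congr fun K _ _ y _ => dif_pos h
  · exact good_zero.congr fun K _ _ y _ => dif_neg h

/-- A point of the big cell. -/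
noncomputable def bigPt (w₀ : List (Fin D.rank)) {K : Type u} [Field K] (y : Var D → K) :
    GL D.Idx K :=
  uL hF y * torusHom (cUnit y) * nWord hF w₀ * uR hF y

/-- The conjugating element. -/
noncomputable def conjEl (w₀ : List (Fin D.rank)) {K : Type u} [Field K] (y : Var D → K) :
    GL D.Idx K :=
  uL hF y * nWord hF w₀ * uR hF y

/-- A conjugate of a torus element. -/
noncomputable def conjPt (w₀ : List (Fin D.rank)) {K : Type u} [Field K] (y : Var D → K) :
    GL D.Idx K :=
  conjEl hF w₀ y * torusHom (cUnit y) * (conjEl hF w₀ y)⁻¹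

theorem goodG_bigPt (w₀ : List (Fin D.rank)) :
    GoodG k D fun _ _ _ y => bigPt hF w₀ y :=
  (((goodG_u hF _).mul goodG_torus).mul (goodG_nWord hF w₀)).mul (goodG_u hF _)

theorem goodG_conjPt (w₀ : List (Fin D.rank)) :
    GoodG k D fun _ _ _ y => conjPt hF w₀ y :=
  have h := ((goodG_u hF Sum.inl).mul (goodG_nWord hF w₀)).mul
    (goodG_u hF fun a => Sum.inr (Sum.inr a))
  (h.mul goodG_torus).mul h.inv

omit hF in
theorem good_eval {Φ : GFn k D} (h : GoodG k D Φ) (p : MvPolynomial (D.Idx × D.Idx) k) :
    Good k D fun K _ _ y => MvPolynomial.aeval (ent (Φ K y : Matrix D.Idx D.Idx K)) p :=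
  good_mvPoly (φ := fun (q : D.Idx × D.Idx) K _ _ y =>
    (Φ K y : Matrix D.Idx D.Idx K) q.1 q.2) (fun q => (h q.1 q.2).1) p

omit hF in
/-- The regularity function. -/
noncomputable def regFn {K : Type u} [Field K] (y : Var D → K) : K :=
  ∏ r : Fin D.nroots, (((chiU (cUnit y) (r : ℕ) : Kˣ) : K) - 1)

omit hF in
theorem good_regFn : Good k D fun _ _ _ (y : Var D → _) => regFn y :=
  (good_prod Finset.univ fun (r : Fin D.nroots) _ =>
    (good_chiU (r : ℕ) 1).add (good_const (-1 : k))).congr fun K _ _ y _ => by
      simp [regFn, sub_eq_add_neg]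

omit hF in
/-- The Schwartz–Zippel bound. -/
theorem card_zeros_mul_le {σ : Type*} [Fintype σ] [DecidableEq σ] [DecidableEq k]
    {f : MvPolynomial σ k} (hf : f ≠ 0) (S : Finset k) :
    ((Fintype.piFinset fun _ : σ => S).filter fun y => MvPolynomial.eval y f = 0).card * S.card ≤
      f.totalDegree * S.card ^ Fintype.card σ := by
  classical
  set e := Fintype.equivFin σ
  have hg : MvPolynomial.rename e f ≠ 0 := fun h =>
    hf (MvPolynomial.rename_injective e e.injective (by rw [h, map_zero]))
  have hdeg : (MvPolynomial.rename e f).totalDegree ≤ f.totalDegree :=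
    MvPolynomial.totalDegree_rename_le _ _
  have hcard : ((Fintype.piFinset fun _ : σ => S).filter fun y => MvPolynomial.eval y f = 0).card =
      ((Fintype.piFinset fun _ : Fin (Fintype.card σ) => S).filter
        fun y => MvPolynomial.eval y (MvPolynomial.rename e f) = 0).card := by
    refine Finset.card_bij' (fun y _ => y ∘ e.symm) (fun y _ => y ∘ e) (fun y hy => ?_)
      (fun y hy => ?_) (fun y _ => by funext i; simp) (fun y _ => by funext i; simp)
    · simp only [Finset.mem_filter, Fintype.mem_piFinset] at hy ⊢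
      refine ⟨fun i => hy.1 _, ?_⟩
      rw [MvPolynomial.eval_rename]
      simpa [Function.comp_assoc] using hy.2
    · simp only [Finset.mem_filter, Fintype.mem_piFinset] at hy ⊢
      refine ⟨fun i => hy.1 _, ?_⟩
      rw [← MvPolynomial.eval_rename]
      exact hy.2
  rw [hcard]
  rcases S.eq_empty_or_nonempty with rfl | hS
  · simp
  · have h := MvPolynomial.schwartz_zippel_totalDegree hg S
    have hS0 : (0 : ℚ≥0) < S.card := by exact_mod_cast hS.card_pos
    rw [div_le_div_iff₀ (pow_pos hS0 _) hS0] at h
    refine le_trans ?_ (Nat.mul_le_mul_right _ hdeg)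
    exact_mod_cast h

end Cfsg.Agent.Chev.SS
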