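import Cfsg.Agent.Chev.Functorial
import Mathlib.Algebra.Polynomial.Eval.Coeff

/-!
Root elements with coefficients in a commutative ring, and their images under ring maps.
-/

set_option autoImplicit false

namespace Cfsg.Agent.Chev.SS

open Cfsg.Lie
open scoped MatrixGroups

universe u v

variable {D : ChevalleyDatum}

/-- The matrix of `x_r(T)` with integral polynomial entries. -/
noncomputable def xPolyZ (D : ChevalleyDatum) (r : Fin D.nroots) :
    Matrix D.Idx D.Idx (Polynomial ℤ) :=
  Matrix.of fun row col =>
    match col with
    | Sum.inl i =>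
      (match row with
       | Sum.inl i' => if i' = i then 1 else 0
       | Sum.inr u => if u = r then
          - (((D.cartanSR.getD i.val #[]).getD r.val 0 : ℤ) : Polynomial ℤ) * Polynomial.X else 0)
    | Sum.inr s =>
      if s = r then (match row with | Sum.inr u => if u = r then 1 else 0 | Sum.inl _ => 0)
      else if s.val = D.negIdx.getD r.val 0 then
        (match row with
         | Sum.inl i => (((D.coroot.getD r.val #[]).getD i.val 0 : ℤ) : Polynomial ℤ) * Polynomial.X
         | Sum.inr u => if u = s then 1 else if u = r then -(Polynomial.X ^ 2) else 0)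
      else
        (match row with
         | Sum.inl _ => 0
         | Sum.inr u => (if u = s then 1 else 0) +
             ((D.chainCoeff r.val s.val u.val).map fun km =>
               ((km.2 : ℤ) : Polynomial ℤ) * Polynomial.X ^ km.1).sum)

/-- A root element with coefficient in a commutative ring. -/
noncomputable def xR (D : ChevalleyDatum) {R : Type v} [CommRing R] (r : Fin D.nroots) (t : R) :
    Matrix D.Idx D.Idx R :=
  (xPolyZ D r).map (Polynomial.eval₂ (Int.castRingHom R) t)

theorem xR_map {R : Type v} [CommRing R] {R' : Type u} [CommRing R'] (f : R →+* R')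
    (r : Fin D.nroots) (t : R) : (xR D r t).map f = xR D r (f t) := by
  ext a b
  simp only [xR, Matrix.map_apply]
  rw [Polynomial.hom_eval₂]
  congr 1
  exact RingHom.ext_int _ _

theorem xR_eq {F : Type u} [Field F] (r : Fin D.nroots) (t : F) : xR D r t = D.x F r t := by
  rw [ChevalleyDatum.x, dif_pos r.2]
  ext a b
  simp only [xR, xPolyZ, Matrix.map_apply, Matrix.of_apply, ChevalleyDatum.xMat, Fin.eta,
    ← Polynomial.coe_eval₂RingHom]
  rcases b with j | s <;> rcases a with j' | w <;> dsimp only <;> (try split_ifs) <;>
    simp [-Polynomial.coe_eval₂RingHom, map_list_sum, List.map_map, Function.comp_def,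
      show ∀ s : F, Polynomial.eval₂RingHom (Int.castRingHom F) s Polynomial.X = s from
        fun s => Polynomial.eval₂_X _ _]

/-- An element of a domain embedded in a field is invertible if its image is. -/
noncomputable def xU (D : ChevalleyDatum) {F : Type u} [Field F] (hF : Facts.{u} D)
    (V : Subring F) (r : Fin D.nroots) (t : V) : GL D.Idx V :=
  ⟨xR D r t, xR D r (-t), by
    apply Matrix.map_injective (f := V.subtype) Subtype.val_injective
    show V.subtype.mapMatrix _ = V.subtype.mapMatrix 1
    rw [map_mul, map_one, RingHom.mapMatrix_apply, RingHom.mapMatrix_apply, xR_map, xR_map, xR_eq,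
      xR_eq, map_neg]
    exact x_mul_neg hF _ _, by
    apply Matrix.map_injective (f := V.subtype) Subtype.val_injective
    show V.subtype.mapMatrix _ = V.subtype.mapMatrix 1
    rw [map_mul, map_one, RingHom.mapMatrix_apply, RingHom.mapMatrix_apply, xR_map, xR_map, xR_eq,
      xR_eq, map_neg]
    exact x_neg_mul hF _ _⟩

theorem map_xU {F : Type u} [Field F] (hF : Facts.{u} D) (V : Subring F) {L : Type u} [Field L]
    (f : V →+* L) (r : Fin D.nroots) (t : V) :
    Matrix.GeneralLinearGroup.map f (xU D hF V r t) = xG hF (r : ℕ) (f t) := by
  apply Units.ext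
  show (xR D r t).map f = D.x L r (f t)
  rw [xR_map, xR_eq]

end Cfsg.Agent.Chev.SS
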